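import Mathlib

/-!
An elementary abelian 2-subgroup whose involutions have centralizers in its normalizer and which is strongly
closed there: it is normal, or its normalizer is transitive on its involutions.
-/

set_option autoImplicit false
set_option linter.all false

namespace Cfsg.Agent.J4V

variable {X : Type*} [Group X]

/-- An element moving an involution of `V` into `V` normalizes `V`. -/
theorem mem_normalizer_of_ti [Finite X] (V : Subgroup X) (hcomm : ∀ a ∈ V, ∀ b ∈ V, a * b = b * a)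
    (h1 : ∀ v ∈ V, v ≠ 1 → Subgroup.centralizer ({v} : Set X) ≤ Subgroup.normalizer (V : Set X))
    (h2 : ∀ v ∈ V, ∀ x : X, x * v * x⁻¹ ∈ Subgroup.normalizer (V : Set X) → x * v * x⁻¹ ∈ V)
    {g v : X} (hv : v ∈ V) (hv1 : v ≠ 1) (hg : g * v * g⁻¹ ∈ V) : g ∈ Subgroup.normalizer (V : Set X) := by
  have hle : ∀ a ∈ V, g * a * g⁻¹ ∈ V := by
    intro a ha
    refine h2 a ha g (h1 _ hg (fun e => hv1 (conj_eq_one_iff.1 e)) (Subgroup.mem_centralizer_singleton_iff.2 ?_))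
    calc g * a * g⁻¹ * (g * v * g⁻¹) = g * (a * v) * g⁻¹ := by group
      _ = g * (v * a) * g⁻¹ := by rw [hcomm a ha v hv]
      _ = _ := by group
  have hmap : V.map (MulAut.conj g).toMonoidHom = V := Subgroup.eq_of_le_of_card_ge
    (by rintro _ ⟨a, ha, rfl⟩; exact hle a ha)
    (by rw [Subgroup.card_map_of_injective (f := (MulAut.conj g).toMonoidHom) (MulAut.conj g).injective])
  refine Subgroup.mem_normalizer_iff.2 fun a => ⟨hle a, fun ha => ?_⟩
  have h' : g * a * g⁻¹ ∈ V.map (MulAut.conj g).toMonoidHom := hmap.symm ▸ ha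
  obtain ⟨b, hb, hba⟩ := h'
  have hba' : g * b * g⁻¹ = g * a * g⁻¹ := hba
  rwa [← mul_left_cancel (mul_right_cancel hba')]

/-- Normal, or transitive. -/
theorem ti_lemma {X : Type*} [Group X] [Finite X] (V : Subgroup X) (hsq : ∀ v ∈ V, v * v = 1)
    (hcomm : ∀ a ∈ V, ∀ b ∈ V, a * b = b * a)
    (h1 : ∀ v ∈ V, v ≠ 1 → Subgroup.centralizer ({v} : Set X) ≤ Subgroup.normalizer (V : Set X))
    (h2 : ∀ v ∈ V, ∀ x : X, x * v * x⁻¹ ∈ Subgroup.normalizer (V : Set X) → x * v * x⁻¹ ∈ V)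
    {u1 u2 : X} (hu1 : u1 ∈ V) (hu1' : u1 ≠ 1) (hu2 : u2 ∈ V) (hu2' : u2 ≠ 1) :
    (∃ y ∈ Subgroup.normalizer (V : Set X), y * u1 * y⁻¹ = u2) ∨ ∀ g : X, ∀ v ∈ V, g * v * g⁻¹ ∈ V := by
  by_cases hin : ∀ x : X, x * u2 * x⁻¹ ∈ V
  · exact Or.inr fun g v hv => (Subgroup.mem_normalizer_iff.1
      (mem_normalizer_of_ti V hcomm h1 h2 hu2 hu2' (hin g)) v).1 hv
  push Not at hin
  obtain ⟨x, hx⟩ := hin
  set v := x * u2 * x⁻¹ with hv
  have hvY : v ∉ Subgroup.normalizer (V : Set X) := fun h => hx (h2 u2 hu2 x h)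
  by_cases hconj : ∃ y : X, y * u1 * y⁻¹ = u2
  · obtain ⟨y, hy⟩ := hconj
    exact Or.inl ⟨y, mem_normalizer_of_ti V hcomm h1 h2 hu1 hu1' (hy ▸ hu2), hy⟩
  exfalso
  have hu1i : u1⁻¹ = u1 := inv_eq_of_mul_eq_one_right (hsq u1 hu1)
  have hvv : v * v = 1 := by
    rw [hv, show x * u2 * x⁻¹ * (x * u2 * x⁻¹) = x * (u2 * u2) * x⁻¹ by group, hsq u2 hu2, mul_one, mul_inv_cancel]
  have hvi : v⁻¹ = v := inv_eq_of_mul_eq_one_right hvv
  set r := u1 * v with hr
  have hsc : SemiconjBy u1 r r⁻¹ := by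
    show u1 * r = r⁻¹ * u1
    rw [hr, mul_inv_rev, hvi, hu1i, ← mul_assoc, hsq u1 hu1, one_mul, mul_assoc, hsq u1 hu1, mul_one]
  have hpow : ∀ j : ℕ, r ^ j * u1 * (r ^ j)⁻¹ = u1 * (r ^ (2 * j))⁻¹ := by
    intro j
    have h := hsc.inv_right.pow_right j
    rw [inv_inv] at h
    rw [← h.eq, mul_assoc, ← inv_pow, ← pow_add, ← two_mul, inv_pow]
  have hpos : 0 < orderOf r := orderOf_pos r
  rcases Nat.even_or_odd (orderOf r) with ⟨m, hm⟩ | ⟨m, hm⟩
  swap
  · -- odd order: `u1` and `v` are conjugate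
    refine hconj ⟨x⁻¹ * r ^ m, ?_⟩
    have h := hpow m
    have hone : (r ^ (2 * m))⁻¹ = r := inv_eq_of_mul_eq_one_right (by rw [← pow_succ, ← hm, pow_orderOf_eq_one])
    have h3 : u1 * r = v := by rw [hr, ← mul_assoc, hsq u1 hu1, one_mul]
    rw [hone, h3] at h
    rw [show x⁻¹ * r ^ m * u1 * (x⁻¹ * r ^ m)⁻¹ = x⁻¹ * (r ^ m * u1 * (r ^ m)⁻¹) * x by group, h, hv]
    group
  -- even order: the central involution of the dihedral group
  set w := r ^ m with hw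
  have hm0 : 0 < m := by omega
  have hww : w * w = 1 := by rw [hw, ← pow_add, ← hm, pow_orderOf_eq_one]
  have hw1 : w ≠ 1 := pow_ne_one_of_lt_orderOf hm0.ne' (by omega)
  have hwi : w⁻¹ = w := inv_eq_of_mul_eq_one_right hww
  have hu1w : u1 * w = w * u1 := by
    have h := (hsc.pow_right m).eq
    rwa [inv_pow, ← hw, hwi] at h
  have hvw : v * w = w * v := by
    have hrw : Commute w r := Commute.pow_self r m
    have hu : Commute w u1 := hu1w.symm
    have h := hu.mul_right hrw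
    rw [hr, ← mul_assoc, hsq u1 hu1, one_mul] at h
    exact h.eq.symm
  have hwY : w ∈ Subgroup.normalizer (V : Set X) :=
    h1 u1 hu1 hu1' (Subgroup.mem_centralizer_singleton_iff.2 hu1w.symm)
  have hwV : w ∉ V := fun h => hvY (h1 w h hw1 (Subgroup.mem_centralizer_singleton_iff.2 hvw))
  have hprod : u1 * w ∈ Subgroup.normalizer (V : Set X) := mul_mem (Subgroup.le_normalizer hu1) hwY
  -- `u1 * w` is conjugate to `u1` or to `v`
  suffices hmem : u1 * w ∈ V by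
    refine hwV ?_
    have := mul_mem hu1 hmem
    rwa [← mul_assoc, hsq u1 hu1, one_mul] at this
  rcases Nat.even_or_odd m with ⟨i, hi⟩ | ⟨i, hi⟩
  · have h := hpow i
    rw [show 2 * i = m by omega, ← hw, hwi] at h
    rw [← h] at hprod ⊢
    exact h2 u1 hu1 _ hprod
  · have h : u1 * w = (r ^ i)⁻¹ * v * r ^ i := by
      have h3 : u1 * r = v := by rw [hr, ← mul_assoc, hsq u1 hu1, one_mul]
      rw [eq_comm, mul_assoc, inv_mul_eq_iff_eq_mul, ← h3, mul_assoc, hw, ← pow_succ', hi]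
      have h4 : u1 * r ^ i = (r ^ i)⁻¹ * u1 := by rw [(hsc.pow_right i).eq, inv_pow]
      rw [show r ^ (2 * i + 1) = r ^ i * r ^ (i + 1) by rw [← pow_add]; congr 1; omega, ← mul_assoc u1, h4,
        ← mul_assoc (r ^ i), ← mul_assoc (r ^ i), mul_inv_cancel, one_mul]
    rw [h, hv, show (r ^ i)⁻¹ * (x * u2 * x⁻¹) * r ^ i = (r ^ i)⁻¹ * x * u2 * ((r ^ i)⁻¹ * x)⁻¹ by group] at hprod ⊢
    exact h2 u2 hu2 _ hprod

end Cfsg.Agent.J4V
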