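import Cfsg.Agent.Lib.J4Eleven.Hexad

/-!
# Simple groups of order 443520: subgroups meeting the normalizer of `E` in order 960

Such a subgroup lies in the normalizer, or has index 22 and is transitive on the other 21 cosets.
-/

set_option autoImplicit false
set_option linter.style.haveILetI false
set_option linter.unusedSectionVars false

namespace Cfsg.Agent.J4V

open Subgroup
open Cfsg.Agent.M22Order (Setup not_comm)
open Cfsg.Agent.PrimeBlock (exists_pblock')

universe u

variable {G : Type u} [Group G] [Finite G] [IsSimpleGroup G] (hcard : Nat.card G = 443520)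

include hcard

theorem card_normalizer_eleven [Fact (Nat.Prime 11)] (Q : Sylow 11 G) :
    Nat.card (normalizer ((Q : Subgroup G) : Set G)) = 55 := by
  obtain ⟨D, ht, hts⟩ := exists_pblock' (not_comm hcard) (by norm_num) Q
    (M22Order.card_sylow hcard (Or.inr (Or.inr rfl)) Q)
  exact (M22Order.sylow_eleven hcard Q D ht hts).2.2

theorem card_normalizer_seven [Fact (Nat.Prime 7)] (Q : Sylow 7 G) :
    Nat.card (normalizer ((Q : Subgroup G) : Set G)) = 21 := by
  obtain ⟨D, ht, hts⟩ := exists_pblock' (not_comm hcard) (by norm_num) Q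
    (M22Order.card_sylow hcard (Or.inr (Or.inl rfl)) Q)
  rcases M22Order.sylow_seven hcard Q D ht hts with ⟨-, -, h⟩ | ⟨c, hc, h, -⟩
  · exact h
  · rw [M22Order.card_seven hcard] at h
    simp only [M22Order.ec7, List.mem_cons, List.not_mem_nil, or_false, Prod.mk.injEq] at hc
    omega

theorem card_normalizer_five [Fact (Nat.Prime 5)] (Q : Sylow 5 G) :
    Nat.card (normalizer ((Q : Subgroup G) : Set G)) = 20 := by
  obtain ⟨D, ht, hts⟩ := exists_pblock' (not_comm hcard) (by norm_num) Q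
    (M22Order.card_sylow hcard (Or.inl rfl) Q)
  rcases M22Order.sylow_five hcard Q D with ⟨-, -, h⟩ | ⟨c, h2, h, -⟩
  · exact h
  · rw [M22Order.card_five hcard] at h; omega

/-- The counts in a subgroup, and the cosets fixed by one of its Sylow subgroups. -/
theorem sylow_sub {p N : ℕ} [Fact p.Prime] (hp : p = 5 ∨ p = 7 ∨ p = 11)
    (hN : ∀ Q : Sylow p G, Nat.card (normalizer ((Q : Subgroup G) : Set G)) = N) (S : Subgroup G)
    (hdvd : p ∣ Nat.card S) :
    ∃ (P : Sylow p ↥S) (M : Subgroup G) (n d : ℕ), Nat.card M = N ∧ Nat.card ↥(M ⊓ S) = d ∧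
      n % p = 1 ∧ n * d = Nat.card S ∧ d ∣ N ∧
      ∀ g : G, (∀ x ∈ (P : Subgroup ↥S), g⁻¹ * (x : G) * g ∈ S) → ∃ m ∈ M, (QuotientGroup.mk g : G ⧸ S) = QuotientGroup.mk m := by
  classical
  obtain ⟨P⟩ : Nonempty (Sylow p ↥S) := inferInstance
  set P0 := (P : Subgroup ↥S).map S.subtype with hP0
  have hcP : Nat.card P0 = Nat.card P := card_map_of_injective S.subtype_injective
  obtain ⟨Q, hQ⟩ := (P.isPGroup'.map S.subtype).exists_le_sylow
  have hQp : Nat.card (Q : Subgroup G) = p := M22Order.card_sylow hcard hp Q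
  have hQe : (Q : Subgroup G) = P0 := by
    refine (eq_of_le_of_card_ge hQ ?_).symm
    rw [hcP, hQp]
    exact Nat.le_of_dvd Nat.card_pos (P.dvd_card_of_dvd_card hdvd)
  set M := normalizer (P0 : Set G) with hM
  have e : (normalizer ((P : Subgroup ↥S) : Set ↥S)) = M.subgroupOf S := by
    ext s
    rw [mem_subgroupOf]
    constructor
    · intro hs
      refine M22Order.mem_normalizer_of_conj ?_
      rintro _ ⟨x, hx, rfl⟩
      exact ⟨_, M22Order.conj_mem_of_mem_normalizer hs hx, rfl⟩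
    · intro hs
      refine M22Order.mem_normalizer_of_conj fun x hx => ?_
      obtain ⟨y, hy, e⟩ := M22Order.conj_mem_of_mem_normalizer hs (mem_map_of_mem S.subtype hx)
      rwa [show s * x * s⁻¹ = y from Subtype.ext e.symm]
  have hMN : Nat.card M = N := by rw [hM, ← hQe]; exact hN Q
  refine ⟨P, M, Nat.card (Sylow p ↥S), Nat.card ↥(M ⊓ S), hMN, rfl, ?_, ?_, ?_, ?_⟩
  · have := card_sylow_modEq_one p ↥S
    rwa [Nat.ModEq, Nat.one_mod_eq_one.2 (Fact.out : p.Prime).ne_one] at this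
  · rw [P.card_eq_index_normalizer, show normalizer (P : Set ↥S) = M.subgroupOf S from e,
      ← (M.subgroupOf S).index_mul_card]
    congr 1
    rw [← inf_subgroupOf_right M S]
    exact (Nat.card_congr (subgroupOfEquivOfLe inf_le_right).toEquiv).symm
  · rw [← hMN]; exact card_dvd_of_le inf_le_left
  · intro g hg
    let f : ↥(P : Subgroup ↥S) →* ↥S :=
      MonoidHom.mk' (fun x => ⟨g⁻¹ * ((x : ↥S) : G) * g, hg _ x.2⟩) fun a b =>
        Subtype.ext (by simp [mul_assoc])
    have hf : IsPGroup p f.range := IsPGroup.of_surjective P.isPGroup' f.rangeRestrict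
      f.rangeRestrict_surjective
    obtain ⟨R, hR⟩ := hf.exists_le_sylow
    obtain ⟨s, hs⟩ := MulAction.exists_smul_eq ↥S R P
    have hn : (s : G) * g⁻¹ ∈ M := M22Order.mem_normalizer_of_conj (by
      rintro _ ⟨x, hx, rfl⟩
      have h1 : s * f ⟨x, hx⟩ * s⁻¹ ∈ (P : Subgroup ↥S) :=
        (SetLike.ext_iff.1 hs _).1 ⟨_, hR ⟨⟨x, hx⟩, rfl⟩, rfl⟩
      refine ⟨_, h1, ?_⟩
      show (s : G) * (g⁻¹ * (x : G) * g) * (s : G)⁻¹ = (s : G) * g⁻¹ * (x : G) * ((s : G) * g⁻¹)⁻¹
      group)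
    refine ⟨_, inv_mem hn, QuotientGroup.eq.2 ?_⟩
    rw [show g⁻¹ * ((s : G) * g⁻¹)⁻¹ = (s : G)⁻¹ by group]
    exact inv_mem s.2

theorem core_trivial (S0 : Setup G) (S : Subgroup G) (hE : S0.E ≤ S)
    (hK : Nat.card ↥(S ⊓ normalizer (S0.E : Set G)) = 960) (hS : ¬ S ≤ normalizer (S0.E : Set G)) :
    ((normalizer (S0.E : Set G)).subgroupOf S).normalCore = ⊥ := by
  set N := normalizer (S0.E : Set G)
  set C := (N.subgroupOf S).normalCore
  have hCN : ∀ c ∈ C, ((c : ↥S) : G) ∈ N := fun c hc => mem_subgroupOf.1 (normalCore_le _ hc)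
  set C0 := C.map S.subtype with hC0
  have hn : ∀ s ∈ S, ∀ c ∈ C0, s * c * s⁻¹ ∈ C0 := by
    rintro s hs _ ⟨c, hc, rfl⟩
    exact ⟨_, (normalCore_normal _).conj_mem c hc ⟨s, hs⟩, rfl⟩
  by_cases hU : C0 ⊓ S0.E = ⊥
  · refine (eq_bot_iff_forall _).2 fun c hc => ?_
    have hc0 : (c : G) ∈ C0 := ⟨c, hc, rfl⟩
    have hcen : (c : G) ∈ centralizer (S0.E : Set G) := mem_centralizer_iff.2 fun e he => by
      have h1 : e * (c : G) * e⁻¹ * (c : G)⁻¹ ∈ C0 ⊓ S0.E := mem_inf.2
        ⟨mul_mem (hn e (hE he) _ hc0) (inv_mem hc0), by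
          rw [show e * (c : G) * e⁻¹ * (c : G)⁻¹ = e * ((c : G) * e⁻¹ * (c : G)⁻¹) by group]
          exact mul_mem he (M22Order.conj_mem_of_mem_normalizer (hCN c hc) (inv_mem he))⟩
      rw [hU, mem_bot] at h1
      calc e * (c : G) = (e * (c : G) * e⁻¹ * (c : G)⁻¹) * ((c : G) * e) := by group
        _ = (c : G) * e := by rw [h1, one_mul]
    rw [S0.centralizer_E hcard] at hcen
    have : (c : G) ∈ C0 ⊓ S0.E := mem_inf.2 ⟨hc0, hcen⟩
    rw [hU, mem_bot] at this
    exact Subtype.ext this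
  exfalso
  haveI : Fact (Nat.Prime 5) := ⟨by norm_num⟩
  obtain ⟨⟨g, hg⟩, hg5⟩ := exists_prime_orderOf_dvd_card' (G := ↥(S ⊓ N)) 5 (by rw [hK]; norm_num)
  rw [Subgroup.orderOf_mk] at hg5
  have hZ : zpowers g ≤ S ⊓ N := zpowers_le.2 hg
  have h5 : Nat.card (zpowers g) ∣ (((C0 ⊓ S0.E : Subgroup G) : Set G) \ {1}).ncard := by
    refine M22Order.dvd_card_of_free_conj _ _ (fun p hp y hy => ⟨mem_inf.2
      ⟨hn p (mem_inf.1 (hZ hp)).1 y (mem_inf.1 hy.1).1,
        M22Order.conj_mem_of_mem_normalizer (mem_inf.1 (hZ hp)).2 (mem_inf.1 hy.1).2⟩,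
      fun e => hy.2 (conj_eq_one_iff.1 e)⟩) fun p hp y hy hfix => ?_
    by_contra hne
    have hpy : p ∈ centralizer ({y} : Set G) := mem_centralizer_singleton_iff.2 (mul_inv_eq_iff_eq_mul.1 hfix)
    have hd := Subgroup.orderOf_dvd_natCard _ hpy
    rw [show Nat.card (centralizer ({y} : Set G)) = 384 from
      M22Order.cen_involution hcard (S0.orderOf_mem hcard (mem_inf.1 hy.1).2 hy.2)] at hd
    have hdg : orderOf p ∣ 5 := hg5 ▸ orderOf_dvd_of_mem_zpowers hp
    rcases (Nat.dvd_prime (by norm_num : Nat.Prime 5)).1 hdg with h | h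
    · exact hne (orderOf_eq_one_iff.1 h)
    · rw [h] at hd; norm_num at hd
  rw [Nat.card_zpowers, hg5, Set.ncard_sdiff_singleton_of_mem (one_mem _), ← Nat.card_coe_set_eq] at h5
  change 5 ∣ Nat.card ↥(C0 ⊓ S0.E) - 1 at h5
  have h16 : Nat.card ↥(C0 ⊓ S0.E) ∣ 2 ^ 4 := by
    rw [show (2 : ℕ) ^ 4 = 16 from rfl, ← S0.card_E hcard]; exact card_dvd_of_le inf_le_right
  obtain ⟨i, hi, hie⟩ := (Nat.dvd_prime_pow Nat.prime_two).1 h16
  have hi0 : i ≠ 0 := fun h => hU (eq_bot_of_card_eq _ (by rw [hie, h, pow_zero]))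
  rw [hie] at h5
  obtain rfl : i = 4 := by
    interval_cases i <;> simp_all
  have hEC : S0.E ≤ C0 := by
    have h := eq_of_le_of_card_ge (inf_le_right : C0 ⊓ S0.E ≤ S0.E) (by rw [hie, S0.card_E hcard]; norm_num)
    exact inf_eq_right.1 h
  refine hS fun s hs => ?_
  have h2 : IsPGroup 2 S0.E := IsPGroup.of_card (n := 4) (by rw [S0.card_E hcard]; norm_num)
  refine Cfsg.Agent.J4Eleven.mem_normalizer_of_common hcard S0
    (IsPGroup.to_sup_of_normal_right' (h2.map (MulAut.conj s).toMonoidHom) h2 ?_) le_sup_right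
    fun e he => mem_sup_left ⟨e, he, rfl⟩
  rintro _ ⟨e, he, rfl⟩
  obtain ⟨c, hc, hce⟩ := hn s hs e (hEC he)
  show s * e * s⁻¹ ∈ N
  rw [← hce]
  exact hCN c hc

theorem point_stab (S0 : Setup G) (S : Subgroup G) (hE : S0.E ≤ S)
    (hK : Nat.card ↥(S ⊓ normalizer (S0.E : Set G)) = 960) :
    S ≤ normalizer (S0.E : Set G) ∨ (S.index = 22 ∧ ∀ g h : G, g ∉ S → h ∉ S →
      ∃ a ∈ S, ∃ b ∈ S, g = a * h * b) := by
  classical
  refine or_iff_not_imp_left.2 fun hS => ?_
  set N := normalizer (S0.E : Set G) with hN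
  set j := (N.subgroupOf S).index with hj
  have hcK : Nat.card ↥(N.subgroupOf S) = 960 := by
    rw [← hK, inf_comm, ← inf_subgroupOf_right N S]
    exact Nat.card_congr (subgroupOfEquivOfLe inf_le_right).toEquiv
  have hSc : Nat.card S = 960 * j := by rw [← hcK, hj, card_mul_index]
  have hidx : j * S.index = 462 := by
    have h := S.card_mul_index
    rw [hcard, hSc, mul_assoc] at h
    omega
  -- few cosets of the trace
  have hj7 : 8 ≤ j := by
    by_contra hlt
    push Not at hlt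
    have hker : (MulAction.toPermHom ↥S (↥S ⧸ N.subgroupOf S)).ker = ⊥ := by
      rw [← normalCore_eq_ker]; exact core_trivial hcard S0 S hE hK hS
    have h := Nat.card_le_card_of_injective _ ((MonoidHom.ker_eq_bot_iff _).1 hker)
    rw [hSc, Nat.card_perm, ← Subgroup.index_eq_card, ← hj] at h
    have hj0 : j ≠ 0 := Subgroup.index_ne_zero_of_finite
    have hj1 : j ≠ 1 := fun e => hS (subgroupOf_eq_top.1 (index_eq_one.1 e))
    interval_cases j <;> first | omega | norm_num [Nat.factorial] at h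
  have hb : 8 ≤ S.index := by
    by_contra hlt
    push Not at hlt
    have hST : S ≠ ⊤ := fun e => by
      rw [e, inf_of_le_right le_top, show Nat.card ↥N = 5760 from (S0.orbit_eq hcard).2] at hK
      norm_num at hK
    have hker : (MulAction.toPermHom G (G ⧸ S)).ker = ⊥ := by
      rw [← normalCore_eq_ker]
      exact (normalCore_normal S).eq_bot_or_eq_top.resolve_right fun e => hST (top_unique (e ▸ normalCore_le S))
    have h := Nat.card_le_card_of_injective _ ((MonoidHom.ker_eq_bot_iff _).1 hker)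
    rw [hcard, Nat.card_perm, ← Subgroup.index_eq_card] at h
    exact absurd (h.trans (Nat.factorial_le (show S.index ≤ 7 by omega))) (by decide)
  have hjd : j ∈ Nat.divisors 462 := Nat.mem_divisors.2 ⟨⟨_, hidx.symm⟩, by norm_num⟩
  have hjl : j ≤ 57 := by
    by_contra hcon
    push Not at hcon
    have := Nat.mul_le_mul hcon hb
    omega
  rw [show Nat.divisors 462 = {1, 2, 3, 6, 7, 11, 14, 21, 22, 33, 42, 66, 77, 154, 231, 462} by decide] at hjd
  haveI : Fact (Nat.Prime 5) := ⟨by norm_num⟩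
  haveI : Fact (Nat.Prime 7) := ⟨by norm_num⟩
  haveI : Fact (Nat.Prime 11) := ⟨by norm_num⟩
  have h11 : j ≠ 11 ∧ j ≠ 22 ∧ j ≠ 33 := by
    have key : ∀ k, (k = 11 ∨ k = 22 ∨ k = 33) → j ≠ k := by
      intro k hk e
      obtain ⟨P, M, n, d, -, -, hn, hnd, hd, -⟩ := sylow_sub hcard (Or.inr (Or.inr rfl))
        (card_normalizer_eleven hcard) S (by rw [hSc, e]; rcases hk with rfl | rfl | rfl <;> norm_num)
      rw [hSc, e] at hnd
      have hdm : d ∈ Nat.divisors 55 := Nat.mem_divisors.2 ⟨hd, by norm_num⟩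
      rw [show Nat.divisors 55 = {1, 5, 11, 55} by decide] at hdm
      simp only [Finset.mem_insert, Finset.mem_singleton] at hdm
      rcases hk with rfl | rfl | rfl <;> rcases hdm with rfl | rfl | rfl | rfl <;> omega
    exact ⟨key 11 (by norm_num), key 22 (by norm_num), key 33 (by norm_num)⟩
  have h7 : j ≠ 14 ∧ j ≠ 42 := by
    have key : ∀ k, (k = 14 ∨ k = 42) → j ≠ k := by
      intro k hk e
      obtain ⟨P, M, n, d, -, -, hn, hnd, hd, -⟩ := sylow_sub hcard (Or.inr (Or.inl rfl))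
        (card_normalizer_seven hcard) S (by rw [hSc, e]; rcases hk with rfl | rfl <;> norm_num)
      rw [hSc, e] at hnd
      have hdm : d ∈ Nat.divisors 21 := Nat.mem_divisors.2 ⟨hd, by norm_num⟩
      rw [show Nat.divisors 21 = {1, 3, 7, 21} by decide] at hdm
      simp only [Finset.mem_insert, Finset.mem_singleton] at hdm
      rcases hk with rfl | rfl <;> rcases hdm with rfl | rfl | rfl | rfl <;> omega
    exact ⟨key 14 (by norm_num), key 42 (by norm_num)⟩
  have hj21 : j = 21 := by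
    simp only [Finset.mem_insert, Finset.mem_singleton] at hjd
    omega
  have hb22 : S.index = 22 := by rw [hj21] at hidx; omega
  refine ⟨hb22, fun g h hg hh => ?_⟩
  set b0 : G ⧸ S := QuotientGroup.mk 1 with hb0
  have hbase : ∀ x : G, (QuotientGroup.mk x : G ⧸ S) = b0 → x ∈ S := fun x e => by
    simpa using QuotientGroup.eq.1 e
  set q : G ⧸ S := QuotientGroup.mk h with hq
  set O := MulAction.orbit ↥S q with hO
  have hO0 : b0 ∉ O := by
    rintro ⟨s, e⟩
    have : (s : G) * h ∈ S := hbase _ e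
    exact hh (by simpa using mul_mem (inv_mem s.2) this)
  have hsub : O ⊆ ({b0} : Set (G ⧸ S))ᶜ := fun x hx e => hO0 ((Set.mem_singleton_iff.1 e) ▸ hx)
  have hc21 : ({b0} : Set (G ⧸ S))ᶜ.ncard = 21 := by
    rw [Set.ncard_compl, Set.ncard_singleton, ← Subgroup.index_eq_card, hb22]
  obtain ⟨P7, M7, n7, d7, hM7, hd7, hn7, hnd7, hdv7, hfix7⟩ := sylow_sub hcard (Or.inr (Or.inl rfl))
    (card_normalizer_seven hcard) S (by rw [hSc, hj21]; norm_num)
  obtain ⟨P5, M5, n5, d5, hM5, hd5, hn5, hnd5, hdv5, hfix5⟩ := sylow_sub hcard (Or.inl rfl)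
    (card_normalizer_five hcard) S (by rw [hSc, hj21]; norm_num)
  have hd7' : d7 = 21 := by
    rw [hSc, hj21] at hnd7
    have hdm : d7 ∈ Nat.divisors 21 := Nat.mem_divisors.2 ⟨hdv7, by norm_num⟩
    rw [show Nat.divisors 21 = {1, 3, 7, 21} by decide] at hdm
    simp only [Finset.mem_insert, Finset.mem_singleton] at hdm
    rcases hdm with rfl | rfl | rfl | rfl <;> omega
  have hd5' : d5 = 10 := by
    rw [hSc, hj21] at hnd5
    have hdm : d5 ∈ Nat.divisors 20 := Nat.mem_divisors.2 ⟨hdv5, by norm_num⟩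
    rw [show Nat.divisors 20 = {1, 2, 4, 5, 10, 20} by decide] at hdm
    simp only [Finset.mem_insert, Finset.mem_singleton] at hdm
    rcases hdm with rfl | rfl | rfl | rfl | rfl | rfl <;> omega
  have hF7 : ∀ x : O, x ∉ MulAction.fixedPoints ↥(P7 : Subgroup ↥S) O := by
    rintro ⟨x, hx⟩ hfx
    obtain ⟨a, rfl⟩ := QuotientGroup.mk_surjective x
    obtain ⟨m, hm, e⟩ := hfix7 a fun p hp => by
      have e : (QuotientGroup.mk ((p : G) * a) : G ⧸ S) = QuotientGroup.mk a :=
        congrArg Subtype.val (hfx ⟨p, hp⟩)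
      have := inv_mem (QuotientGroup.eq.1 e)
      simpa [mul_assoc] using this
    have hle : M7 ≤ S := by
      rw [← inf_eq_left]
      exact eq_of_le_of_card_ge inf_le_left (by rw [hd7, hd7', hM7])
    refine hO0 ?_
    rw [show b0 = QuotientGroup.mk a by rw [e, hb0, QuotientGroup.eq]; simpa using hle hm]
    exact hx
  have hO7 : 7 ∣ O.ncard := by
    have h := P7.isPGroup'.card_modEq_card_fixedPoints O
    haveI : IsEmpty (MulAction.fixedPoints ↥(P7 : Subgroup ↥S) O) := ⟨fun x => hF7 x.1 x.2⟩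
    have h0 : Nat.card (MulAction.fixedPoints ↥(P7 : Subgroup ↥S) O) = 0 := Nat.card_of_isEmpty
    rw [h0, Nat.card_coe_set_eq] at h
    exact Nat.modEq_zero_iff_dvd.1 h
  have hO5 : O.ncard % 5 ≤ 1 := by
    have h := P5.isPGroup'.card_modEq_card_fixedPoints O
    rw [Nat.card_coe_set_eq] at h
    have hle : Nat.card (MulAction.fixedPoints ↥(P5 : Subgroup ↥S) O) ≤ 1 := by
      set I := (fun m : G => (QuotientGroup.mk m : G ⧸ S)) '' (M5 : Set G) with hI
      have hIc : I.ncard ≤ 2 := by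
        let f : ↥M5 ⧸ S.subgroupOf M5 → G ⧸ S := fun x => Quotient.liftOn' x
          (fun m => (QuotientGroup.mk (m : G) : G ⧸ S)) fun a b e => QuotientGroup.eq.2
            (by simpa [mem_subgroupOf] using QuotientGroup.leftRel_apply.1 e)
        have hsub : I ⊆ Set.range f := by
          rintro _ ⟨m, hm, rfl⟩
          exact ⟨QuotientGroup.mk ⟨m, hm⟩, rfl⟩
        refine (Set.ncard_le_ncard hsub).trans ?_
        rw [← Nat.card_coe_set_eq]
        refine (Finite.card_range_le f).trans ?_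
        have hi := Subgroup.card_eq_card_quotient_mul_card_subgroup (S.subgroupOf M5)
        have hc : Nat.card ↥(S.subgroupOf M5) = 10 := by
          rw [← inf_subgroupOf_left S M5, Nat.card_congr (subgroupOfEquivOfLe inf_le_left).toEquiv, hd5, hd5']
        rw [hM5, hc] at hi
        omega
      have hIm : (fun x : MulAction.fixedPoints ↥(P5 : Subgroup ↥S) O => (x.1 : G ⧸ S)) ''
          Set.univ ⊆ I \ {b0} := by
        rintro _ ⟨⟨⟨x, hx⟩, hfx⟩, -, rfl⟩
        obtain ⟨a, rfl⟩ := QuotientGroup.mk_surjective x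
        refine ⟨?_, fun e => hO0 ((Set.mem_singleton_iff.1 e) ▸ hx)⟩
        obtain ⟨m, hm, e⟩ := hfix5 a fun p hp => by
          have e : (QuotientGroup.mk ((p : G) * a) : G ⧸ S) = QuotientGroup.mk a :=
            congrArg Subtype.val (hfx ⟨p, hp⟩)
          have := inv_mem (QuotientGroup.eq.1 e)
          simpa [mul_assoc] using this
        exact ⟨m, hm, e.symm⟩
      have h1 := Set.ncard_le_ncard hIm
      rw [Set.ncard_image_of_injective _ (fun a b e => Subtype.ext (Subtype.ext e)), Set.ncard_univ,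
        Set.ncard_sdiff_singleton_of_mem (show b0 ∈ I from ⟨1, one_mem _, rfl⟩)] at h1
      exact h1.trans (by omega)
    rw [Nat.ModEq, Nat.mod_eq_of_lt (lt_of_le_of_lt hle (by norm_num : (1 : ℕ) < 5))] at h
    omega
  have hOc : O.ncard ≤ 21 := hc21 ▸ Set.ncard_le_ncard hsub
  have hOpos : 0 < O.ncard := (Set.ncard_pos (Set.toFinite O)).2 ⟨q, MulAction.mem_orbit_self q⟩
  have hOall : O = ({b0} : Set (G ⧸ S))ᶜ := Set.eq_of_subset_of_ncard_le hsub (by
    obtain ⟨k, hk⟩ := hO7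
    have : k = 1 ∨ k = 2 ∨ k = 3 := by omega
    rcases this with rfl | rfl | rfl <;> omega)
  have hgO : (QuotientGroup.mk g : G ⧸ S) ∈ O := by
    rw [hOall]
    exact fun e => hg (hbase g (Set.mem_singleton_iff.1 e))
  obtain ⟨s, e⟩ := hgO
  have e' : (QuotientGroup.mk ((s : G) * h) : G ⧸ S) = QuotientGroup.mk g := e
  exact ⟨s, s.2, ((s : G) * h)⁻¹ * g, QuotientGroup.eq.1 e', by group⟩

end Cfsg.Agent.J4V
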