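import Cfsg.Agent.Lib.J4V.Classify
import Cfsg.Agent.Lib.J4V.M22Sub

/-!
# Janko four type: one elementary subgroup of order `2 ^ 11` through `z` and another involution

A conjugate of `z` and an involution not conjugate to it, both in the subgroup, determine it.
-/

set_option autoImplicit false
set_option linter.style.haveILetI false
set_option linter.unusedSectionVars false

namespace Cfsg.Agent.J4Eleven.Chart

open Subgroup
open Cfsg.Agent.J4Local
open Cfsg.Agent.M22Order (Setup)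

universe u

variable {G : Type u} [Group G] [Finite G] {z : G} {P : Subgroup G} (X : Chart z P)

theorem St_le_NS {w : VV z} (hw : w ∈ X.five) : X.St w ≤ X.NS := by
  have hJ := X.L.J
  have hw0 := hw.2.1
  set S := X.St w with hS
  have hES : X.S.E ≤ S := fun m hm => by
    obtain ⟨l, hl, el⟩ := X.exists_lift hm
    rw [← el, X.mem_St hw0, hw.1 l hl]
    exact self_mem_line _ _ _
  refine (J4V.point_stab X.hcard X.S S hES (X.card_St_inf hw)).resolve_right ?_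
  rintro ⟨-, h2⟩
  obtain ⟨k, hk, hkS⟩ : ∃ k ∈ X.NS, k ∉ S := by
    by_contra hcon
    push Not at hcon
    have h := X.card_St_inf hw
    rw [inf_eq_right.2 hcon, show Nat.card ↥X.NS = 5760 from (X.S.orbit_eq X.hcard).2] at h
    norm_num at h
  -- all conjugates of the point are orthogonal to it
  have horth : ∀ d ∈ CC z P, BB z w (act z d w) = 0 := by
    intro d hd
    by_cases hdS : X.π ⟨d, hd⟩ ∈ S
    · exact X.BB_WV hw.1 (X.ln_le (fun x hx => X.act_P_WV X.pp_mem hx) hw.1 ((X.mem_St hw0 hd).1 hdS))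
    obtain ⟨a, ha, b, hb, e⟩ := h2 _ k hdS hkS
    obtain ⟨⟨A, hA⟩, hAa⟩ := X.surj a
    obtain ⟨K, hK, hKN, hKk⟩ := X.exists_NC hk
    have hB : (A * K)⁻¹ * d ∈ CC z P := mul_mem (inv_mem (mul_mem hA hK)) hd
    have hBb : X.π ⟨(A * K)⁻¹ * d, hB⟩ = b := by
      rw [show (⟨(A * K)⁻¹ * d, hB⟩ : ↥(CC z P)) = (⟨A, hA⟩ * ⟨K, hK⟩)⁻¹ * ⟨d, hd⟩ from rfl, map_mul, map_inv,
        map_mul, hAa, hKk, e]
      group
    have hBw := (X.mem_St hw0 hB).1 (hBb.symm ▸ hb)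
    have hAi : act z A⁻¹ w ∈ X.ln w := (X.mem_St hw0 (inv_mem hA)).1 (by
      rw [show (⟨A⁻¹, inv_mem hA⟩ : ↥(CC z P)) = ⟨A, hA⟩⁻¹ from rfl, map_inv, hAa]
      exact inv_mem ha)
    have hmem : ∀ x ∈ X.ln w, x ∈ X.WV := fun x hx => X.ln_le (fun u hu => X.act_P_WV X.pp_mem hu) hw.1 hx
    have ed : act z d w = act z A (act z K (act z ((A * K)⁻¹ * d) w)) := by
      rw [← act_mul hK.1 hB.1, ← act_mul hA.1 (mul_mem hK.1 hB.1),
        show A * (K * ((A * K)⁻¹ * d)) = d by group]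
    rw [ed, BB_comm, BB_act_inv hJ hA.1, BB_comm]
    exact X.BB_WV (hmem _ hAi) (X.NC_WV hKN (hmem _ hBw))
  set U := AddSubgroup.closure {v | ∃ d ∈ CC z P, act z d w = v} with hU
  have hiso : ∀ a ∈ U, ∀ b ∈ U, BB z a b = 0 := by
    intro a ha
    let R : VV z → AddSubgroup (VV z) := fun a =>
      { carrier := {v | BB z a v = 0}
        zero_mem' := BB_zero_right hJ a
        add_mem' := fun {u v} hu hv => by
          show BB z a (u + v) = 0
          rw [BB_add_right hJ, (hu : BB z a u = 0), (hv : BB z a v = 0), add_zero]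
        neg_mem' := fun {v} hv => by
          rw [show -v = v from neg_eq_of_add_eq_zero_left (VV.two hJ v)]; exact hv }
    have h1 : ∀ d ∈ CC z P, U ≤ R (act z d w) := fun d hd => (AddSubgroup.closure_le _).2 (by
      rintro _ ⟨e, he, rfl⟩
      show BB z (act z d w) (act z e w) = 0
      rw [BB_act_inv hJ hd.1, ← act_mul (inv_mem hd.1) he.1]
      exact horth _ (mul_mem (inv_mem hd) he))
    intro b hb
    have h3 : U ≤ R b := (AddSubgroup.closure_le _).2 (by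
      rintro _ ⟨d, hd, rfl⟩
      show BB z b (act z d w) = 0
      rw [BB_comm]
      exact h1 d hd hb)
    rw [BB_comm]
    exact h3 ha
  have hWU : X.WV ≤ U := X.five_span fun v hv => by
    obtain ⟨d, hd, rfl⟩ := X.five_trans hw hv
    exact AddSubgroup.subset_closure ⟨d, X.NC_le hd, rfl⟩
  have hUW : U = X.WV := (AddSubgroup.eq_of_le_of_card_ge hWU (by
    rw [X.card_WV.1]
    exact (card_isotropic hJ hiso).trans (by norm_num))).symm
  have hinv : ∀ d ∈ CC z P, ∀ v ∈ X.WV, act z d v ∈ X.WV := by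
    intro d hd v hv
    rw [← hUW] at hv ⊢
    have hle : U ≤ U.comap (act z d) := (AddSubgroup.closure_le _).2 (by
      rintro _ ⟨e, he, rfl⟩
      exact AddSubgroup.subset_closure ⟨d * e, mul_mem hd he, act_mul hd.1 he.1 w⟩)
    exact hle hv
  -- the elements trivial on the fixed space are then normal
  let K : Subgroup ↥(CC z P) :=
    { carrier := {c | ∀ v ∈ X.WV, act z (c : G) v = v}
      one_mem' := fun v _ => act_one v
      mul_mem' := fun {a b} ha hb v hv => by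
        show act z ((a : G) * b) v = v
        rw [act_mul a.2.1 b.2.1, hb v hv, ha v hv]
      inv_mem' := fun {a} ha v hv => by
        show act z (a : G)⁻¹ v = v
        conv_lhs => rw [← ha v hv]
        exact act_inv_act a.2.1 v }
  haveI hKn : K.Normal := ⟨fun c hc d v hv => by
    show act z ((d : G) * c * (d : G)⁻¹) v = v
    rw [act_mul (mul_mem d.2.1 c.2.1) (inv_mem d.2.1), act_mul d.2.1 c.2.1, hc _ (hinv _ (inv_mem d.2) v hv),
      act_act_inv d.2.1]⟩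
  have htop : K.map X.π = ⊤ := by
    refine (hKn.map X.π X.surj).eq_bot_or_eq_top.resolve_left fun e => ?_
    obtain ⟨c, hc, hct⟩ := X.t_lift
    have h1 : X.S.t ∈ K.map X.π := ⟨⟨c, X.LE_le_CC hc⟩, fun v hv => hv c hc, hct⟩
    rw [e, mem_bot] at h1
    have := X.S.ht
    rw [h1, orderOf_one] at this
    omega
  have hdec : ∀ c : ↥(CC z P), ∃ k ∈ K, ∃ s : ↥(CC z P), (s : G) ∈ P ⊔ zpowers z ∧ c = k * s := fun c => by
    obtain ⟨k, hk, e⟩ := (htop ▸ mem_top (X.π c) : X.π c ∈ K.map X.π)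
    refine ⟨k, hk, k⁻¹ * c, (X.mem_ker_iff _).1 (by rw [map_mul, map_inv, e, inv_mul_cancel]), by group⟩
  have hder : ⁅CC z P, CC z P⁆ ≤ K.map (CC z P).subtype := by
    rw [commutator_le]
    intro a ha b hb
    obtain ⟨k, hk, s, hs, e1⟩ := hdec ⟨a, ha⟩
    obtain ⟨l, hl, t, ht, e2⟩ := hdec ⟨b, hb⟩
    refine ⟨k * l * k⁻¹ * l⁻¹, mul_mem (mul_mem (mul_mem hk hl) (inv_mem hk)) (inv_mem hl), ?_⟩
    have e1' : a = (k : G) * s := congrArg Subtype.val e1
    have e2' : b = (l : G) * t := congrArg Subtype.val e2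
    have c1 : Commute (s : G) ((l : G) * t) := six_central hJ hs (mul_mem l.2 t.2)
    have c2 : Commute (t : G) (k : G)⁻¹ := six_central hJ ht (inv_mem k.2)
    rw [commutatorElement_def, e1', e2']
    show (k : G) * l * (k : G)⁻¹ * (l : G)⁻¹ = _
    symm
    calc (k : G) * s * ((l : G) * t) * ((k : G) * s)⁻¹ * ((l : G) * t)⁻¹
        = k * (s * ((l : G) * t) * (s : G)⁻¹) * (k : G)⁻¹ * ((l : G) * t)⁻¹ := by group
      _ = k * l * ((t : G) * (k : G)⁻¹) * (t : G)⁻¹ * (l : G)⁻¹ := by rw [c1.eq, mul_inv_cancel_right]; group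
      _ = _ := by rw [c2.eq]; group
  obtain ⟨⟨q, hqC⟩, hq, e⟩ := hder (hJ.P_le_derived X.pp_mem)
  have e' : q = X.pp := e
  subst e'
  exact hw0 (act_fpf hJ X.pp_mem X.pp_ne (hq w hw.1))

theorem fix_point_normalizes {w : VV z} (hw : w ∈ X.five) {d : G} (hd : d ∈ CC z P)
    (hfix : act z d w ∈ X.ln w) : d ∈ X.NC :=
  X.mem_NC.2 ⟨hd, X.St_le_NS hw ((X.mem_St hw.2.1 hd).2 hfix)⟩

variable [IsSimpleGroup G] (hG : ¬ IsMulCommutative G)

include hG

theorem eq_std_of_other {A : Subgroup G} (hA : Eleven z A) {v : G} (hvA : v ∈ A) (hv : v ∈ X.std) (hv1 : v ≠ 1)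
    (hvn : ¬ IsConj z v) : A = X.std := by
  have hJ := X.L.J
  have hfix : ∀ n ∈ normalizer (X.std : Set G), cjS n X.std = X.std := fun n hn => by
    refine eq_of_le_of_card_ge ?_ (card_cjS _ _).ge
    rintro _ ⟨a, ha, rfl⟩
    exact M22Order.conj_mem_of_mem_normalizer hn ha
  have hback : ∀ (g : G) {B C : Subgroup G}, cjS g B = C → B = cjS g⁻¹ C := fun g B C e => by
    subst e
    ext a
    rw [mem_cjS, mem_cjS, inv_inv, show g⁻¹ * (g * a * g⁻¹) * g = a by group]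
  by_cases hm1 : X.psi ⟨v, X.std_le_H0 hv⟩ = 1
  · obtain ⟨d, hd, hdA⟩ := X.exists_conj_std hA
    have hvE : v ∈ EE z := X.mem_EE_of_psi_one _ (X.std_eleven.sq v hv) hm1
    have hvW := X.std_inf_EE hv hvE
    have h5 := X.five_of_not_zt hG hvW hv1 hvn
    have hdv : d * v * d⁻¹ ∈ X.std := hdA ▸ ⟨v, hvA, rfl⟩
    have hdvW := X.std_inf_EE hdv (conj_mem_EE hd.1 hvE)
    have h5' := X.five_of_not_zt hG hdvW (fun e => hv1 (conj_eq_one_iff.1 e))
      fun h => hvn (h.trans (isConj_iff.2 ⟨d, rfl⟩).symm)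
    obtain ⟨f, hf, hfw⟩ := X.five_trans h5' h5
    rw [← act_vk hd.1 hvE, ← act_mul (X.NC_le_HH hf) hd.1] at hfw
    have hfd := X.fix_point_normalizes h5 (mul_mem (X.NC_le hf) hd) (by rw [hfw]; exact self_mem_line _ _ _)
    have hdN : d ∈ normalizer (X.std : Set G) := by
      have := mul_mem (inv_mem (X.NC_normalizer hf)) (X.NC_normalizer hfd)
      rwa [inv_mul_cancel_left] at this
    rw [hback d hdA, hfix _ (inv_mem hdN)]
  · have hmE := X.psi_std hv
    set m := X.psi ⟨v, X.std_le_H0 hv⟩ with hm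
    obtain ⟨k, hk, hkm⟩ := X.S.trans X.hcard hmE hm1
    obtain ⟨e, he, heN, hek⟩ := X.exists_NC hk
    have hei : e⁻¹ ∈ CC z P := inv_mem he
    have hA' : Eleven z (cjS e⁻¹ A) := hA.conj hei.1
    have hmem : e⁻¹ * v * e⁻¹⁻¹ ∈ cjS e⁻¹ A := ⟨v, hvA, rfl⟩
    have hh := X.eq_std hA' (by
      refine ⟨⟨e⁻¹ * v * e⁻¹⁻¹, X.le_H0 hA' hmem⟩, hmem, ?_⟩
      rw [show (⟨e⁻¹ * v * e⁻¹⁻¹, X.le_H0 hA' hmem⟩ : ↥(H0 z P)) =
        ⟨e⁻¹, CC_le_H0 z P hei⟩ * ⟨v, X.std_le_H0 hv⟩ * ⟨e⁻¹, CC_le_H0 z P hei⟩⁻¹ from rfl, map_mul, map_mul,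
        map_inv, X.psi_CC hei, ← hm, show (⟨e⁻¹, hei⟩ : ↥(CC z P)) = ⟨e, he⟩⁻¹ from rfl, map_inv, hek, ← hkm]
      group)
    rw [hback e⁻¹ hh, inv_inv, hfix e (X.NC_normalizer heN)]

theorem eq_std_of_pair {A : Subgroup G} (hA : J4V.Big A) {y v : G} (hyA : y ∈ A) (hy : y ∈ X.std)
    (hyz : IsConj z y) (hvA : v ∈ A) (hv : v ∈ X.std) (hv1 : v ≠ 1) (hvn : ¬ IsConj z v) : A = X.std := by
  obtain ⟨n, hn, e⟩ : ∃ n ∈ normalizer (X.std : Set G), n * z * n⁻¹ = y := by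
    have h : y ∈ {v | v ∈ X.std ∧ IsConj z v} := ⟨hy, hyz⟩
    rwa [← X.zt_orbit hG] at h
  have hni := inv_mem hn
  have h : cjS n⁻¹ A = X.std := by
    refine X.eq_std_of_other hG ((hA.conj n⁻¹).eleven ⟨y, hyA, ?_⟩) (v := n⁻¹ * v * n⁻¹⁻¹) ⟨v, hvA, rfl⟩
      (M22Order.conj_mem_of_mem_normalizer hni hv) (fun h => hv1 (conj_eq_one_iff.1 h))
      (fun h => hvn (h.trans (isConj_iff.2 ⟨n⁻¹, rfl⟩).symm))
    show n⁻¹ * y * n⁻¹⁻¹ = z
    rw [← e]; group
  ext a
  constructor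
  · intro ha
    have h1 : n⁻¹ * a * n⁻¹⁻¹ ∈ X.std := h ▸ ⟨a, ha, rfl⟩
    have := M22Order.conj_mem_of_mem_normalizer hn h1
    simpa [mul_assoc] using this
  · intro ha
    have h1 : n⁻¹ * a * n⁻¹⁻¹ ∈ cjS n⁻¹ A := h.symm ▸ M22Order.conj_mem_of_mem_normalizer hni ha
    rw [mem_cjS] at h1
    simpa [mul_assoc] using h1

end Cfsg.Agent.J4Eleven.Chart
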