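import Cfsg.Agent.Lib.J4V.Frame
import Cfsg.Agent.Lib.J4V.Unique
import Cfsg.Agent.Lib.J4V.TILemma

/-!
# Janko four type: the centraliser of an involution of the subgroup of order `2 ^ 11` not conjugate to `z`

It lies in the normaliser: downwards induction on the order of a subgroup without conjugates of `z`.
-/

set_option autoImplicit false
set_option linter.style.haveILetI false
set_option linter.unusedSectionVars false

namespace Cfsg.Agent.J4Eleven.Chart

open Subgroup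
open Cfsg.Agent.J4Local

universe u

variable {G : Type u} [Group G] [Finite G] {z : G} {P : Subgroup G} (X : Chart z P)

/-- A subgroup without conjugates of `z`, all larger ones having their centralisers in the normaliser. -/
structure Hyp (U : Subgroup G) : Prop where
  le : U ≤ X.std
  ne : U ≠ ⊥
  nz : ∀ u ∈ U, ¬ IsConj z u
  up : ∀ U' : Subgroup G, U' ≤ X.std → (∀ u ∈ U', ¬ IsConj z u) → U ≤ U' → U ≠ U' →
    centralizer (U' : Set G) ≤ normalizer (X.std : Set G)

/-- The conjugates of the subgroup of order `2 ^ 11` under the centraliser. -/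
def Fam (U A : Subgroup G) : Prop := ∃ x ∈ centralizer (U : Set G), A = cjS x X.std

variable {U : Subgroup G} (h : X.Hyp U)

theorem std_big : J4V.Big X.std := J4V.Big.of_eleven X.std_eleven

theorem Fam.big {A : Subgroup G} (hA : X.Fam U A) : J4V.Big A := by
  obtain ⟨x, -, rfl⟩ := hA
  exact X.std_big.conj x

theorem Fam.conj {A : Subgroup G} (hA : X.Fam U A) {c : G} (hc : c ∈ centralizer (U : Set G)) :
    X.Fam U (cjS c A) := by
  obtain ⟨x, hx, rfl⟩ := hA
  refine ⟨c * x, mul_mem hc hx, ?_⟩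
  ext a
  rw [mem_cjS, mem_cjS, mem_cjS, show x⁻¹ * (c⁻¹ * a * c) * x = (c * x)⁻¹ * a * (c * x) by group]

include h

theorem Fam.le_mem {A : Subgroup G} (hA : X.Fam U A) : U ≤ A := by
  obtain ⟨x, hx, rfl⟩ := hA
  intro u hu
  rw [mem_cjS, show x⁻¹ * u * x = x⁻¹ * (u * x) by group, mem_centralizer_iff.1 hx u hu, inv_mul_cancel_left]
  exact h.le hu

theorem Hyp.le_centralizer {A : Subgroup G} (hA : X.Fam U A) : A ≤ centralizer (U : Set G) := fun a ha =>
  mem_centralizer_iff.2 fun u hu => (Fam.big X hA).comm u (Fam.le_mem X h hA hu) a ha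

theorem fam_std : X.Fam U X.std := ⟨1, one_mem _, by ext a; simp⟩

theorem exists_ne_one : ∃ t ∈ U, t ≠ 1 := by
  by_contra hcon
  push Not at hcon
  exact h.ne ((eq_bot_iff_forall _).2 hcon)

variable [IsSimpleGroup G] (hG : ¬ IsMulCommutative G)

include hG

theorem cap {A : Subgroup G} (hA : X.Fam U A) {w : G} (hwA : w ∈ A) (hw : w ∈ X.std) (hwU : w ∉ U) :
    A = X.std := by
  have hB := Fam.big X hA
  set U' := U ⊔ zpowers w with hU'
  have hUA' : U' ≤ A := sup_le (Fam.le_mem X h hA) (zpowers_le.2 hwA)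
  have hUV : U' ≤ X.std := sup_le h.le (zpowers_le.2 hw)
  have hne : U ≠ U' := fun e => hwU (by rw [e]; exact mem_sup_right (mem_zpowers w))
  by_cases hy : ∀ u ∈ U', ¬ IsConj z u
  · have hC := h.up U' hUV hy le_sup_left hne
    refine J4V.eq_of_normalizes X.L.J hB X.std_big ((fun a ha => hC ?_))
    exact mem_centralizer_iff.2 fun u hu => hB.comm u (hUA' hu) a ha
  · push Not at hy
    obtain ⟨y, hy', hyz⟩ := hy
    obtain ⟨t, ht, ht1⟩ := X.exists_ne_one h
    exact X.eq_std_of_pair hG hB (hUA' hy') (hUV hy') hyz (Fam.le_mem X h hA ht) (h.le ht) ht1 (h.nz t ht)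

theorem Fam.cap {A B : Subgroup G} (hA : X.Fam U A) (hB : X.Fam U B) {w : G} (hwA : w ∈ A) (hwB : w ∈ B)
    (hwU : w ∉ U) : A = B := by
  obtain ⟨x, hx, rfl⟩ := hB
  have e := X.cap h hG (Fam.conj X hA (inv_mem hx)) (w := x⁻¹ * w * x) (by
      rw [mem_cjS, show x⁻¹⁻¹ * (x⁻¹ * w * x) * x⁻¹ = w by group]; exact hwA) (mem_cjS.1 hwB) (fun hu => hwU (by
      have := mem_centralizer_iff.1 hx _ hu
      rwa [show x * (x⁻¹ * w * x) = w * x by group, mul_left_inj] at this ▸ hu))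
  ext a
  rw [mem_cjS, ← e, mem_cjS, show x⁻¹⁻¹ * (x⁻¹ * a * x) * x⁻¹ = a by group]

/-- Two members, one normalised by an element of the other. -/
theorem half {W W' : Subgroup G} (hW : X.Fam U W) (hW' : X.Fam U W') (hne : W ≠ W') {b : G} (hb : b ∈ W')
    (hbN : b ∈ normalizer (W : Set G)) (hbU : b ∉ U) :
    (∀ v ∈ W, v * b * v⁻¹ * b⁻¹ ∈ U ↔ v ∈ W ⊓ normalizer (W' : Set G)) ∧
      2 ^ 11 * Nat.card U ≤ Nat.card ↥(W ⊓ normalizer (W' : Set G)) * Nat.card ↥(W ⊓ normalizer (W' : Set G)) := by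
  classical
  have hint : ∀ w ∈ W, w ∈ W' → w ∈ U := fun w h1 h2 => by
    by_contra hwU
    exact hne (Fam.cap X h hG hW hW' h1 h2 hwU)
  have hiff : ∀ v ∈ W, v * b * v⁻¹ * b⁻¹ ∈ U ↔ v ∈ W ⊓ normalizer (W' : Set G) := by
    intro v hv
    constructor
    · intro hu
      refine mem_inf.2 ⟨hv, ?_⟩
      have hvC := Hyp.le_centralizer X h hW hv
      have hmem : v * b * v⁻¹ ∈ W' := by
        have := mul_mem (Fam.le_mem X h hW' hu) hb
        rwa [inv_mul_cancel_right] at this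
      have e := Fam.cap X h hG (Fam.conj X hW' hvC) hW' (w := v * b * v⁻¹) ⟨b, hb, rfl⟩ hmem (fun hu' => hbU (by
        have hc := mem_centralizer_iff.1 hvC _ hu'
        rw [inv_mul_cancel_right] at hc
        rwa [← mul_left_cancel hc] at hu'))
      exact M22Order.mem_normalizer_of_conj fun a ha => by
        have : v * a * v⁻¹ ∈ cjS v W' := ⟨a, ha, rfl⟩
        rwa [e] at this
    · intro hA
      refine hint _ ?_ ?_
      · rw [show v * b * v⁻¹ * b⁻¹ = v * (b * v⁻¹ * b⁻¹) by group]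
        exact mul_mem hv (M22Order.conj_mem_of_mem_normalizer hbN (inv_mem hv))
      · exact mul_mem (M22Order.conj_mem_of_mem_normalizer (mem_inf.1 hA).2 hb) (inv_mem hb)
  refine ⟨hiff, ?_⟩
  set A := W ⊓ normalizer (W' : Set G) with hA
  have hbb : b * b = 1 := (Fam.big X hW').sq b hb
  have hbi : b⁻¹ = b := inv_eq_of_mul_eq_one_right hbb
  have hWc := (Fam.big X hW).comm
  have hphi : ∀ v ∈ W, v * b * v⁻¹ * b⁻¹ ∈ A := by
    intro v hv
    have hbv : b * v⁻¹ * b⁻¹ ∈ W := M22Order.conj_mem_of_mem_normalizer hbN (inv_mem hv)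
    have hp : v * b * v⁻¹ * b⁻¹ ∈ W := by
      rw [show v * b * v⁻¹ * b⁻¹ = v * (b * v⁻¹ * b⁻¹) by group]
      exact mul_mem hv hbv
    refine (hiff _ hp).1 ?_
    set p := v * b * v⁻¹ * b⁻¹ with hpdef
    have hpb : b * p * b⁻¹ = p := by
      have hvi : v⁻¹ = v := inv_eq_of_mul_eq_one_right ((Fam.big X hW).sq v hv)
      have hw : b * v * b ∈ W := by
        have := M22Order.conj_mem_of_mem_normalizer hbN hv
        rwa [hbi] at this
      rw [hpdef, hvi, hbi]
      calc b * (v * b * v * b) * b = b * v * b * v * (b * b) := by group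
        _ = (b * v * b) * v := by rw [hbb, mul_one]
        _ = v * (b * v * b) := hWc _ hw v hv
        _ = _ := by group
    have : p * b * p⁻¹ * b⁻¹ = 1 := by
      calc p * b * p⁻¹ * b⁻¹ = p * (b * p * b⁻¹)⁻¹ := by group
        _ = 1 := by rw [hpb, mul_inv_cancel]
    rw [this]
    exact one_mem _
  have hstab := card_le_stab_mul W A (fun v => (QuotientGroup.mk (⟨_, hphi v v.2⟩ : ↥A) : ↥A ⧸ U.subgroupOf A))
    fun a c e => by
      have hac : (a : G)⁻¹ * c ∈ W := mul_mem (inv_mem a.2) c.2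
      refine (hiff _ hac).1 ?_
      have he := QuotientGroup.eq.1 e
      rw [mem_subgroupOf] at he
      set p := (a : G) * b * (a : G)⁻¹ * b⁻¹ with hp
      set q := (c : G) * b * (c : G)⁻¹ * b⁻¹ with hq
      have hqW : q ∈ W := (mem_inf.1 (hphi _ c.2)).1
      have hpW : p ∈ W := (mem_inf.1 (hphi _ a.2)).1
      have e2 : (a : G)⁻¹ * c * b * ((a : G)⁻¹ * c)⁻¹ * b⁻¹ = p⁻¹ * q := by
        calc (a : G)⁻¹ * c * b * ((a : G)⁻¹ * c)⁻¹ * b⁻¹ = (a : G)⁻¹ * q * (b * a * b⁻¹) := by rw [hq]; group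
          _ = (a : G)⁻¹ * (q * (b * a * b⁻¹)) := by group
          _ = (a : G)⁻¹ * ((b * a * b⁻¹) * q) := by
            rw [hWc q hqW _ (M22Order.conj_mem_of_mem_normalizer hbN a.2)]
          _ = ((a : G)⁻¹ * (b * a * b⁻¹)) * q := by group
          _ = ((b * a * b⁻¹) * (a : G)⁻¹) * q := by
            rw [hWc _ (inv_mem a.2) _ (M22Order.conj_mem_of_mem_normalizer hbN a.2)]
          _ = _ := by rw [hp]; group
      rw [e2]
      exact he
  have hUA : U ≤ A := fun u hu => mem_inf.2 ⟨Fam.le_mem X h hW hu, le_normalizer (Fam.le_mem X h hW' hu)⟩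
  have hAc := Subgroup.card_eq_card_quotient_mul_card_subgroup (U.subgroupOf A)
  rw [Nat.card_congr (subgroupOfEquivOfLe hUA).toEquiv] at hAc
  rw [(Fam.big X hW).card] at hstab
  calc 2 ^ 11 * Nat.card U ≤ Nat.card A * Nat.card (↥A ⧸ U.subgroupOf A) * Nat.card U := Nat.mul_le_mul_right _ hstab
    _ = _ := by rw [mul_assoc, ← hAc]

omit h in
/-- A conjugate of `z` with `t` in its `E`, moved to `z`. -/
theorem to_frame {t y : G} (hy : y ∈ X.Zt t) (ht : t ∈ X.std) (ht1 : t ≠ 1) (htn : ¬ IsConj z t) :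
    ∃ n ∈ normalizer (X.std : Set G), n * z * n⁻¹ = y ∧ n⁻¹ * t * n ∈ preV X.L.J X.WV ∧
      vk z (n⁻¹ * t * n) ∈ X.five := by
  obtain ⟨n, hn, e⟩ : y ∈ {x | ∃ n ∈ normalizer (X.std : Set G), n * z * n⁻¹ = x} := by
    rw [X.zt_orbit hG]; exact ⟨hy.1, hy.2.1⟩
  have hE : n⁻¹ * t * n ∈ EE z := (mem_EE_conj z n t).1 (e.symm ▸ hy.2.2)
  have hV : n⁻¹ * t * n ∈ X.std := by simpa using M22Order.conj_mem_of_mem_normalizer (inv_mem hn) ht
  have hW := X.std_inf_EE hV hE
  refine ⟨n, hn, e, hW, X.five_of_not_zt hG hW (fun e' => ht1 (by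
    calc t = n * (n⁻¹ * t * n) * n⁻¹ := by group
      _ = 1 := by rw [e']; group)) fun hz => htn (hz.trans (isConj_iff.2 ⟨n, by group⟩))⟩

theorem card_cases : Nat.card U = 2 ∨ Nat.card U = 4 ∨ Nat.card U = 8 := by
  obtain ⟨t, htU, ht1⟩ := X.exists_ne_one h
  have ht := h.le htU
  have htn := h.nz t htU
  obtain ⟨y, hy⟩ : (X.Zt t).Nonempty :=
    Set.nonempty_of_ncard_ne_zero (by rw [X.Zt_ncard hG ht ht1 htn]; norm_num)
  obtain ⟨n, hn, -, hW, h5⟩ := X.to_frame hG hy ht ht1 htn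
  have hmem : ∀ u ∈ cjS n⁻¹ U, n * u * n⁻¹ ∈ U := fun u hu => by
    rw [mem_cjS, inv_inv] at hu; exact hu
  have h8 := (X.frame_bound hG hW h5 (U := cjS n⁻¹ U) (fun u hu => by
      have := M22Order.conj_mem_of_mem_normalizer (inv_mem hn) (h.le (hmem u hu))
      simpa [mul_assoc] using this)
    (fun u hu hz => h.nz _ (hmem u hu) (hz.trans (isConj_iff.2 ⟨n, rfl⟩)))
    (mem_cjS.2 (by simpa [mul_assoc] using htU))).1
  rw [card_cjS] at h8
  have hd : Nat.card U ∣ 2 ^ 11 := X.std_eleven.card ▸ card_dvd_of_le h.le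
  obtain ⟨i, -, hi⟩ := (Nat.dvd_prime_pow Nat.prime_two).1 hd
  have hi0 : i ≠ 0 := fun e => h.ne (eq_bot_of_card_eq _ (by rw [hi, e, pow_zero]))
  rw [hi] at h8 ⊢
  have : i ≤ 3 := by
    by_contra hcon
    have := Nat.pow_le_pow_right (show 0 < 2 by norm_num) (show 4 ≤ i by omega)
    omega
  interval_cases i <;> simp_all

/-- No other member has an element in the normaliser outside `U`. -/
theorem no_trace {W : Subgroup G} (hW : X.Fam U W) (hne : W ≠ X.std) {b : G} (hb : b ∈ W)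
    (hbY : b ∈ normalizer (X.std : Set G)) (hbU : b ∉ U) : False := by
  classical
  set A := X.std ⊓ normalizer (W : Set G) with hA
  set B := W ⊓ normalizer (X.std : Set G) with hB
  obtain ⟨-, hA2⟩ := X.half h hG (X.fam_std h) hW (Ne.symm hne) hb hbY hbU
  rw [← hA] at hA2
  have hUA : U ≤ A := fun u hu => mem_inf.2 ⟨h.le hu, le_normalizer (Fam.le_mem X h hW hu)⟩
  have hUlt : Nat.card U ≤ 8 := by
    rcases X.card_cases h hG with e | e | e <;> omega
  obtain ⟨a, haA, haU⟩ : ∃ a ∈ A, a ∉ U := by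
    by_contra hcon
    push Not at hcon
    rw [le_antisymm (hcon : A ≤ U) hUA] at hA2
    have := Nat.le_of_mul_le_mul_right hA2 Nat.card_pos
    omega
  obtain ⟨-, hB2⟩ := X.half h hG hW (X.fam_std h) hne (mem_inf.1 haA).1 (mem_inf.1 haA).2 haU
  rw [← hB] at hB2
  obtain ⟨t, htU, ht1⟩ := X.exists_ne_one h
  have ht := h.le htU
  have htn := h.nz t htU
  have hBp : IsPGroup 2 B := (Fam.big X hW).isPGroup.to_le inf_le_left
  have hBU : ∀ c ∈ B, ∀ u ∈ U, c * u = u * c := fun c hc u hu =>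
    (Fam.big X hW).comm c (mem_inf.1 hc).1 u (Fam.le_mem X h hW hu)
  obtain ⟨y, hy, hfix⟩ := X.exists_frame hG ht ht1 htn hBp inf_le_right fun c hc => hBU c hc t htU
  obtain ⟨n, hn, hny, hW', h5⟩ := X.to_frame hG hy ht ht1 htn
  have hni := inv_mem hn
  have hin : ∀ {S : Subgroup G} {u : G}, u ∈ cjS n⁻¹ S ↔ n * u * n⁻¹ ∈ S := fun {S u} => by
    rw [mem_cjS, inv_inv]
  have hstd : ∀ {u : G}, u ∈ X.std ↔ n * u * n⁻¹ ∈ X.std := fun {u} =>
    ⟨fun hu => M22Order.conj_mem_of_mem_normalizer hn hu, fun hu => by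
      simpa [mul_assoc] using M22Order.conj_mem_of_mem_normalizer hni hu⟩
  have key := X.frame_small hG hW' h5 (U := cjS n⁻¹ U) (A := cjS n⁻¹ A) (B := cjS n⁻¹ B)
    (fun u hu => hstd.2 (h.le (hin.1 hu)))
    (fun u hu hz => h.nz _ (hin.1 hu) (hz.trans (isConj_iff.2 ⟨n, rfl⟩)))
    (hin.2 (by simpa [mul_assoc] using htU))
    (hBp.map _)
    (fun c hc => by
      have := mul_mem (mul_mem hni (mem_inf.1 (hin.1 hc)).2) hn
      simpa [mul_assoc] using this)
    (fun c hc => by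
      have e := hfix _ (hin.1 hc)
      rw [← hny] at e
      refine mem_HH.2 ?_
      calc c * z = n⁻¹ * (n * c * n⁻¹ * (n * z * n⁻¹) * (n * c * n⁻¹)⁻¹) * n * c := by group
        _ = z * c := by rw [e]; group)
    (fun c hc u hu => by
      have e := hBU _ (hin.1 hc) _ (hin.1 hu)
      calc c * u = n⁻¹ * ((n * c * n⁻¹) * (n * u * n⁻¹)) * n := by group
        _ = u * c := by rw [e]; group)
    (fun c hc hcs => hin.2 (by
      by_contra hu
      exact hne (Fam.cap X h hG hW (X.fam_std h) (mem_inf.1 (hin.1 hc)).1 (hstd.1 hcs) hu)))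
    (fun c hc hcU v hv => by
      have e : n * (v * c * v⁻¹ * c⁻¹) * n⁻¹ =
          (n * v * n⁻¹) * (n * c * n⁻¹) * (n * v * n⁻¹)⁻¹ * (n * c * n⁻¹)⁻¹ := by group
      rw [hin, hin, e]
      exact (X.half h hG (X.fam_std h) hW (Ne.symm hne) (mem_inf.1 (hin.1 hc)).1 (mem_inf.1 (hin.1 hc)).2
        (fun hu => hcU (hin.2 hu))).1 _ (hstd.1 hv))
  simp only [card_cjS] at key
  obtain ⟨k1, k2⟩ := key
  rcases X.card_cases h hG with e | e | e <;> rw [e] at hB2 k1
  · have := Nat.mul_le_mul k1 k1; omega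
  · have := Nat.mul_le_mul k1 k1; omega
  · have k3 := k2 e
    rw [e] at k3
    have := Nat.mul_le_mul k3 k3; omega

/-- The step. -/
theorem Hyp.centralizer_le : centralizer (U : Set G) ≤ normalizer (X.std : Set G) := by
  classical
  haveI := Fintype.ofFinite G
  set V := X.std with hV
  set C := centralizer (U : Set G) with hC
  have hUC : U ≤ C := fun u hu => Hyp.le_centralizer X h (X.fam_std h) (h.le hu)
  have hVC : V ≤ C := Hyp.le_centralizer X h (X.fam_std h)
  haveI hn : (U.subgroupOf C).Normal := ⟨fun u hu c => by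
    rw [mem_subgroupOf] at hu ⊢
    have e := mem_centralizer_iff.1 c.2 _ hu
    show (c : G) * u * (c : G)⁻¹ ∈ U
    rw [← e, mul_inv_cancel_right]
    exact hu⟩
  let f : ↥V →* ↥C ⧸ U.subgroupOf C := (QuotientGroup.mk' (U.subgroupOf C)).comp (inclusion hVC)
  have hmem : ∀ a : ↥C, (QuotientGroup.mk a : ↥C ⧸ U.subgroupOf C) ∈ f.range ↔ (a : G) ∈ V := by
    intro a
    constructor
    · rintro ⟨v, e⟩
      have := QuotientGroup.eq.1 (e : QuotientGroup.mk (inclusion hVC v) = _)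
      rw [mem_subgroupOf] at this
      have := mul_mem v.2 (h.le this)
      simpa using this
    · exact fun ha => ⟨⟨a, ha⟩, rfl⟩
  have hnorm : ∀ a : ↥C, (QuotientGroup.mk a : ↥C ⧸ U.subgroupOf C) ∈ normalizer (f.range : Set _) →
      (a : G) ∈ normalizer (V : Set G) := fun a ha => M22Order.mem_normalizer_of_conj fun v hv => by
    have := M22Order.conj_mem_of_mem_normalizer ha ((hmem ⟨v, hVC hv⟩).2 hv)
    rw [← QuotientGroup.mk_inv, ← QuotientGroup.mk_mul, ← QuotientGroup.mk_mul] at this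
    exact (hmem _).1 this
  have hnorm' : ∀ a : ↥C, (a : G) ∈ normalizer (V : Set G) →
      (QuotientGroup.mk a : ↥C ⧸ U.subgroupOf C) ∈ normalizer (f.range : Set _) := fun a ha =>
    M22Order.mem_normalizer_of_conj fun q hq => by
      obtain ⟨b, rfl⟩ := QuotientGroup.mk_surjective q
      rw [← QuotientGroup.mk_inv, ← QuotientGroup.mk_mul, ← QuotientGroup.mk_mul]
      exact (hmem _).2 (M22Order.conj_mem_of_mem_normalizer ha ((hmem b).1 hq))
  have hsq : ∀ v ∈ f.range, v * v = 1 := by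
    rintro _ ⟨v, rfl⟩
    rw [← map_mul, Subtype.ext (X.std_eleven.sq v v.2) (a1 := v * v) (a2 := 1), map_one]
  have hcomm : ∀ a ∈ f.range, ∀ b ∈ f.range, a * b = b * a := by
    rintro _ ⟨a, rfl⟩ _ ⟨b, rfl⟩
    rw [← map_mul, ← map_mul]
    exact congrArg f (Subtype.ext (X.std_eleven.comm a a.2 b b.2))
  have h1 : ∀ v ∈ f.range, v ≠ 1 → centralizer ({v} : Set (↥C ⧸ U.subgroupOf C)) ≤ normalizer (f.range : Set _) := by
    intro v hv hv1 q hq
    obtain ⟨a, rfl⟩ := QuotientGroup.mk_surjective q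
    obtain ⟨b, rfl⟩ := QuotientGroup.mk_surjective v
    have hbV := (hmem b).1 hv
    have hbU : (b : G) ∉ U := fun hu => hv1 ((QuotientGroup.eq_one_iff b).2 (mem_subgroupOf.2 hu))
    have e := mem_centralizer_singleton_iff.1 hq
    rw [← QuotientGroup.mk_mul, ← QuotientGroup.mk_mul, QuotientGroup.eq, mem_subgroupOf] at e
    refine hnorm' a ?_
    have hmem' : (b : G) ∈ cjS (a : G) V := by
      rw [mem_cjS]
      have hu : (a : G)⁻¹ * b * a = b * (((a * b)⁻¹ * (b * a) : ↥C) : G) := by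
        push_cast
        calc (a : G)⁻¹ * b * a = b * ((b : G)⁻¹ * (a : G)⁻¹ * b * a) := by group
          _ = _ := by group
      rw [hu]
      exact mul_mem hbV (h.le e)
    have hfam : X.Fam U (cjS (a : G) V) := ⟨a, a.2, rfl⟩
    have hcj := X.cap h hG hfam hmem' hbV hbU
    exact M22Order.mem_normalizer_of_conj fun x hx => by
      have : (a : G) * x * (a : G)⁻¹ ∈ cjS (a : G) V := ⟨x, hx, rfl⟩
      rwa [hcj] at this
  have h2 : ∀ v ∈ f.range, ∀ x : ↥C ⧸ U.subgroupOf C, x * v * x⁻¹ ∈ normalizer (f.range : Set _) →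
      x * v * x⁻¹ ∈ f.range := by
    intro v hv q hq
    obtain ⟨a, rfl⟩ := QuotientGroup.mk_surjective q
    obtain ⟨b, rfl⟩ := QuotientGroup.mk_surjective v
    rw [← QuotientGroup.mk_inv, ← QuotientGroup.mk_mul, ← QuotientGroup.mk_mul] at hq ⊢
    refine (hmem _).2 ?_
    by_contra hout
    have hW : X.Fam U (cjS (a : G) V) := ⟨a, a.2, rfl⟩
    have hb' : ((a * b * a⁻¹ : ↥C) : G) ∈ cjS (a : G) V := ⟨b, (hmem b).1 hv, rfl⟩
    exact X.no_trace h hG hW (fun e => hout (by rwa [e] at hb')) hb' (hnorm _ hq) fun hu => hout (h.le hu)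
  by_cases htr : ∀ v1 ∈ f.range, ∀ v2 ∈ f.range, v1 ≠ 1 → v2 ≠ 1 →
      ∃ y ∈ normalizer (f.range : Set _), y * v1 * y⁻¹ = v2
  swap
  · push Not at htr
    obtain ⟨v1, hv1, v2, hv2, hv1', hv2', hno⟩ := htr
    rcases J4V.ti_lemma f.range hsq hcomm h1 h2 hv1 hv1' hv2 hv2' with ⟨y, hy, e⟩ | hall
    · exact absurd e (hno y hy)
    intro a ha
    refine hnorm ⟨a, ha⟩ (M22Order.mem_normalizer_of_conj fun q hq => hall _ q hq)
  exfalso
  -- counting the conjugates of `z` in the cosets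
  let F : G → ↥C ⧸ U.subgroupOf C := fun v => if hv : v ∈ C then QuotientGroup.mk ⟨v, hv⟩ else 1
  have hF : ∀ v (hv : v ∈ C), F v = QuotientGroup.mk ⟨v, hv⟩ := fun v hv => dif_pos hv
  haveI := Fintype.ofFinite (↥C ⧸ U.subgroupOf C)
  set Z := Finset.univ.filter fun v : G => v ∈ V ∧ IsConj z v with hZ
  set T := Finset.univ.filter fun q : ↥C ⧸ U.subgroupOf C => q ∈ f.range ∧ q ≠ 1 with hT
  have hZc : Z.card = 1771 := by
    rw [← (X.params hG).2.1, ← Set.ncard_coe_finset]; congr 1; ext v; simp [hZ, hV]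
  have hmaps : ∀ v ∈ Z, F v ∈ T := by
    intro v hv
    obtain ⟨hvV, hvz⟩ := (Finset.mem_filter.1 hv).2
    refine Finset.mem_filter.2 ⟨Finset.mem_univ _, ?_, fun e => ?_⟩
    · rw [hF v (hVC hvV)]; exact (hmem _).2 hvV
    · rw [hF v (hVC hvV), QuotientGroup.eq_one_iff, mem_subgroupOf] at e
      exact h.nz v e hvz
  have hsum := Finset.card_eq_sum_card_fiberwise hmaps
  have hle : ∀ q1 ∈ T, ∀ q2 ∈ T, (Z.filter fun v => F v = q1).card ≤ (Z.filter fun v => F v = q2).card := by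
    intro q1 hq1 q2 hq2
    obtain ⟨-, hq1', hq1''⟩ := Finset.mem_filter.1 hq1
    obtain ⟨-, hq2', hq2''⟩ := Finset.mem_filter.1 hq2
    obtain ⟨y, hy, e⟩ := htr q1 hq1' q2 hq2' hq1'' hq2''
    obtain ⟨c, rfl⟩ := QuotientGroup.mk_surjective y
    refine Finset.card_le_card_of_injOn (fun v => (c : G) * v * (c : G)⁻¹) (fun v hv => ?_)
      (fun x _ y _ e => mul_left_cancel (mul_right_cancel e))
    simp only [Finset.coe_filter, hZ, Finset.mem_filter, Finset.mem_univ, true_and] at hv ⊢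
    obtain ⟨⟨hvV, hvz⟩, hvq⟩ := hv
    have hcv := M22Order.conj_mem_of_mem_normalizer (hnorm c hy) hvV
    refine ⟨⟨hcv, hvz.trans (isConj_iff.2 ⟨c, rfl⟩)⟩, ?_⟩
    rw [hF _ (hVC hcv), ← e, ← hvq, hF _ (hVC hvV)]
    rfl
  have hTc : T.card = Nat.card ↥f.range - 1 := by
    have e : T = (Finset.univ.filter fun q => q ∈ f.range).erase 1 := by
      ext q; simp [hT, and_comm]
    rw [e, Finset.card_erase_of_mem (Finset.mem_filter.2 ⟨Finset.mem_univ _, one_mem _⟩), ← Fintype.card_subtype,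
      ← Nat.card_eq_fintype_card]
  have hker : Nat.card ↥f.range * Nat.card U = 2 ^ 11 := by
    have e : f.ker = U.subgroupOf V := by
      ext v
      rw [MonoidHom.mem_ker, mem_subgroupOf, show f v = QuotientGroup.mk (inclusion hVC v) from rfl,
        QuotientGroup.eq_one_iff, mem_subgroupOf]
      rfl
    have hm := f.ker.card_mul_index
    rw [index_ker, e, Nat.card_congr (subgroupOfEquivOfLe h.le).toEquiv, X.std_eleven.card] at hm
    rw [mul_comm]; exact hm
  obtain ⟨q0, hq0⟩ : T.Nonempty := by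
    rw [← Finset.card_pos, hTc]
    rcases X.card_cases h hG with e | e | e <;> rw [e] at hker <;> omega
  rw [hZc, Finset.sum_congr rfl (fun q hq => le_antisymm (hle q hq q0 hq0) (hle q0 hq0 q hq)), Finset.sum_const,
    smul_eq_mul, hTc] at hsum
  rcases X.card_cases h hG with e | e | e <;> rw [e] at hker
  · rw [show Nat.card ↥f.range = 1024 by omega] at hsum; omega
  · rw [show Nat.card ↥f.range = 512 by omega] at hsum; omega
  · rw [show Nat.card ↥f.range = 256 by omega] at hsum; omega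

omit h in
theorem centralizer_sub_le : ∀ U : Subgroup G, U ≤ X.std → U ≠ ⊥ → (∀ u ∈ U, ¬ IsConj z u) →
    centralizer (U : Set G) ≤ normalizer (X.std : Set G) := by
  suffices key : ∀ k : ℕ, ∀ U : Subgroup G, 2 ^ 11 - Nat.card U ≤ k → U ≤ X.std → U ≠ ⊥ →
      (∀ u ∈ U, ¬ IsConj z u) → centralizer (U : Set G) ≤ normalizer (X.std : Set G) from
    fun U => key _ U le_rfl
  intro k
  induction k using Nat.strong_induction_on with
  | _ k ih =>
    intro U hk hU hne hnz
    refine Hyp.centralizer_le X ⟨hU, hne, hnz, fun U' hU' hnz' hle hne' => ?_⟩ hG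
    have hlt : Nat.card U < Nat.card U' := by
      by_contra hcon
      exact hne' (eq_of_le_of_card_ge hle (not_lt.1 hcon))
    have hle' : Nat.card U' ≤ 2 ^ 11 := X.std_eleven.card ▸ Subgroup.card_le_of_le hU'
    exact ih (2 ^ 11 - Nat.card U') (by omega) U' le_rfl hU' (fun e => hne (le_bot_iff.1 (e ▸ hle))) hnz'

omit h in
theorem centralizer_le_of_not_zt {t : G} (ht : t ∈ X.std) (ht1 : t ≠ 1) (htn : ¬ IsConj z t) :
    centralizer ({t} : Set G) ≤ normalizer (X.std : Set G) := by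
  intro g hg
  refine X.centralizer_sub_le hG (zpowers t) (zpowers_le.2 ht) (zpowers_ne_bot.2 ht1) (fun u hu hz => ?_)
    (mem_centralizer_iff.2 fun u hu => ?_)
  · obtain ⟨i, rfl⟩ := mem_zpowers_iff.1 hu
    have h2 : t ^ (2 : ℤ) = 1 := by rw [zpow_two, X.std_eleven.sq t ht]
    rcases Int.even_or_odd i with ⟨j, rfl⟩ | ⟨j, rfl⟩
    · rw [← two_mul, zpow_mul, h2, one_zpow] at hz
      exact X.L.J.ctr.ne_one (isConj_one_left.1 hz)
    · rw [zpow_add, zpow_mul, h2, one_zpow, one_mul, zpow_one] at hz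
      exact htn hz
  · obtain ⟨i, rfl⟩ := mem_zpowers_iff.1 hu
    exact ((show Commute g t from mem_centralizer_singleton_iff.1 hg).zpow_right i).eq.symm

end Cfsg.Agent.J4Eleven.Chart
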