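import Cfsg.Agent.Lib.J4V.Classify

/-!
# Janko four type: the others paired by a conjugate of `z`

A conjugate of `z` pairs 36 of the 276 others; of these, four go with a given one and make a plane with it.
-/

set_option autoImplicit false
set_option linter.style.haveILetI false
set_option linter.unusedSectionVars false

namespace Cfsg.Agent.J4Eleven.Chart

open Subgroup
open Cfsg.Agent.J4Local

universe u

variable {G : Type u} [Group G] [Finite G] {z : G} {P : Subgroup G} (X : Chart z P)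

/-- The others. -/
def DD : Set G := {v | v ∈ X.std ∧ v ≠ 1 ∧ ¬ IsConj z v}

theorem mem_DD_conj {n : G} (hn : n ∈ normalizer (X.std : Set G)) {v : G} :
    n * v * n⁻¹ ∈ X.DD ↔ v ∈ X.DD := by
  constructor
  · rintro ⟨h1, h2, h3⟩
    refine ⟨by simpa [mul_assoc] using M22Order.conj_mem_of_mem_normalizer (inv_mem hn) h1,
      fun e => h2 (by rw [e]; group), fun h => h3 (h.trans (isConj_iff.2 ⟨n, rfl⟩))⟩
  · rintro ⟨h1, h2, h3⟩
    exact ⟨M22Order.conj_mem_of_mem_normalizer hn h1, fun e => h2 (conj_eq_one_iff.1 e),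
      fun h => h3 (h.trans (isConj_iff.2 ⟨n, rfl⟩).symm)⟩

theorem DD_inv {v : G} (hv : v ∈ X.DD) : v⁻¹ = v :=
  inv_eq_of_mul_eq_one_right (X.std_eleven.sq v hv.1)

variable [IsSimpleGroup G] (hG : ¬ IsMulCommutative G)

include hG

theorem pair_z {d : G} :
    (d ∈ X.DD ∧ d * z ∈ X.DD) ↔ (d ∈ preV X.L.J X.WV ∧ vk z d ∈ X.five) := by
  constructor
  · rintro ⟨⟨hd, hd1, hdn⟩, hdz, -, hdzn⟩
    have hW : d ∈ preV X.L.J X.WV := by
      obtain ⟨y, hy, c, hc, rfl⟩ := hd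
      by_cases hm1 : X.π ⟨c, X.LE_le_CC hc⟩ = 1
      · have hcz : c ∈ zpowers z := X.mem_zpowers_of_six ((X.mem_ker_iff _).1 hm1) (by
          rw [hc.2.2]; exact one_mem _)
        exact mul_mem hy (zpowers_le.2 X.z_mem_preW hcz)
      exfalso
      rw [← X.LE_preV_comm hc hy] at hdn hdzn
      have h1 := (X.on_line_of_not_zt hG hc rfl hm1 hy hdn).2
      have h2 := Hc.mul_z X h1
      rw [mul_assoc, X.L.J.ctr.zz, mul_one] at h2
      exact hdzn ((Hc.zt X h2).1 (X.zl_zt hG hc.2.1 hm1))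
    exact ⟨hW, X.five_of_not_zt hG hW hd1 hdn⟩
  · rintro ⟨hW, h5⟩
    have key : ∀ y ∈ preV X.L.J X.WV, vk z y ∈ X.five → y ∈ X.DD := fun y hy hy5 =>
      ⟨X.preV_le_std hy, fun e => hy5.2.1 (by rw [e, vk_one]), X.not_zt_five hG hy hy5⟩
    refine ⟨key d hW h5, key _ (X.mul_z_mem_preW hW) ?_⟩
    rwa [X.vk_mul_z hW.1]

theorem local36_z : {d | d ∈ X.DD ∧ d * z ∈ X.DD}.ncard = 36 := by
  classical
  simp only [X.pair_z hG]
  rw [X.card_fib (fun v => vk z v ∈ X.five) (fun v => if v ∈ X.five then 2 else 0) (fun v hv => by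
      rw [X.vk_mul_z hv.1]
      split_ifs <;> rfl), ← Finset.sum_filter, Finset.sum_const, smul_eq_mul]
  have e : ((Set.toFinite (X.WV : Set (VV z))).toFinset.filter fun v => v ∈ X.five).card = 18 := by
    rw [← X.five_ncard, ← Set.ncard_coe_finset]
    congr 1
    ext v
    simp only [Finset.coe_filter, Set.Finite.mem_toFinset, SetLike.mem_coe]
    exact ⟨fun h => h.2, fun h => ⟨h.1, h⟩⟩
  rw [e]

theorem local4_z {d : G} (hd : d ∈ X.DD) (hdz : d * z ∈ X.DD) :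
    {u | (u ∈ X.DD ∧ u * z ∈ X.DD) ∧ u ≠ d ∧ u ≠ d * z ∧ d * u ∈ X.DD ∧ d * u * z ∈ X.DD}.ncard = 4 := by
  classical
  haveI := Fintype.ofFinite (VV z)
  have hJ := X.L.J
  obtain ⟨hdW, hd5⟩ := (X.pair_z hG).1 ⟨hd, hdz⟩
  set w := vk z d with hw
  have e : {u | (u ∈ X.DD ∧ u * z ∈ X.DD) ∧ u ≠ d ∧ u ≠ d * z ∧ d * u ∈ X.DD ∧ d * u * z ∈ X.DD} =
      {u | u ∈ preV hJ X.WV ∧ (vk z u ∈ X.ln w ∧ vk z u ≠ 0 ∧ vk z u ≠ w)} := by
    ext u
    constructor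
    · rintro ⟨hu, hne, hne', hdu⟩
      obtain ⟨huW, hu5⟩ := (X.pair_z hG).1 hu
      obtain ⟨-, hdu5⟩ := (X.pair_z hG).1 hdu
      rw [vk_mul hdW.1 huW.1] at hdu5
      refine ⟨huW, ?_, hu5.2.1, fun e' => ?_⟩
      · by_contra hln
        exact X.five_add hd5 hu5 hln hdu5
      · rcases (vk_eq_vk_iff hJ huW.1 hdW.1).1 e' with r | r
        exacts [hne r, hne' r]
    · rintro ⟨huW, hln, hu0, hune⟩
      have hu5 := X.five_ln hd5 hln hu0
      refine ⟨(X.pair_z hG).2 ⟨huW, hu5⟩, fun r => hune (by rw [r]),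
        fun r => hune (by rw [r, X.vk_mul_z hdW.1]), (X.pair_z hG).2 ⟨mul_mem hdW huW, ?_⟩⟩
      rw [vk_mul hdW.1 huW.1]
      refine X.five_ln hd5 (add_mem (self_mem_line _ _ _) hln) fun h0 => hune (VV.eq_of_add hJ h0).symm
  rw [e, X.card_fib (fun u => vk z u ∈ X.ln w ∧ vk z u ≠ 0 ∧ vk z u ≠ w)
    (fun v => if v ∈ X.ln w ∧ v ≠ 0 ∧ v ≠ w then 2 else 0) (fun v hv => by
      rw [X.vk_mul_z hv.1]
      split_ifs <;> rfl), ← Finset.sum_filter, Finset.sum_const, smul_eq_mul]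
  have e2 : ((Set.toFinite (X.WV : Set (VV z))).toFinset.filter fun v => v ∈ X.ln w ∧ v ≠ 0 ∧ v ≠ w) =
      ((Finset.univ.filter fun v => v ∈ X.ln w).erase 0).erase w := by
    ext v
    simp only [Finset.mem_filter, Set.Finite.mem_toFinset, SetLike.mem_coe, Finset.mem_erase,
      Finset.mem_univ, true_and]
    exact ⟨fun h => ⟨h.2.2.2, h.2.2.1, h.2.1⟩, fun h =>
      ⟨X.ln_le (fun x hx => X.act_P_WV X.pp_mem hx) hd5.1 h.2.2, h.2.2, h.2.1, h.1⟩⟩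
  rw [e2, Finset.card_erase_of_mem (Finset.mem_erase.2 ⟨hd5.2.1, Finset.mem_filter.2
    ⟨Finset.mem_univ _, self_mem_line _ _ _⟩⟩), Finset.card_erase_of_mem (Finset.mem_filter.2
    ⟨Finset.mem_univ _, zero_mem _⟩), ← Fintype.card_subtype, ← Nat.card_eq_fintype_card,
    show Nat.card {v // v ∈ X.ln w} = 4 from X.card_ln hd5.2.1]

theorem local36 {y : G} (hy : y ∈ X.std) (hyz : IsConj z y) :
    {d | d ∈ X.DD ∧ d * y ∈ X.DD}.ncard = 36 := by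
  obtain ⟨n, hn, rfl⟩ : y ∈ {x | ∃ n ∈ normalizer (X.std : Set G), n * z * n⁻¹ = x} := by
    rw [X.zt_orbit hG]; exact ⟨hy, hyz⟩
  have hinj : Function.Injective fun d => n * d * n⁻¹ := fun a b e => mul_left_cancel (mul_right_cancel e)
  rw [← X.local36_z hG, ← Set.ncard_image_of_injective {d | d ∈ X.DD ∧ d * z ∈ X.DD} hinj]
  congr 1
  ext v
  obtain ⟨a, rfl⟩ : ∃ a, n * a * n⁻¹ = v := ⟨n⁻¹ * v * n, by group⟩
  rw [show n * a * n⁻¹ = (fun d => n * d * n⁻¹) a from rfl, hinj.mem_set_image]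
  show (n * a * n⁻¹ ∈ X.DD ∧ n * a * n⁻¹ * (n * z * n⁻¹) ∈ X.DD) ↔ _
  rw [show n * a * n⁻¹ * (n * z * n⁻¹) = n * (a * z) * n⁻¹ by group, X.mem_DD_conj hn, X.mem_DD_conj hn]
  rfl

theorem local4 {y : G} (hy : y ∈ X.std) (hyz : IsConj z y) {d : G} (hd : d ∈ X.DD) (hdy : d * y ∈ X.DD) :
    {u | (u ∈ X.DD ∧ u * y ∈ X.DD) ∧ u ≠ d ∧ u ≠ d * y ∧ d * u ∈ X.DD ∧ d * u * y ∈ X.DD}.ncard = 4 := by
  obtain ⟨n, hn, rfl⟩ : y ∈ {x | ∃ n ∈ normalizer (X.std : Set G), n * z * n⁻¹ = x} := by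
    rw [X.zt_orbit hG]; exact ⟨hy, hyz⟩
  obtain ⟨b, rfl⟩ : ∃ b, n * b * n⁻¹ = d := ⟨n⁻¹ * d * n, by group⟩
  rw [show n * b * n⁻¹ * (n * z * n⁻¹) = n * (b * z) * n⁻¹ by group, X.mem_DD_conj hn] at hdy
  rw [X.mem_DD_conj hn] at hd
  have hinj : Function.Injective fun d => n * d * n⁻¹ := fun a b e => mul_left_cancel (mul_right_cancel e)
  rw [← X.local4_z hG hd hdy, ← Set.ncard_image_of_injective
    {u | (u ∈ X.DD ∧ u * z ∈ X.DD) ∧ u ≠ b ∧ u ≠ b * z ∧ b * u ∈ X.DD ∧ b * u * z ∈ X.DD} hinj]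
  congr 1
  ext v
  obtain ⟨a, rfl⟩ : ∃ a, n * a * n⁻¹ = v := ⟨n⁻¹ * v * n, by group⟩
  rw [show n * a * n⁻¹ = (fun d => n * d * n⁻¹) a from rfl, hinj.mem_set_image]
  simp only [Set.mem_ofPred_eq]
  rw [show n * a * n⁻¹ * (n * z * n⁻¹) = n * (a * z) * n⁻¹ by group,
    show n * b * n⁻¹ * (n * a * n⁻¹) = n * (b * a) * n⁻¹ by group,
    show n * b * n⁻¹ * (n * z * n⁻¹) = n * (b * z) * n⁻¹ by group,
    show n * (b * a) * n⁻¹ * (n * z * n⁻¹) = n * (b * a * z) * n⁻¹ by group,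
    X.mem_DD_conj hn, X.mem_DD_conj hn, X.mem_DD_conj hn, X.mem_DD_conj hn]
  simp only [mul_left_inj, mul_right_inj, ne_eq]

end Cfsg.Agent.J4Eleven.Chart
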