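import Cfsg.Agent.Lib.J4V.SplitElement
import Cfsg.Agent.Lib.M24CocodeSplit.Split

/-!
# Janko four type: the normaliser of the subgroup of order `2 ^ 11` splits once identified

* `exists_complement`: from an identification of `N(V) / V` with M24 and of `V` with the even cocode.
-/

set_option autoImplicit false
set_option linter.style.haveILetI false

namespace Cfsg.Agent.J4V.Split

open Subgroup
open Cfsg
open Cfsg.Agent.J4Local
open Cfsg.Agent.J4Eleven

universe u

variable {G : Type u} [Group G] [Finite G] {z : G} {P : Subgroup G}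

/-- The normaliser of a subgroup of order `2 ^ 11`, as a group. -/
abbrev NV (V : Subgroup G) : Subgroup G := normalizer (V : Set G)

/-- The subgroup inside its normaliser. -/
abbrev VN (V : Subgroup G) : Subgroup ↥(NV V) := V.subgroupOf (NV V)

theorem exists_complement (X : Chart z P) (φ : ↥(NV X.std) ⧸ VN X.std ≃* ↥M24)
    (ε : (GolayPt → ZMod 2) → ↥(NV X.std))
    (hadd : ∀ v w, ∑ p, v p = 0 → ∑ p, w p = 0 → ε (v + w) = ε v * ε w)
    (hmem : ∀ w, ∑ p, w p = 0 → ε w ∈ VN X.std)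
    (hsurj : ∀ n ∈ VN X.std, ∃ w, ∑ p, w p = 0 ∧ ε w = n)
    (hcode : ∀ w ∈ golayCode, ε w = 1)
    (hconj : ∀ (g : ↥(NV X.std)) (w : GolayPt → ZMod 2), ∑ p, w p = 0 → g * ε w * g⁻¹ =
      ε (fun p => w ((((φ (QuotientGroup.mk g) : ↥M24) : Equiv.Perm GolayPt))⁻¹ p))) :
    ∃ K : Subgroup G, K ≤ NV X.std ∧ K ⊓ X.std = ⊥ ∧ K ⊔ X.std = NV X.std ∧ Nonempty (↥K ≃* ↥M24) := by
  have hle : X.std ≤ NV X.std := le_normalizer
  have hcard : Nat.card (VN X.std) = 2 ^ 11 := by
    rw [Nat.card_congr (subgroupOfEquivOfLe hle).toEquiv, X.std_eleven.card]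
  obtain ⟨g, hg, hg4, hfix⟩ := SplitElement.exists_split_element (X := X)
  obtain ⟨K, hKi, hKs⟩ := M24CocodeSplit.Split.split (VN X.std) φ hcard ε hadd hmem hsurj hcode hconj
    ⟨⟨g, hg⟩, Subtype.ext hg4, (Nat.card_le_card_of_injective
      (fun n => (⟨⟨((n.1 : ↥(NV X.std)) : G), n.1.2⟩, congrArg Subtype.val n.2⟩ :
        {v : X.std // g * v * g⁻¹ = (v : G)})) fun a b e => by
          apply Subtype.ext; apply Subtype.ext; apply Subtype.ext
          exact congrArg (fun v : {v : X.std // g * v * g⁻¹ = (v : G)} => ((v.1 : X.std) : G)) e).trans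
      hfix⟩
  refine ⟨K.map (NV X.std).subtype, map_subtype_le K, ?_, ?_, ?_⟩
  · rw [eq_bot_iff]
    rintro _ ⟨⟨k, hk, rfl⟩, hkV⟩
    have h : k ∈ K ⊓ VN X.std := ⟨hk, hkV⟩
    rw [hKi, Subgroup.mem_bot] at h
    rw [Subgroup.mem_bot, h]; rfl
  · have h := congrArg (Subgroup.map (NV X.std).subtype) hKs
    rwa [Subgroup.map_sup, subgroupOf_map_subtype, inf_eq_left.2 hle, ← MonoidHom.range_eq_map,
      Subgroup.range_subtype] at h
  · have hc : Subgroup.IsComplement' K (VN X.std) :=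
      Subgroup.isComplement'_of_disjoint_and_mul_eq_univ (disjoint_iff.2 hKi) (by
        rw [← Subgroup.mul_normal K (VN X.std), hKs]; rfl)
    exact ⟨((K.equivMapOfInjective _ (NV X.std).subtype_injective).symm.trans
      hc.QuotientMulEquiv.symm).trans φ⟩

end Cfsg.Agent.J4V.Split
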