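import Cfsg.Agent.Lib.J4V.Code
import Cfsg.Agent.Lib.J4V.Local
import Cfsg.Agent.Lib.J4V.Cent
import Cfsg.Agent.Lib.J4V.Split

/-!
# Janko four type: the normaliser of a subgroup of order `2 ^ 11` is its split extension by `M24`

* `exists_phi_eps`: the quotient is `M24`, acting as on the even cocode.
* `exists_complement`: the splitting, for the standard one.
-/

set_option autoImplicit false
set_option linter.style.haveILetI false
set_option linter.unusedSectionVars false

namespace Cfsg.Agent.J4Eleven.Chart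

open Subgroup
open Cfsg (M24)
open Cfsg.Agent.J4Local

universe u

variable {G : Type u} [Group G] [Finite G] {z : G} {P : Subgroup G} (X : Chart z P)
  [IsSimpleGroup G] (hG : ¬ IsMulCommutative G)

include hG

/-- The others generate. -/
theorem closure_DD : Subgroup.closure X.DD = X.std := by
  set S := Subgroup.closure X.DD with hS
  have hle : S ≤ X.std := (Subgroup.closure_le _).2 fun v hv => hv.1
  have hnorm : ∀ n ∈ normalizer (X.std : Set G), ∀ v ∈ S, n * v * n⁻¹ ∈ S := by
    intro n hn v hv
    induction hv using Subgroup.closure_induction with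
    | mem x hx => exact Subgroup.subset_closure ((X.mem_DD_conj hn).2 hx)
    | one => simp
    | mul a b _ _ ha hb =>
      rw [show n * (a * b) * n⁻¹ = n * a * n⁻¹ * (n * b * n⁻¹) by group]
      exact mul_mem ha hb
    | inv a _ ha =>
      rw [show n * a⁻¹ * n⁻¹ = (n * a * n⁻¹)⁻¹ by group]
      exact inv_mem ha
  have hdd : (insert (1 : G) X.DD).ncard = 277 := by
    rw [Set.ncard_insert_of_notMem (fun h => h.2.1 rfl), DD, X.others_ncard hG]
  have hsub : insert (1 : G) X.DD ⊆ (S : Set G) :=
    Set.insert_subset (one_mem _) Subgroup.subset_closure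
  have hdvd : Nat.card ↥S ∣ 2 ^ 11 := X.std_eleven.card ▸ Subgroup.card_dvd_of_le hle
  by_cases hz : ∃ v ∈ S, IsConj z v
  · obtain ⟨v, hv, hzv⟩ := hz
    obtain ⟨m, hm, rfl⟩ : v ∈ {x | ∃ n ∈ normalizer (X.std : Set G), n * z * n⁻¹ = x} := by
      rw [X.zt_orbit hG]; exact ⟨hle hv, hzv⟩
    refine le_antisymm hle fun w hw => ?_
    by_cases h1 : w = 1
    · rw [h1]; exact one_mem _
    by_cases hzw : IsConj z w
    · obtain ⟨n, hn, rfl⟩ : w ∈ {x | ∃ n ∈ normalizer (X.std : Set G), n * z * n⁻¹ = x} := by
        rw [X.zt_orbit hG]; exact ⟨hw, hzw⟩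
      have h := hnorm (n * m⁻¹) (mul_mem hn (inv_mem hm)) _ hv
      rwa [show n * m⁻¹ * (m * z * m⁻¹) * (n * m⁻¹)⁻¹ = n * z * n⁻¹ by group] at h
    · exact Subgroup.subset_closure ⟨hw, h1, hzw⟩
  · exfalso
    have hset : (S : Set G) = insert (1 : G) X.DD := by
      refine Set.Subset.antisymm (fun w hw => ?_) hsub
      by_cases h1 : w = 1
      · exact Or.inl h1
      · exact Or.inr ⟨hle hw, h1, fun h => hz ⟨w, hw, h⟩⟩
    have h277 : Nat.card ↥S = 277 := by
      rw [← hdd, ← hset]; exact Nat.card_coe_set_eq (S : Set G)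
    rw [h277] at hdvd
    norm_num at hdvd

open Finset in
/-- The quotient is `M24`, acting as on the even cocode. -/
theorem exists_phi_eps :
    ∃ φ : ↥(J4V.Split.NV X.std) ⧸ J4V.Split.VN X.std ≃* ↥M24,
      ∃ ε : (Cfsg.GolayPt → ZMod 2) → ↥(J4V.Split.NV X.std),
        (∀ v w, ∑ p, v p = 0 → ∑ p, w p = 0 → ε (v + w) = ε v * ε w) ∧
        (∀ w, ∑ p, w p = 0 → ε w ∈ J4V.Split.VN X.std) ∧
        (∀ n ∈ J4V.Split.VN X.std, ∃ w, ∑ p, w p = 0 ∧ ε w = n) ∧
        (∀ w ∈ Cfsg.golayCode, ε w = 1) ∧
        ∀ (g : ↥(J4V.Split.NV X.std)) (w : Cfsg.GolayPt → ZMod 2), ∑ p, w p = 0 → g * ε w * g⁻¹ =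
          ε (fun p => w ((((φ (QuotientGroup.mk g) : ↥M24) : Equiv.Perm Cfsg.GolayPt))⁻¹ p)) := by
  classical
  have hV := X.std_eleven
  letI : CommGroup ↥X.std :=
    { (inferInstance : Group ↥X.std) with mul_comm := fun a b => Subtype.ext (hV.comm a a.2 b b.2) }
  haveI : Fintype (Additive ↥X.std) := Fintype.ofFinite _
  let val : Additive ↥X.std → G := fun w => ((Additive.toMul w : ↥X.std) : G)
  have val_inj : Function.Injective val := fun a b h => Additive.toMul.injective (Subtype.ext h)
  have val_mem : ∀ w, val w ∈ X.std := fun w => (Additive.toMul w : ↥X.std).2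
  have val_sur : ∀ g ∈ X.std, ∃ w, val w = g := fun g hg => ⟨Additive.ofMul ⟨g, hg⟩, rfl⟩
  have val_add : ∀ a b, val (a + b) = val a * val b := fun a b => rfl
  have val_zero : val 0 = 1 := rfl
  have hcount : ∀ (p : G → Prop), (∀ g, p g → g ∈ X.std) →
      (univ.filter fun w => p (val w)).card = {g | p g}.ncard := by
    intro p hp
    rw [← Set.ncard_coe_finset, ← Set.ncard_image_of_injective _ val_inj]
    congr 1
    ext g
    simp only [coe_filter, mem_univ, true_and, Set.mem_image, Set.mem_ofPred_eq]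
    exact ⟨fun ⟨w, hw, e⟩ => e ▸ hw, fun h => (val_sur g (hp g h)).elim fun w e => ⟨w, e ▸ h, e⟩⟩
  let cj : ↥(J4V.Split.NV X.std) → Additive ↥X.std ≃+ Additive ↥X.std := fun n =>
    { toFun := fun w => Additive.ofMul
        ⟨(n : G) * val w * (n : G)⁻¹, M22Order.conj_mem_of_mem_normalizer n.2 (val_mem w)⟩
      invFun := fun w => Additive.ofMul
        ⟨(n : G)⁻¹ * val w * (n : G)⁻¹⁻¹, M22Order.conj_mem_of_mem_normalizer (inv_mem n.2) (val_mem w)⟩
      left_inv := fun w => val_inj (by simp [val, mul_assoc])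
      right_inv := fun w => val_inj (by simp [val, mul_assoc])
      map_add' := fun a b => val_inj (by
        show (n : G) * val (a + b) * (n : G)⁻¹ = (n : G) * val a * (n : G)⁻¹ * ((n : G) * val b * (n : G)⁻¹)
        rw [val_add]; group) }
  have cj_val : ∀ n w, val (cj n w) = (n : G) * val w * (n : G)⁻¹ := fun n w => rfl
  set D : Finset (Additive ↥X.std) := univ.filter fun w => val w ∈ X.DD with hDdef
  have memD : ∀ w, w ∈ D ↔ val w ∈ X.DD := fun w => by simp [hDdef]
  have cj_D : ∀ n w, cj n w ∈ D ↔ w ∈ D := fun n w => by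
    rw [memD, memD, cj_val, X.mem_DD_conj n.2]
  have zt_of : ∀ w, w ≠ 0 → w ∉ D → IsConj z (val w) := by
    intro w h0 hD
    by_contra h
    exact hD ((memD w).2 ⟨val_mem w, fun e => h0 (val_inj (e.trans val_zero.symm)), h⟩)
  let A : J4V.Points.Data (Additive ↥X.std) :=
    { D := D
      two := fun w => val_inj (by rw [val_add, val_zero]; exact hV.sq _ (val_mem w))
      cardW := by
        rw [← Nat.card_eq_fintype_card, Nat.card_congr (Additive.toMul), hV.card]; norm_num
      cardD := (hcount (fun g => g ∈ X.DD) fun g h => h.1).trans (X.others_ncard hG)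
      zero := fun h => ((memD 0).1 h).2.1 val_zero
      gen := by
        rw [eq_top_iff]
        intro w _
        have h := val_mem w
        rw [← X.closure_DD hG] at h
        have key : ∀ g ∈ Subgroup.closure X.DD, ∀ w, val w = g →
            w ∈ AddSubgroup.closure (D : Set (Additive ↥X.std)) := by
          intro g hg
          induction hg using Subgroup.closure_induction with
          | mem x hx => exact fun w e => AddSubgroup.subset_closure ((memD w).2 (e ▸ hx))
          | one => exact fun w e => (val_inj (e.trans val_zero.symm)) ▸ zero_mem _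
          | mul a b ha hb iha ihb =>
            intro w e
            have ha' : a ∈ X.std := X.closure_DD hG ▸ ha
            have hb' : b ∈ X.std := X.closure_DD hG ▸ hb
            obtain ⟨a', rfl⟩ := val_sur a ha'
            obtain ⟨b', rfl⟩ := val_sur b hb'
            rw [val_inj (e.trans (val_add a' b').symm)]
            exact add_mem (iha a' rfl) (ihb b' rfl)
          | inv a ha iha =>
            intro w e
            refine iha w ?_
            rw [e]
            exact inv_eq_of_mul_eq_one_right (hV.sq a (X.closure_DD hG ▸ ha))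
        exact key _ h w rfl
      trans := by
        intro d hd d' hd'
        obtain ⟨h1, h2, h3⟩ := (memD d).1 hd
        obtain ⟨h1', h2', h3'⟩ := (memD d').1 hd'
        obtain ⟨n, hn, e⟩ := X.others_conj hG h1 h2 h3 h1' h2' h3'
        exact ⟨cj ⟨n, hn⟩, cj_D _, val_inj (by rw [cj_val]; exact e)⟩
      o36 := by
        intro y hy0 hyD
        rw [← X.local36 hG (val_mem y) (zt_of y hy0 hyD),
          ← hcount (fun g => g ∈ X.DD ∧ g * val y ∈ X.DD) fun g h => h.1.1]
        congr 1
        ext w
        simp only [mem_filter, mem_univ, true_and, memD, val_add]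
      four := by
        intro y hy0 hyD d hd hdy
        rw [← X.local4 hG (val_mem y) (zt_of y hy0 hyD) ((memD d).1 hd)
            (val_add d y ▸ (memD _).1 hdy),
          ← hcount (fun g => (g ∈ X.DD ∧ g * val y ∈ X.DD) ∧ g ≠ val d ∧ g ≠ val d * val y ∧
            val d * g ∈ X.DD ∧ val d * g * val y ∈ X.DD) fun g h => h.1.1.1]
        congr 1
        ext w
        simp only [mem_filter, mem_univ, true_and, memD, ← val_add, val_inj.ne_iff, and_assoc] }
  have hle : X.std ≤ J4V.Split.NV X.std := le_normalizer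
  have hcard : Nat.card (↥(J4V.Split.NV X.std) ⧸ J4V.Split.VN X.std) = 244823040 := by
    have h := Subgroup.card_eq_card_quotient_mul_card_subgroup (J4V.Split.VN X.std)
    rw [Nat.card_congr (Subgroup.subgroupOfEquivOfLe hle).toEquiv, hV.card, (X.params hG).1] at h
    omega
  exact J4V.Points.recognise (J4V.Split.VN X.std) A
    (fun w => (⟨val w, hle (val_mem w)⟩ : ↥(J4V.Split.NV X.std)))
    (fun a b => Subtype.ext (val_add a b)) (fun a b h => val_inj (congrArg (fun x : ↥(J4V.Split.NV X.std) => (x : G)) h))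
    (fun n => by
      rw [Subgroup.mem_subgroupOf]
      exact ⟨fun h => (val_sur _ h).elim fun w e => ⟨w, Subtype.ext e⟩, fun ⟨w, e⟩ => e ▸ val_mem w⟩)
    cj (fun g w => Subtype.ext (cj_val g w).symm) cj_D
    (fun g hg => by
      rw [Subgroup.mem_subgroupOf]
      refine X.centralizer_std (Subgroup.mem_centralizer_iff.2 fun a ha => ?_)
      exact (congrArg Subtype.val (hg ⟨a, hle ha⟩ (Subgroup.mem_subgroupOf.2 ha))).symm)
    hcard

/-- The normaliser splits with quotient `M24`. -/
theorem exists_complement :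
    ∃ K : Subgroup G, K ≤ J4V.Split.NV X.std ∧ K ⊓ X.std = ⊥ ∧ K ⊔ X.std = J4V.Split.NV X.std ∧
      Nonempty (↥K ≃* ↥M24) := by
  obtain ⟨φ, ε, e1, e2, e3, e4, e5⟩ := X.exists_phi_eps hG
  exact J4V.Split.exists_complement X φ ε e1 e2 e3 e4 e5

end Cfsg.Agent.J4Eleven.Chart
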