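import Mathlib
import Cfsg.Agent.GroupStructure3.FrattiniAut
import Cfsg.Agent.Lib.M22Order.LocalTools

/-!
An elementary abelian subgroup of order `2 ^ 11` which is its own centraliser: elements of order 23 or 89 of
its normaliser act without fixed points, so the normaliser does not have 2047 times the order `2 ^ 11 · 138240`.
-/

set_option autoImplicit false
set_option linter.all false

namespace Cfsg.Agent.J4V

open Subgroup

variable {G : Type*} [Group G] [Finite G] (V : Subgroup G) (hsq : ∀ v ∈ V, v * v = 1)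
  (hcomm : ∀ a ∈ V, ∀ b ∈ V, a * b = b * a) (hc : Nat.card V = 2 ^ 11)
  (hC : centralizer (V : Set G) ≤ V)

include hsq hcomm hc hC

theorem card_normalizer_dvd :
    Nat.card ↥(normalizer (V : Set G)) ∣ 2 ^ 11 * ∏ i ∈ Finset.range 11, (2 ^ 11 - 2 ^ i) := by
  haveI : Fact (Nat.Prime 2) := ⟨Nat.prime_two⟩
  letI : CommGroup ↥V :=
    { (inferInstance : Group ↥V) with mul_comm := fun a b => Subtype.ext (hcomm a a.2 b b.2) }
  have hA : Nat.card (MulAut ↥V) = ∏ i ∈ Finset.range 11, (2 ^ 11 - 2 ^ i) :=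
    GroupStructure3.FrattiniAut.card_mulAut_elementary (p := 2) (r := 11) hc
      fun x => Subtype.ext (by rw [pow_two]; exact hsq x x.2)
  have hV : centralizer (V : Set G) = V :=
    le_antisymm hC fun v hv => mem_centralizer_iff.2 fun a ha => hcomm a ha v hv
  set f := V.normalizerMonoidHom
  have hk : Nat.card f.ker = 2 ^ 11 := by
    rw [normalizerMonoidHom_ker, Nat.card_congr (subgroupOfEquivOfLe (centralizer_le_normalizer ..)).toEquiv, hV,
      hc]
  have h1 := f.ker.card_mul_index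
  rw [Subgroup.index_ker, hk] at h1
  rw [← h1, ← hA]
  exact Nat.mul_dvd_mul_left _ (Subgroup.card_subgroup_dvd_card _)

/-- The prime acts freely on a set missing the fixed points. -/
theorem dvd_of_free {p : ℕ} [Fact p.Prime] {x : G} (ho : orderOf x = p) {s : Set G}
    (hs : ∀ v ∈ s, x * v * x⁻¹ ∈ s) (hfree : ∀ v ∈ s, x * v * x⁻¹ ≠ v) : p ∣ s.ncard := by
  have hn : ∀ n : ℕ, ∀ v ∈ s, x ^ n * v * (x ^ n)⁻¹ ∈ s := by
    intro n
    induction n with
    | zero => intro v hv; simpa using hv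
    | succ n ih =>
      intro v hv
      rw [pow_succ' x n, show x * x ^ n * v * (x * x ^ n)⁻¹ = x * (x ^ n * v * (x ^ n)⁻¹) * x⁻¹ by group]
      exact hs _ (ih v hv)
  have h := M22Order.dvd_card_of_free_conj (zpowers x) s (fun q hq v hv => by
    obtain ⟨n, rfl⟩ := mem_powers_iff_mem_zpowers.2 hq
    exact hn n v hv) (fun q hq v hv hfix => by
    by_contra hq1
    refine hfree v hv ?_
    have hgen : x ∈ zpowers q := by
      have hd : orderOf q ∣ p := ho ▸ (Nat.card_zpowers x ▸ (zpowers x).orderOf_dvd_natCard hq)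
      have hop := ((Nat.dvd_prime (Fact.out : p.Prime)).1 hd).resolve_left fun e => hq1 (orderOf_eq_one_iff.1 e)
      have e : zpowers q = zpowers x := eq_of_le_of_card_ge (zpowers_le.2 hq)
        (by rw [Nat.card_zpowers, Nat.card_zpowers, hop, ho])
      exact e ▸ mem_zpowers x
    obtain ⟨n, rfl⟩ := mem_zpowers_iff.1 hgen
    rw [((show Commute q v from mul_inv_eq_iff_eq_mul.1 hfix).zpow_left n).eq, mul_inv_cancel_right])
  rwa [Nat.card_zpowers, ho] at h

/-- A subgroup of `V` invariant under an element of order 23 or 89 is trivial or all of `V`, if that element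
has no fixed point outside it. -/
theorem trivial_or_all {p : ℕ} [Fact p.Prime] (hp : p = 23 ∨ p = 89) {x : G} (ho : orderOf x = p)
    {F : Subgroup G} (hF : F ≤ V) {s : Set G} (hs : ∀ v ∈ s, x * v * x⁻¹ ∈ s)
    (hfree : ∀ v ∈ s, x * v * x⁻¹ ≠ v)
    (hcase : s.ncard = 2 ^ 11 - Nat.card F ∨ s.ncard = Nat.card F - 1) : F = ⊥ ∨ F = V := by
  obtain ⟨f, hf, hff⟩ := (Nat.dvd_prime_pow Nat.prime_two).1 (hc ▸ card_dvd_of_le hF)
  have hd := dvd_of_free V hsq hcomm hc hC ho hs hfree
  have h : f = 0 ∨ f = 11 := by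
    rcases hcase with e | e <;> rw [e, hff] at hd <;> rcases hp with rfl | rfl <;>
      interval_cases f <;> omega
  rcases h with rfl | rfl
  · exact Or.inl (eq_bot_of_card_eq _ (by rw [hff, pow_zero]))
  · exact Or.inr (eq_of_le_of_card_ge hF (by rw [hff, hc]))

theorem fpf {p : ℕ} [Fact p.Prime] (hp : p = 23 ∨ p = 89) {x : G} (hx : x ∈ normalizer (V : Set G))
    (ho : orderOf x = p) {v : G} (hv : v ∈ V) (hfix : x * v * x⁻¹ = v) : v = 1 := by
  set F := V ⊓ centralizer ({x} : Set G) with hF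
  have hmem : ∀ a, a ∈ F ↔ a ∈ V ∧ x * a * x⁻¹ = a := fun a => by
    rw [hF, mem_inf, mem_centralizer_singleton_iff, mul_inv_eq_iff_eq_mul, eq_comm (a := a * x)]
  have hsub : ((V : Set G) \ (F : Set G)).ncard = 2 ^ 11 - Nat.card F := by
    rw [Set.ncard_sdiff (fun a ha => ((hmem a).1 ha).1), ← Nat.card_coe_set_eq, ← Nat.card_coe_set_eq]
    exact congrArg (· - Nat.card F) hc
  have hinv : ∀ a ∈ (V : Set G) \ (F : Set G), x * a * x⁻¹ ∈ (V : Set G) \ (F : Set G) := fun a ha =>
    ⟨M22Order.conj_mem_of_mem_normalizer hx ha.1, fun h => by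
      obtain ⟨h1, h2⟩ := (hmem _).1 h
      exact ha.2 ((hmem a).2 ⟨ha.1, mul_left_cancel (mul_right_cancel h2)⟩)⟩
  rcases trivial_or_all V hsq hcomm hc hC hp ho (inf_le_left : F ≤ V) (s := (V : Set G) \ (F : Set G))
    hinv
    (fun a ha e => ha.2 ((hmem a).2 ⟨ha.1, e⟩)) (Or.inl hsub) with h | h
  · exact (mem_bot).1 (h ▸ ((hmem v).2 ⟨hv, hfix⟩) : v ∈ (⊥ : Subgroup G))
  · exfalso
    have hxV : x ∈ V := hC (mem_centralizer_iff.2 fun a ha => (mul_inv_eq_iff_eq_mul.1
      ((hmem a).1 ((SetLike.ext_iff.1 h a).2 ha)).2).symm)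
    have hd := V.orderOf_dvd_natCard hxV
    rw [ho, hc] at hd
    rcases hp with rfl | rfl <;> norm_num at hd

theorem orbit_mod (h23 : 23 ∣ Nat.card ↥(normalizer (V : Set G))) {s : Set G} (hs : ∀ v ∈ s, v ∈ V ∧ v ≠ 1)
    (hinv : ∀ y ∈ normalizer (V : Set G), ∀ v ∈ s, y * v * y⁻¹ ∈ s) : 23 ∣ s.ncard := by
  haveI : Fact (Nat.Prime 23) := ⟨by norm_num⟩
  obtain ⟨⟨x, hx⟩, ho⟩ := exists_prime_orderOf_dvd_card' (G := ↥(normalizer (V : Set G))) 23 h23
  rw [Subgroup.orderOf_mk] at ho
  exact dvd_of_free V hsq hcomm hc hC ho (hinv x hx)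
    fun v hv e => (hs v hv).2 (fpf V hsq hcomm hc hC (Or.inl rfl) hx ho (hs v hv).1 e)

theorem card_ne : Nat.card ↥(normalizer (V : Set G)) ≠ 2 ^ 11 * (138240 * 2047) := by
  intro hY
  haveI : Fact (Nat.Prime 89) := ⟨by norm_num⟩
  set Y := normalizer (V : Set G) with hYdef
  obtain ⟨x', hx'⟩ := exists_prime_orderOf_dvd_card' (G := ↥Y) 89 (by rw [hY]; norm_num)
  have ho : orderOf (x' : G) = 89 := by rw [← hx', Subgroup.orderOf_coe]
  set x : G := (x' : G)
  have hxY : x ∈ Y := x'.2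
  -- the centraliser is semiregular
  set C := centralizer ({x} : Set G) ⊓ Y with hCdef
  have hfree : ∀ c ∈ C, ∀ v ∈ (V : Set G) \ {1}, c * v * c⁻¹ = v → c = 1 := by
    intro c hc' v hv hfix
    obtain ⟨hcx, hcY⟩ := mem_inf.1 hc'
    have hcom : c * x = x * c := mem_centralizer_singleton_iff.1 hcx
    set F := V ⊓ centralizer ({c} : Set G) with hF
    have hFx : ∀ a ∈ (F : Set G) \ {1}, x * a * x⁻¹ ∈ (F : Set G) \ {1} := by
      rintro a ⟨ha, ha1⟩
      obtain ⟨haV, hac⟩ := mem_inf.1 ha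
      refine ⟨mem_inf.2 ⟨M22Order.conj_mem_of_mem_normalizer hxY haV, mem_centralizer_singleton_iff.2 ?_⟩,
        fun e => ha1 (conj_eq_one_iff.1 e)⟩
      have h1 : a * c = c * a := mem_centralizer_singleton_iff.1 hac
      calc x * a * x⁻¹ * c = x * a * (x⁻¹ * c) := by group
        _ = x * a * (c * x⁻¹) := by rw [(show Commute c x from hcom).inv_right.eq]
        _ = x * (a * c) * x⁻¹ := by group
        _ = x * (c * a) * x⁻¹ := by rw [h1]
        _ = (x * c) * a * x⁻¹ := by group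
        _ = c * (x * a * x⁻¹) := by rw [← hcom]; group
    have hcard : ((F : Set G) \ {1}).ncard = Nat.card F - 1 := by
      rw [Set.ncard_sdiff_singleton_of_mem (one_mem _), ← Nat.card_coe_set_eq]
      rfl
    rcases trivial_or_all V hsq hcomm hc hC (Or.inr rfl) ho (inf_le_left : F ≤ V) hFx
      (fun a ha e => ha.2 (fpf V hsq hcomm hc hC (Or.inr rfl) hxY ho (mem_inf.1 ha.1).1 e)) (Or.inr hcard)
      with h | h
    · exfalso
      refine hv.2 (mem_bot.1 (h ▸ mem_inf.2 ⟨hv.1, mem_centralizer_singleton_iff.2 ?_⟩ : v ∈ (⊥ : Subgroup G)))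
      exact (mul_inv_eq_iff_eq_mul.1 hfix).symm
    · have hcV : c ∈ V := hC (mem_centralizer_iff.2 fun a ha =>
        mem_centralizer_singleton_iff.1 (mem_inf.1 ((SetLike.ext_iff.1 h a).2 ha : a ∈ F)).2)
      exact fpf V hsq hcomm hc hC (Or.inr rfl) hxY ho hcV (by rw [← hcom, mul_inv_cancel_right])
  have hCd : Nat.card C ∣ 2047 := by
    have h := M22Order.dvd_card_of_free_conj C ((V : Set G) \ {1}) (fun c hc' v hv =>
      ⟨M22Order.conj_mem_of_mem_normalizer (mem_inf.1 hc').2 hv.1, fun e => hv.2 (conj_eq_one_iff.1 e)⟩)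
      hfree
    rw [Set.ncard_sdiff_singleton_of_mem (one_mem _), ← Nat.card_coe_set_eq] at h
    rwa [show Nat.card ((V : Subgroup G) : Set G) = 2 ^ 11 from hc] at h
  -- the normaliser of the group of order 89
  set N := normalizer (zpowers x : Set G) ⊓ Y with hNdef
  let f : ↥N →* MulAut ↥(zpowers x) :=
    (zpowers x).normalizerMonoidHom.comp (inclusion inf_le_left)
  have hker : Nat.card f.ker = Nat.card C := by
    have hmem : ∀ n : ↥N, n ∈ f.ker ↔ (n : G) * x = x * n := by
      intro n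
      have e : f.ker = ((zpowers x).normalizerMonoidHom.ker).comap (inclusion inf_le_left) := rfl
      rw [e, mem_comap, normalizerMonoidHom_ker, mem_subgroupOf, mem_centralizer_iff]
      constructor
      · exact fun h => (h x (mem_zpowers x)).symm
      · intro h y hy
        obtain ⟨k, rfl⟩ := mem_zpowers_iff.1 hy
        exact ((show Commute (n : G) x from h).zpow_right k).eq.symm
    refine Nat.card_congr
      { toFun := fun n => ⟨((n : ↥N) : G), mem_inf.2 ⟨mem_centralizer_singleton_iff.2 ((hmem n.1).1 n.2),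
          (mem_inf.1 n.1.2).2⟩⟩
        invFun := fun c => ⟨⟨c, mem_inf.2 ⟨?_, (mem_inf.1 c.2).2⟩⟩,
          (hmem _).2 (mem_centralizer_singleton_iff.1 (mem_inf.1 c.2).1)⟩
        left_inv := fun n => rfl
        right_inv := fun c => rfl }
    exact centralizer_le_normalizer _ (mem_centralizer_iff.2 fun y hy => by
      obtain ⟨k, rfl⟩ := mem_zpowers_iff.1 hy
      exact ((show Commute (c : G) x from
        mem_centralizer_singleton_iff.1 (mem_inf.1 c.2).1).zpow_right k).eq.symm)
  have hNd : Nat.card N ∣ 2047 * 88 := by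
    have h1 := f.ker.card_mul_index
    rw [Subgroup.index_ker] at h1
    rw [← h1, hker]
    refine Nat.mul_dvd_mul hCd ((Subgroup.card_subgroup_dvd_card _).trans ?_)
    haveI : IsCyclic ↥(zpowers x) := isCyclic_of_prime_card (p := 89) (by rw [Nat.card_zpowers, ho])
    rw [IsCyclic.card_mulAut, Nat.card_zpowers, ho, Nat.totient_prime (by norm_num : Nat.Prime 89)]
  -- Sylow
  have hP89 : ∀ P : Sylow 89 ↥Y, Nat.card P = 89 := fun P => by
    rw [P.card_eq_multiplicity, hY, Nat.factorization_def _ (by norm_num : Nat.Prime 89),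
      show 2 ^ 11 * (138240 * 2047) = 89 ^ 1 * (2 ^ 11 * (138240 * 23)) by norm_num,
      padicValNat.mul (by norm_num) (by norm_num), padicValNat.prime_pow,
      padicValNat.eq_zero_of_not_dvd (by norm_num)]
    norm_num
  obtain ⟨P, hP⟩ := (IsPGroup.of_card (p := 89) (n := 1)
    (by rw [Nat.card_zpowers, hx', pow_one]) : IsPGroup 89 (zpowers x')).exists_le_sylow
  have hPx : (P : Subgroup ↥Y) = zpowers x' :=
    (eq_of_le_of_card_ge hP (by rw [Nat.card_zpowers, hx', hP89 P])).symm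
  have hmod := card_sylow_modEq_one 89 ↥Y
  rw [Nat.ModEq, P.card_eq_index_normalizer] at hmod
  have hmul := (normalizer ((P : Subgroup ↥Y) : Set ↥Y)).card_mul_index
  have hNc : Nat.card ↥(normalizer ((P : Subgroup ↥Y) : Set ↥Y)) = Nat.card N := by
    rw [hPx]
    have e : normalizer (zpowers x' : Set ↥Y) = N.subgroupOf Y := by
      ext y
      have key : ∀ a : ↥Y, a ∈ zpowers x' ↔ (a : G) ∈ zpowers x := fun a => by
        constructor
        · rintro ⟨k, rfl⟩; exact ⟨k, by simp [x]⟩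
        · rintro ⟨k, hk⟩; exact ⟨k, Subtype.ext (by simpa [x] using hk)⟩
      rw [mem_subgroupOf, hNdef, mem_inf]
      constructor
      · intro h
        refine ⟨M22Order.mem_normalizer_of_conj fun a ha => ?_, y.2⟩
        obtain ⟨k, rfl⟩ := mem_zpowers_iff.1 ha
        have h2 := M22Order.conj_mem_of_mem_normalizer h (zpow_mem (mem_zpowers x') k)
        simpa [x] using (key _).1 h2
      · intro h
        refine M22Order.mem_normalizer_of_conj fun a ha => (key _).2 ?_
        simpa using M22Order.conj_mem_of_mem_normalizer h.1 ((key a).1 ha)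
    rw [e]
    exact Nat.card_congr (subgroupOfEquivOfLe inf_le_right).toEquiv
  rw [P.coe_coe] at hmul hNc
  rw [hNc, hY] at hmul
  have h89 : 89 ∣ Nat.card N := by
    rw [← ho]
    exact N.orderOf_dvd_natCard (mem_inf.2 ⟨le_normalizer (mem_zpowers x), hxY⟩)
  obtain ⟨a, ha⟩ := h89
  have hYd : Nat.card N ∣ 2 ^ 11 * (138240 * 2047) := ⟨_, hmul.symm⟩
  have ha184 : a ∣ 184 := by
    have h := Nat.dvd_gcd hNd hYd
    rw [ha, show Nat.gcd (2047 * 88) (2 ^ 11 * (138240 * 2047)) = 89 * 184 by norm_num] at h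
    exact (Nat.mul_dvd_mul_iff_left (by norm_num)).1 h
  have ham : a ∈ Nat.divisors 184 := Nat.mem_divisors.2 ⟨ha184, by norm_num⟩
  rw [show Nat.divisors 184 = {1, 2, 4, 8, 23, 46, 92, 184} by decide] at ham
  rw [ha] at hmul
  simp only [Finset.mem_insert, Finset.mem_singleton] at ham
  rcases ham with rfl | rfl | rfl | rfl | rfl | rfl | rfl | rfl <;> omega

end Cfsg.Agent.J4V
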