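import Cfsg.Agent.Lib.J4V.Count
import Cfsg.Agent.Lib.J4V.Arith

/-!
# Janko four type: the two orbits of the normaliser on the subgroup of order `2 ^ 11`

There are 1771 conjugates of `z` and one orbit of 276 others.
-/

set_option autoImplicit false
set_option linter.style.haveILetI false
set_option linter.unusedSectionVars false

namespace Cfsg.Agent.J4Eleven.Chart

open Subgroup
open Cfsg.Agent.J4Local
open Cfsg.Agent.M22Order (Setup)

universe u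

variable {G : Type u} [Group G] [Finite G] {z : G} {P : Subgroup G} (X : Chart z P)
  [IsSimpleGroup G] (hG : ¬ IsMulCommutative G)

omit hG in
theorem params_arith (q3 q5 qb qd : Bool) {n : ℕ}
    (hn : n = 1 + 2 * ((bif q3 then 45 else 0) + bif q5 then 18 else 0) +
      15 * ((bif qb then 32 else 16) + bif qd then 96 else 0))
    (hd : n * 138240 ∣ 2047 * 2046 * 2044 * 2040 * 2032 * 2016 * 1984 * 1920 * 1792 * 1536 * 1024)
    (hne : n ≠ 2047) : q3 = true ∧ q5 = false ∧ qb = false ∧ qd = true := by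
  subst hn
  revert hd hne
  cases q3 <;> cases q5 <;> cases qb <;> cases qd <;> decide

include hG

theorem zt_orbit : {x | ∃ n ∈ normalizer (X.std : Set G), n * z * n⁻¹ = x} = {v | v ∈ X.std ∧ IsConj z v} := by
  refine Set.Subset.antisymm ?_ ?_
  · rintro _ ⟨n, hn, rfl⟩
    exact ⟨M22Order.conj_mem_of_mem_normalizer hn X.z_mem_std, isConj_iff.2 ⟨n, rfl⟩⟩
  · rintro v ⟨hv, hc⟩
    obtain ⟨g, rfl⟩ := isConj_iff.1 hc
    exact J4V.fusion X.L.J (J4V.Big.of_eleven X.std_eleven) X.z_mem_std hv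

/-- The four truth values, and the order of the normaliser. -/
theorem params :
    Nat.card ↥(normalizer (X.std : Set G)) = 2 ^ 11 * 138240 * 1771 ∧
    {v | v ∈ X.std ∧ IsConj z v}.ncard = 1771 ∧
    (∀ y ∈ preV X.L.J X.WV, vk z y ≠ 0 → X.deg (vk z y) = 3 → IsConj z y) ∧
    (∀ y ∈ preV X.L.J X.WV, vk z y ∈ X.five → ¬ IsConj z y) ∧
    (∀ m ∈ X.S.E, m ≠ 1 → ¬ IsConj z (X.zl m * z) ∧
      ∀ y ∈ preV X.L.J X.WV, vk z y ∉ X.RR m → IsConj z (X.zl m * y)) := by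
  classical
  obtain ⟨a3, a5, b, d, hm, h3, h5, hbd⟩ := X.count_zt hG
  have hS := X.std_eleven
  have horb := M22Order.ncard_conj_orbit (normalizer (X.std : Set G)) (le_normalizer X.z_mem_std : z ∈ _)
  rw [X.zt_orbit hG, show (centralizer ({z} : Set G) ⊓ normalizer (X.std : Set G) : Subgroup G) =
    normalizer (X.std : Set G) ⊓ HH z from inf_comm _ _, X.card_normalizer_HH] at horb
  have hdvd := J4V.card_normalizer_dvd X.std hS.sq hS.comm hS.card X.centralizer_std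
  have hne := J4V.card_ne X.std hS.sq hS.comm hS.card X.centralizer_std
  rw [← horb] at hdvd hne
  have hd' : {v | v ∈ X.std ∧ IsConj z v}.ncard * 138240 ∣ ∏ i ∈ Finset.range 11, (2 ^ 11 - 2 ^ i) := by
    obtain ⟨q, hq⟩ := hdvd
    refine ⟨q, Nat.eq_of_mul_eq_mul_left (show 0 < 2 ^ 11 by norm_num) ?_⟩
    rw [hq]; ring
  have hP : ∏ i ∈ Finset.range 11, ((2 : ℕ) ^ 11 - 2 ^ i) =
      2047 * 2046 * 2044 * 2040 * 2032 * 2016 * 1984 * 1920 * 1792 * 1536 * 1024 := by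
    simp [Finset.prod_range_succ]
  rw [hP] at hd'
  have key : a3 ∧ ¬ a5 ∧ ¬ b ∧ d := by
    have h := params_arith (decide a3) (decide a5) (decide b) (decide d)
      (n := {v | v ∈ X.std ∧ IsConj z v}.ncard) (by rw [hm]; simp only [Bool.cond_decide]) hd'
      (fun e => hne (by rw [e]; norm_num))
    simpa using h
  obtain ⟨ka3, ka5, kb, kd⟩ := key
  have hm' : {v | v ∈ X.std ∧ IsConj z v}.ncard = 1771 := by
    rw [hm, if_pos ka3, if_neg ka5, if_neg kb, if_pos kd]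
  refine ⟨?_, hm', fun y hy h0 hd3 => (h3 y hy h0 hd3).2 ka3, fun y hy hy5 h => ka5 ((h5 y hy hy5).1 h),
    fun m hmE hm1 => ⟨fun h => kb ((hbd m hmE hm1).1.1 h), fun y hy hyR => ((hbd m hmE hm1).2 y hy hyR).2 kd⟩⟩
  rw [← horb, hm']
  norm_num

theorem not_zt_five {y : G} (hy : y ∈ preV X.L.J X.WV) (h5 : vk z y ∈ X.five) : ¬ IsConj z y :=
  (X.params hG).2.2.2.1 y hy h5

theorem five_of_not_zt {y : G} (hy : y ∈ preV X.L.J X.WV) (h1 : y ≠ 1) (h : ¬ IsConj z y) : vk z y ∈ X.five := by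
  have h0 : vk z y ≠ 0 := fun e => by
    rcases X.L.J.mem_zpowers ((vk_eq_zero_iff X.L.J hy.1).1 e) with r | r
    · exact h1 r
    · exact h (r ▸ IsConj.refl z)
  rcases X.deg_cases hy.2 h0 with h3 | h5
  · exact absurd ((X.params hG).2.2.1 y hy h0 h3) h
  · exact ⟨hy.2, h0, h5⟩

/-- The elements outside `E` not conjugate to `z` are on the lines and conjugate to `l z`. -/
theorem on_line_of_not_zt {c : G} (hc : c ∈ X.LE) {m : ↥Cfsg.Spor.M22} (hm : X.π ⟨c, X.LE_le_CC hc⟩ = m)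
    (hm1 : m ≠ 1) {y : G} (hy : y ∈ preV X.L.J X.WV) (h : ¬ IsConj z (c * y)) :
    vk z y ∈ X.RR m ∧ X.Hc (X.zl m * z) (c * y) := by
  have hmE : m ∈ X.S.E := hm ▸ hc.2.1
  obtain ⟨-, hoff⟩ := (X.params hG).2.2.2.2 m hmE hm1
  have key : ∀ y' ∈ preV X.L.J X.WV, ¬ IsConj z (X.zl m * y') →
      vk z y' ∈ X.RR m ∧ X.Hc (X.zl m * z) (X.zl m * y') := by
    intro y' hy' h'
    have hR : vk z y' ∈ X.RR m := by
      by_contra hR
      exact h' (hoff y' hy' hR)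
    refine ⟨hR, (X.coset_on (X.zl_mem hmE) (X.zl_pi hmE) hy' hR).resolve_left fun hh =>
      h' ((Hc.zt X hh).1 (X.zl_zt hG hmE hm1))⟩
  rcases X.zl_cases hmE hc hm with e | e
  · rw [e] at h ⊢; exact key y hy h
  · rw [e, mul_assoc] at h ⊢
    obtain ⟨h1, h2⟩ := key (z * y) (mul_mem X.z_mem_preW hy) h
    rw [vk_mul X.z_mem_EE hy.1, vk_z X.L.J, zero_add] at h1
    exact ⟨h1, h2⟩

theorem zl_z_Hc {m n : ↥Cfsg.Spor.M22} (hm : m ∈ X.S.E) (hm1 : m ≠ 1) (hn : n ∈ X.S.E) (hn1 : n ≠ 1) :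
    X.Hc (X.zl m * z) (X.zl n * z) := by
  obtain ⟨d, hd, hmove⟩ := X.exists_move_lift hm hm1 hn hn1
  obtain ⟨⟨hc', hπ⟩, -⟩ := hmove _ (X.zl_mem hm) (X.zl_pi hm)
  have h : X.Hc (X.zl m) (d * X.zl m * d⁻¹) := ⟨d, X.NC_mem_NH hd, rfl⟩
  rcases X.zl_cases hn hc' hπ with e | e <;> rw [e] at h
  · exact Hc.mul_z X h
  · exact absurd ((Hc.zt X h).1 (X.zl_zt hG hm hm1)) (((X.params hG).2.2.2.2 n hn hn1).1)

/-- One orbit on the others. -/
theorem others_conj {v v' : G} (hv : v ∈ X.std) (hv1 : v ≠ 1) (hvn : ¬ IsConj z v) (hv' : v' ∈ X.std)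
    (hv1' : v' ≠ 1) (hvn' : ¬ IsConj z v') : ∃ n ∈ normalizer (X.std : Set G), n * v * n⁻¹ = v' := by
  classical
  have hJ := X.L.J
  have hS := X.std_eleven
  set Y := normalizer (X.std : Set G) with hY
  have hcase : ∀ w ∈ X.std, w ≠ 1 → ¬ IsConj z w →
      (w ∈ preV hJ X.WV ∧ vk z w ∈ X.five) ∨ ∃ m ∈ X.S.E, m ≠ 1 ∧ X.Hc (X.zl m * z) w := by
    intro w hw hw1 hwn
    obtain ⟨y, hy, c, hc, rfl⟩ := hw
    by_cases hm1 : X.π ⟨c, X.LE_le_CC hc⟩ = 1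
    · left
      have hcz : c ∈ zpowers z := X.mem_zpowers_of_six ((X.mem_ker_iff _).1 hm1) (by
        rw [hc.2.2]; exact one_mem _)
      have hyc : y * c ∈ preV hJ X.WV := mul_mem hy (zpowers_le.2 X.z_mem_preW hcz)
      exact ⟨hyc, X.five_of_not_zt hG hyc hw1 hwn⟩
    · right
      rw [← X.LE_preV_comm hc hy] at hwn ⊢
      exact ⟨_, hc.2.1, hm1, (X.on_line_of_not_zt hG hc rfl hm1 hy hwn).2⟩
  obtain ⟨w5, hw5⟩ : X.five.Nonempty := Set.nonempty_of_ncard_ne_zero (by rw [X.five_ncard]; norm_num)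
  obtain ⟨y5, hy5, rfl⟩ := vk_surj w5
  have hy5W : y5 ∈ preV hJ X.WV := ⟨hy5, hw5.1⟩
  have hyne : y5 ≠ 1 := fun e => hw5.2.1 (by rw [e, vk_one])
  set O := {x | ∃ n ∈ Y, n * y5 * n⁻¹ = x} with hO
  have hOp : ∀ x ∈ O, x ∈ X.std ∧ x ≠ 1 ∧ ¬ IsConj z x := by
    rintro _ ⟨n, hn, rfl⟩
    exact ⟨M22Order.conj_mem_of_mem_normalizer hn (X.preV_le_std hy5W), fun e => hyne (conj_eq_one_iff.1 e),
      fun h => X.not_zt_five hG hy5W hw5 (h.trans (isConj_iff.2 ⟨n, rfl⟩).symm)⟩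
  have hH : ∀ a ∈ O, ∀ b, X.Hc a b → b ∈ O := by
    rintro _ ⟨n, hn, rfl⟩ b ⟨k, hk, rfl⟩
    exact ⟨k * n, mul_mem (mem_inf.1 hk).1 hn, by group⟩
  have hyO : y5 ∈ O := ⟨1, one_mem _, by simp⟩
  obtain ⟨x, hxO, m, hmE, hm1, hx⟩ : ∃ x ∈ O, ∃ m ∈ X.S.E, m ≠ 1 ∧ X.Hc (X.zl m * z) x := by
    by_contra hcon
    push Not at hcon
    have hOe : O = {y | y ∈ preV hJ X.WV ∧ vk z y ∈ X.five} := by
      refine Set.Subset.antisymm (fun x hx => ?_) fun x hx => hH y5 hyO x (X.five_Hc hy5W hx.1 hw5 hx.2)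
      obtain ⟨a, b, c⟩ := hOp x hx
      rcases hcase x a b c with h | ⟨m, hm, hm1, h⟩
      · exact h
      · exact absurd h (hcon x hx m hm hm1)
    have h23 := J4V.orbit_mod X.std hS.sq hS.comm hS.card X.centralizer_std
      (by rw [(X.params hG).1]; norm_num) (s := O) (fun x hx => ⟨(hOp x hx).1, (hOp x hx).2.1⟩)
      (fun n hn x hx => by
        obtain ⟨k, hk, rfl⟩ := hx
        exact ⟨n * k, mul_mem hn hk, by group⟩)
    rw [hOe, X.card_fib (fun y => vk z y ∈ X.five) (fun v => if v ∈ X.five then 2 else 0) (fun y hy => by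
      rw [X.vk_mul_z hy.1]
      split_ifs <;> rfl)] at h23
    rw [← Finset.sum_filter, Finset.sum_const, smul_eq_mul, show ((Set.toFinite (X.WV : Set (VV z))).toFinset.filter
        fun v => v ∈ X.five).card = 18 by
      rw [← X.five_ncard, ← Set.ncard_coe_finset]
      congr 1
      ext v
      simp only [Finset.coe_filter, Set.Finite.mem_toFinset, SetLike.mem_coe]
      exact ⟨fun h => h.2, fun h => ⟨h.1, h⟩⟩] at h23
    norm_num at h23
  have hall : ∀ w ∈ X.std, w ≠ 1 → ¬ IsConj z w → w ∈ O := by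
    intro w hw hw1 hwn
    rcases hcase w hw hw1 hwn with h | ⟨n, hn, hn1, h⟩
    · exact hH y5 hyO w (X.five_Hc hy5W h.1 hw5 h.2)
    · exact hH x hxO w (Hc.trans' X (Hc.symm' X hx) (Hc.trans' X (X.zl_z_Hc hG hmE hm1 hn hn1) h))
  obtain ⟨a, ha, rfl⟩ := hall v hv hv1 hvn
  obtain ⟨b, hb, rfl⟩ := hall v' hv' hv1' hvn'
  exact ⟨b * a⁻¹, mul_mem hb (inv_mem ha), by group⟩

theorem others_ncard : {v | v ∈ X.std ∧ v ≠ 1 ∧ ¬ IsConj z v}.ncard = 276 := by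
  have h1 : ((X.std : Set G) \ {1}).ncard = 2047 := by
    rw [Set.ncard_sdiff_singleton_of_mem (one_mem _), ← Nat.card_coe_set_eq]
    exact congrArg (· - 1) X.std_eleven.card
  have hsub : {v | v ∈ X.std ∧ IsConj z v} ⊆ (X.std : Set G) \ {1} := fun v hv => ⟨hv.1, fun e => by
    obtain ⟨g, hg⟩ := isConj_iff.1 hv.2
    rw [Set.mem_singleton_iff.1 e] at hg
    exact X.L.J.ctr.ne_one (conj_eq_one_iff.1 hg)⟩
  have e : {v | v ∈ X.std ∧ v ≠ 1 ∧ ¬ IsConj z v} = ((X.std : Set G) \ {1}) \ {v | v ∈ X.std ∧ IsConj z v} := by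
    ext v
    constructor
    · exact fun h => ⟨⟨h.1, h.2.1⟩, fun hc => h.2.2 hc.2⟩
    · exact fun h => ⟨h.1.1, h.1.2, fun hc => h.2 ⟨h.1.1, hc⟩⟩
  rw [e, Set.ncard_sdiff hsub, h1, (X.params hG).2.1]

end Cfsg.Agent.J4Eleven.Chart
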