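import Cfsg.Agent.Lib.J4V.Hexad
import Cfsg.Agent.Lib.J4Local.Fusion

/-!
# Janko four type: the orbits of the normaliser in `H` on the elementary subgroup of order `2 ^ 11`

On the part in `E` the orbits follow the two classes of points; in the coset of a lift the vectors on its line
form two orbits, exchanged by `z`, and the others form one.
-/

set_option autoImplicit false
set_option linter.style.haveILetI false
set_option linter.unusedSectionVars false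

namespace Cfsg.Agent.J4Eleven.Chart

open Subgroup
open Cfsg.Agent.J4Local
open Cfsg.Agent.M22Order (Setup)

universe u

variable {G : Type u} [Group G] [Finite G] {z : G} {P : Subgroup G} (X : Chart z P)

/-- Conjugate under the normaliser in `H`. -/
def Hc (v v' : G) : Prop := ∃ h ∈ normalizer (X.std : Set G) ⊓ HH z, h * v * h⁻¹ = v'

theorem Hc.symm' {v v' : G} (h : X.Hc v v') : X.Hc v' v := by
  obtain ⟨k, hk, rfl⟩ := h
  exact ⟨k⁻¹, inv_mem hk, by group⟩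

theorem Hc.trans' {a b c : G} (h : X.Hc a b) (h' : X.Hc b c) : X.Hc a c := by
  obtain ⟨k, hk, rfl⟩ := h
  obtain ⟨l, hl, rfl⟩ := h'
  exact ⟨l * k, mul_mem hl hk, by group⟩

theorem Hc.isConj {a b : G} (h : X.Hc a b) : IsConj a b := by
  obtain ⟨k, -, e⟩ := h
  exact isConj_iff.2 ⟨k, e⟩

theorem Hc.zt {a b : G} (h : X.Hc a b) : IsConj z a ↔ IsConj z b :=
  ⟨fun e => e.trans (Hc.isConj X h), fun e => e.trans (Hc.isConj X h).symm⟩

theorem Hc.mul_z {a b : G} (h : X.Hc a b) : X.Hc (a * z) (b * z) := by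
  obtain ⟨k, hk, rfl⟩ := h
  refine ⟨k, hk, ?_⟩
  have e : k * z * k⁻¹ = z := by rw [mem_HH.1 (mem_inf.1 hk).2, mul_inv_cancel_right]
  calc k * (a * z) * k⁻¹ = k * a * k⁻¹ * (k * z * k⁻¹) := by group
    _ = _ := by rw [e]

theorem EE_mem_NH {e : G} (he : e ∈ EE z) : e ∈ normalizer (X.std : Set G) ⊓ HH z :=
  mem_inf.2 ⟨M22Order.mem_normalizer_of_conj fun _ ha => X.EE_conj_std he ha, EE_le_HH z he⟩

theorem NC_mem_NH {d : G} (hd : d ∈ X.NC) : d ∈ normalizer (X.std : Set G) ⊓ HH z :=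
  mem_inf.2 ⟨X.NC_normalizer hd, X.NC_le_HH hd⟩

include X in
theorem vk_mul_z {x : G} (hx : x ∈ EE z) : vk z (x * z) = vk z x := by
  rw [vk_mul hx X.z_mem_EE, vk_z X.L.J, add_zero]

include X in
theorem conj_z_of_cm {e x : G} (he : e ∈ EE z) (hx : x ∈ EE z) (h : cm e x = 1) : e * x * e⁻¹ = x * z := by
  rw [conj_eq X.L.J he hx, h, show ((1 : ZMod 2).val) = 1 from rfl, pow_one]

theorem mul_z_mem_preW {x : G} (hx : x ∈ preV X.L.J X.WV) : x * z ∈ preV X.L.J X.WV :=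
  mul_mem hx X.z_mem_preW

include X in
theorem exists_flip {x : G} (hx : x ∈ EE z) (h0 : vk z x ≠ 0) : ∃ e ∈ EE z, e * x * e⁻¹ = x * z := by
  obtain ⟨w, hw⟩ : ∃ w, BB z (vk z x) w = 1 := by
    by_contra hcon
    push Not at hcon
    refine h0 (BB_nondeg X.L.J fun w => ?_)
    have h2 : ∀ a : ZMod 2, a ≠ 1 → a = 0 := by decide
    exact h2 _ (hcon w)
  obtain ⟨e, he, rfl⟩ := vk_surj w
  rw [BB_vk X.L.J hx he, cm_comm] at hw
  exact ⟨e, he, X.conj_z_of_cm he hx hw⟩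

theorem Hc_vk {x y : G} (hx : x ∈ preV X.L.J X.WV) (h0 : vk z x ≠ 0) (hy : y ∈ preV X.L.J X.WV)
    (e : vk z x = vk z y) : X.Hc x y := by
  rcases (vk_eq_vk_iff X.L.J hy.1 hx.1).1 e.symm with h | h
  · exact ⟨1, one_mem _, by rw [h]; simp⟩
  · obtain ⟨a, ha, ha'⟩ := X.exists_flip hx.1 h0
    exact ⟨a, X.EE_mem_NH ha, by rw [ha', h]⟩

theorem Hc_trans_vk {x y d : G} (hd : d ∈ X.NC) (hx : x ∈ preV X.L.J X.WV) (h0 : vk z x ≠ 0)
    (hy : y ∈ preV X.L.J X.WV) (e : act z d (vk z x) = vk z y) : X.Hc x y := by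
  have hdH := X.NC_le_HH hd
  have hmem : d * x * d⁻¹ ∈ preV X.L.J X.WV :=
    ⟨conj_mem_EE hdH hx.1, by rw [← act_vk hdH hx.1]; exact X.NC_WV hd hx.2⟩
  have e' : vk z (d * x * d⁻¹) = vk z y := by rw [← act_vk hdH hx.1, e]
  refine Hc.trans' X ⟨d, X.NC_mem_NH hd, rfl⟩ (X.Hc_vk hmem ?_ hy e')
  rw [← act_vk hdH hx.1]
  exact fun h => h0 (act_injective hdH (h.trans (map_zero _).symm))

theorem five_Hc {x y : G} (hx : x ∈ preV X.L.J X.WV) (hy : y ∈ preV X.L.J X.WV) (h5 : vk z x ∈ X.five)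
    (h5' : vk z y ∈ X.five) : X.Hc x y := by
  obtain ⟨d, hd, e⟩ := X.five_trans h5 h5'
  exact X.Hc_trans_vk hd hx h5.2.1 hy e

theorem three_Hc {x y : G} (hx : x ∈ preV X.L.J X.WV) (hy : y ∈ preV X.L.J X.WV) (h0 : vk z x ≠ 0)
    (h3 : X.deg (vk z x) = 3) (h0' : vk z y ≠ 0) (h3' : X.deg (vk z y) = 3) : X.Hc x y := by
  obtain ⟨d, hd, e⟩ := X.three_trans hx.2 h0 h3 hy.2 h0' h3'
  exact X.Hc_trans_vk hd hx h0 hy e

section Coset

variable {c : G} (hc : c ∈ X.LE) {m : ↥Cfsg.Spor.M22} (hm : X.π ⟨c, X.LE_le_CC hc⟩ = m)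

include hc

theorem conj_EE_LE {e : G} (he : e ∈ EE z) : e * c * e⁻¹ * c⁻¹ ∈ EE z ∧
    vk z (e * c * e⁻¹ * c⁻¹) = nil z c (vk z e) := by
  have hcH := (X.LE_le_CC hc).1
  rw [show e * c * e⁻¹ * c⁻¹ = e * (c * e⁻¹ * c⁻¹) by group]
  refine ⟨mul_mem he (conj_mem_EE hcH (inv_mem he)), ?_⟩
  rw [vk_mul he (conj_mem_EE hcH (inv_mem he)), ← act_vk hcH (inv_mem he), vk_inv X.L.J he, nil_apply, add_comm]

include hm

theorem RR_of_lift : X.RR m = (nil z c).range :=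
  X.RR_lift (hm ▸ hc.2.1) (X.LE_le_CC hc) hc.2.2 hm

/-- In the coset of a lift the vectors on its line are conjugate to the lift or its product with `z`. -/
theorem coset_on {y : G} (hy : y ∈ preV X.L.J X.WV) (hyR : vk z y ∈ X.RR m) :
    X.Hc c (c * y) ∨ X.Hc (c * z) (c * y) := by
  rw [X.RR_of_lift hc hm] at hyR
  obtain ⟨w, hw⟩ := hyR
  obtain ⟨e, he, rfl⟩ := vk_surj w
  obtain ⟨h1, h2⟩ := X.conj_EE_LE hc he
  set y' := e * c * e⁻¹ * c⁻¹ with hy'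
  have hy'W : y' ∈ preV X.L.J X.WV := ⟨h1, by rw [h2, hw]; exact hy.2⟩
  have hconj : e * c * e⁻¹ = c * y' := by
    rw [X.LE_preV_comm hc hy'W, hy']
    group
  rcases (vk_eq_vk_iff X.L.J hy.1 h1).1 (hw.symm.trans h2.symm) with e1 | e1
  · exact Or.inl ⟨e, X.EE_mem_NH he, by rw [hconj, e1]⟩
  · refine Or.inr ?_
    have h : X.Hc c (c * y') := ⟨e, X.EE_mem_NH he, hconj⟩
    have := Hc.mul_z X h
    rwa [mul_assoc, ← e1] at this

/-- In the coset of a lift the vectors off its line are conjugate. -/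
theorem coset_off (hm1 : m ≠ 1) {y y' : G} (hy : y ∈ preV X.L.J X.WV) (hy' : y' ∈ preV X.L.J X.WV)
    (hyR : vk z y ∉ X.RR m) (hyR' : vk z y' ∉ X.RR m) : X.Hc (c * y) (c * y') := by
  classical
  have hJ := X.L.J
  have hmE : m ∈ X.S.E := hm ▸ hc.2.1
  have hRW := X.RR_le_WV hmE
  set r := vk z y with hr
  have hr0 : r ≠ 0 := fun e => hyR (e ▸ zero_mem _)
  let f : ↥(X.ln r) × ↥(X.RR m) → ↥X.WV := fun q =>
    ⟨(q.1 : VV z) + q.2, add_mem (X.ln_le (fun x hx => X.act_P_WV X.pp_mem hx) hy.2 q.1.2) (hRW q.2.2)⟩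
  have hinj : Function.Injective f := by
    rintro ⟨a, b⟩ ⟨a', b'⟩ e
    have e' : (a : VV z) + b = a' + b' := congrArg Subtype.val e
    have h1 : (a : VV z) + a' = b + b' := VV.eq_of_add hJ (by
      calc (a : VV z) + a' + (b + b') = (a + b) + (a' + b') := by abel
        _ = 0 := by rw [e', VV.two hJ])
    have hzero : (a : VV z) + a' = 0 := by
      by_contra h0
      refine hyR ?_
      have hle : X.ln ((a : VV z) + a') ≤ X.RR m :=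
        X.ln_le (fun x hx => X.RR_act_P hmE hx) (h1 ▸ add_mem b.2 b'.2)
      rw [X.ln_eq (add_mem a.2 a'.2) h0] at hle
      exact hle (self_mem_line _ _ _)
    exact Prod.ext (Subtype.ext (VV.eq_of_add hJ hzero)) (Subtype.ext (VV.eq_of_add hJ (h1 ▸ hzero)))
  obtain ⟨⟨⟨a, ha⟩, ⟨s, hs⟩⟩, hf⟩ := ((Nat.bijective_iff_injective_and_card f).2 ⟨hinj, by
    rw [Nat.card_prod, X.card_ln hr0, X.card_RR hmE hm1, X.card_WV.1]; norm_num⟩).2 ⟨vk z y', hy'.2⟩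
  have hf' : a + s = vk z y' := congrArg Subtype.val hf
  have ha0 : a ≠ 0 := fun e => hyR' (by rw [← hf', e, zero_add]; exact hs)
  obtain ⟨q, hq, hqa⟩ : ∃ q ∈ P, act z q r = a := by
    rcases (mem_line hJ).1 ha with e | e | e | e
    · exact absurd e ha0
    · exact ⟨1, one_mem _, by rw [act_one, e]⟩
    · exact ⟨X.pp, X.pp_mem, e.symm⟩
    · exact ⟨X.pp * X.pp, mul_mem X.pp_mem X.pp_mem, by
        rw [act_mul (hJ.P_le_HH X.pp_mem) (hJ.P_le_HH X.pp_mem), act_act hJ X.pp_mem X.pp_ne, e]⟩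
  -- first move by `P`
  have hqH := hJ.P_le_HH hq
  set y1 := q * y * q⁻¹ with hy1
  have hy1E : y1 ∈ EE z := conj_mem_EE hqH hy.1
  have hy1v : vk z y1 = a := by rw [hy1, ← act_vk hqH hy.1, hqa]
  have step1 : X.Hc (c * y) (c * y1) := ⟨q, X.NC_mem_NH (X.P_le_NC hq), by
    rw [hy1]
    calc q * (c * y) * q⁻¹ = (q * c) * y * q⁻¹ := by group
      _ = c * q * y * q⁻¹ := by rw [← commute_CC_P (X.LE_le_CC hc) hq]
      _ = _ := by group⟩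
  -- then by `E`
  obtain ⟨w, hw⟩ : s ∈ (nil z c).range := X.RR_of_lift hc hm ▸ hs
  obtain ⟨e0, he0, rfl⟩ := vk_surj w
  obtain ⟨h1, h2⟩ := X.conj_EE_LE hc he0
  set y0 := e0 * c * e0⁻¹ * c⁻¹ with hy0
  have hy0W : y0 ∈ preV X.L.J X.WV := ⟨h1, by rw [h2, hw]; exact hRW hs⟩
  have hy2E : e0 * y1 * e0⁻¹ ∈ EE z := conj_mem_EE (EE_le_HH z he0) hy1E
  have hconj : e0 * (c * y1) * e0⁻¹ = c * (y0 * (e0 * y1 * e0⁻¹)) := by
    rw [← mul_assoc c y0, X.LE_preV_comm hc hy0W, hy0]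
    group
  set y2 := y0 * (e0 * y1 * e0⁻¹) with hy2
  have hv2 : vk z y2 = vk z y' := by
    rw [hy2, vk_mul h1 hy2E, h2, hw, ← act_vk (EE_le_HH z he0) hy1E, act_EE hJ he0, hy1v, ← hf', add_comm]
  have step2 : X.Hc (c * y1) (c * y2) := ⟨e0, X.EE_mem_NH he0, hconj⟩
  have step : X.Hc (c * y) (c * y2) := Hc.trans' X step1 step2
  rcases (vk_eq_vk_iff hJ hy'.1 (mul_mem h1 hy2E)).1 hv2.symm with e1 | e1
  · rw [e1]; exact step
  -- fix the sign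
  refine Hc.trans' X step ?_
  obtain ⟨v, hv, hv1⟩ : ∃ v ∈ (nil z c).ker, BB z (vk z y2) v = 1 := by
    by_contra hcon
    push Not at hcon
    refine hyR' ?_
    rw [← hv2, X.RR_of_lift hc hm, X.range_eq_perp_ker (X.LE_le_CC hc).1]
    intro v hv
    have h2' : ∀ a : ZMod 2, a ≠ 1 → a = 0 := by decide
    exact h2' _ (hcon v hv)
  obtain ⟨e2, he2, rfl⟩ := vk_surj v
  rw [BB_vk hJ (mul_mem h1 hy2E) he2, cm_comm] at hv1
  refine ⟨e2, X.EE_mem_NH he2, ?_⟩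
  have hcom := fixed_of_CC hJ (X.LE_le_CC hc) he2 ((mem_ker_nil hJ).1 hv)
  rw [show e2 * (c * y2) * e2⁻¹ = e2 * c * (y2 * e2⁻¹) by group, ← hcom,
    show c * e2 * (y2 * e2⁻¹) = c * (e2 * y2 * e2⁻¹) by group, X.conj_z_of_cm he2 (mul_mem h1 hy2E) hv1, e1]

end Coset

theorem lift_cases {l l' : G} (hl : l ∈ X.LE) (hl' : l' ∈ X.LE)
    (e : X.π ⟨l, X.LE_le_CC hl⟩ = X.π ⟨l', X.LE_le_CC hl'⟩) : l' = l ∨ l' = l * z := by
  have hk : X.π ⟨l⁻¹ * l', X.LE_le_CC (mul_mem (inv_mem hl) hl')⟩ = 1 := by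
    rw [show (⟨l⁻¹ * l', X.LE_le_CC (mul_mem (inv_mem hl) hl')⟩ : ↥(CC z P)) =
      ⟨l, X.LE_le_CC hl⟩⁻¹ * ⟨l', X.LE_le_CC hl'⟩ from rfl, map_mul, map_inv, e, inv_mul_cancel]
  have h6 := (X.mem_ker_iff _).1 hk
  rcases X.L.J.mem_zpowers (X.mem_zpowers_of_six h6 (by
    rw [(mul_mem (inv_mem hl) hl' : l⁻¹ * l' ∈ X.LE).2.2]; exact one_mem _)) with h | h
  · exact Or.inl (inv_mul_eq_one.1 h).symm
  · exact Or.inr (inv_mul_eq_iff_eq_mul.1 h)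

/-- An element of the normaliser carries lifts to lifts and lines to lines. -/
theorem exists_move_lift {m n : ↥Cfsg.Spor.M22} (hm : m ∈ X.S.E) (hm1 : m ≠ 1) (hn : n ∈ X.S.E) (hn1 : n ≠ 1) :
    ∃ d ∈ X.NC, ∀ (c : G) (hc : c ∈ X.LE), X.π ⟨c, X.LE_le_CC hc⟩ = m →
      (∃ hc' : d * c * d⁻¹ ∈ X.LE, X.π ⟨d * c * d⁻¹, X.LE_le_CC hc'⟩ = n) ∧
      ∀ y ∈ preV X.L.J X.WV, d * y * d⁻¹ ∈ preV X.L.J X.WV ∧
        (vk z (d * y * d⁻¹) ∈ X.RR n ↔ vk z y ∈ X.RR m) := by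
  obtain ⟨k, hk, hkm⟩ := X.S.trans X.hcard hm hm1
  obtain ⟨k', hk', hkn⟩ := X.S.trans X.hcard hn hn1
  have hkk : k' * k⁻¹ ∈ X.NS := mul_mem hk' (inv_mem hk)
  obtain ⟨d, hd, hdN, hdk⟩ := X.exists_NC hkk
  have hmn : k' * k⁻¹ * m * (k' * k⁻¹)⁻¹ = n := by rw [← hkm, ← hkn]; group
  refine ⟨d, hdN, fun c hc hcm => ⟨⟨X.conj_mem_LE hd (hdk ▸ hkk) hc, ?_⟩, fun y hy => ?_⟩⟩
  · rw [show (⟨d * c * d⁻¹, X.LE_le_CC (X.conj_mem_LE hd (hdk ▸ hkk) hc)⟩ : ↥(CC z P)) =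
      ⟨d, hd⟩ * ⟨c, X.LE_le_CC hc⟩ * ⟨d, hd⟩⁻¹ from rfl, map_mul, map_mul, map_inv, hcm, hdk, hmn]
  · have e : vk z (d * y * d⁻¹) = act z d (vk z y) := (act_vk hd.1 hy.1).symm
    refine ⟨⟨conj_mem_EE hd.1 hy.1, e ▸ X.NC_WV hdN hy.2⟩, fun h => ?_, fun h => ?_⟩
    · rw [e] at h
      have hi : X.π ⟨d⁻¹, inv_mem hd⟩ = (k' * k⁻¹)⁻¹ := (map_inv X.π ⟨d, hd⟩).trans (by rw [hdk])
      have h2 := X.RR_conj (inv_mem hd) (hi ▸ inv_mem hkk) hn h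
      rwa [act_inv_act hd.1, hi, show (k' * k⁻¹)⁻¹ * n * (k' * k⁻¹)⁻¹⁻¹ = m by rw [← hmn]; group] at h2
    · rw [e]
      have h2 := X.RR_conj hd (hdk ▸ hkk) hm h
      rwa [hdk, hmn] at h2

end Cfsg.Agent.J4Eleven.Chart
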