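import Cfsg.Agent.Lib.J4V.Points
import Cfsg.Agent.Lib.Golay.SteinerCode
import Cfsg.Agent.Lib.Golay.M24

/-!
# The binary code on the twenty-four points and the recognition of `M24`

The vectors are the even sets of points modulo a code whose octads form an S(5, 8, 24); an extension of the
space acting faithfully with order that of `M24` therefore has quotient `M24`, acting as on the even cocode.

* `recognise`: the statement, in the shape wanted by `M24CocodeSplit.Split.split`.
-/

set_option autoImplicit false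
set_option linter.unusedSectionVars false

namespace Cfsg.Agent.J4V.Points

open Finset
open scoped Pointwise
open Cfsg (GolayPt golayCode M24 octads supports support₂ setSystemAut IsSteinerSystem)

namespace Data

variable {W : Type*} [AddCommGroup W] [Fintype W] [DecidableEq W] (A : Data W)

/-- Some point. -/
noncomputable def base : Pt A :=
  (card_pos.1 (show 0 < (univ : Finset (Pt A)).card by rw [card_univ, A.card_pt]; norm_num)).choose

/-- The vector of a set of points. -/
noncomputable def sig (s : Finset (Pt A)) : W := ∑ x ∈ s, A.e A.base x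

theorem sig_pair {a b : Pt A} (h : a ≠ b) : A.sig {a, b} = A.e a b := by
  rw [sig, sum_pair h, A.e_add]

theorem sig_union {s t : Finset (Pt A)} (h : Disjoint s t) : A.sig (s ∪ t) = A.sig s + A.sig t := sum_union h

theorem sig_symmDiff (s t : Finset (Pt A)) : A.sig (symmDiff s t) = A.sig s + A.sig t := by
  have h1 := sum_inter_add_sum_sdiff s t (A.e A.base)
  have h2 := sum_inter_add_sum_sdiff t s (A.e A.base)
  rw [inter_comm] at h2
  rw [sig, sig, sig, symmDiff_def, sup_eq_union, sum_union disjoint_sdiff_sdiff, ← h1, ← h2,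
    add_add_add_comm, A.two, zero_add]

theorem sig_empty : A.sig ∅ = 0 := sum_empty

theorem card_symmDiff_add (s t : Finset (Pt A)) : (symmDiff s t).card + 2 * (s ∩ t).card = s.card + t.card := by
  have h1 := card_inter_add_card_sdiff s t
  have h2 := card_inter_add_card_sdiff t s
  rw [symmDiff_def, sup_eq_union, card_union_of_disjoint disjoint_sdiff_sdiff]
  rw [inter_comm t s] at h2
  omega

theorem even_symmDiff {s t : Finset (Pt A)} (hs : Even s.card) (ht : Even t.card) :
    Even (symmDiff s t).card := by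
  have := A.card_symmDiff_add s t
  rw [Nat.even_iff] at hs ht ⊢
  omega

theorem sig_two {s : Finset (Pt A)} (h : s.card = 2) : A.sig s ∈ A.D := by
  obtain ⟨a, b, hab, rfl⟩ := card_eq_two.1 h
  rw [A.sig_pair hab]
  exact A.e_mem_D hab

theorem sig_four {s : Finset (Pt A)} (h : s.card = 4) : A.sig s ∈ A.Z := by
  obtain ⟨T, hTs, hT⟩ := exists_subset_card_eq (show 2 ≤ s.card by omega)
  have hR : (s \ T).card = 2 := by rw [card_sdiff_of_subset hTs, h, hT]
  have hdis : Disjoint T (s \ T) := disjoint_sdiff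
  obtain ⟨a, b, hab, rfl⟩ := card_eq_two.1 hT
  obtain ⟨c, d, hcd, e⟩ := card_eq_two.1 hR
  rw [e] at hdis
  simp only [disjoint_insert_left, disjoint_singleton_left, mem_insert, mem_singleton, not_or] at hdis
  rw [← union_sdiff_of_subset hTs, A.sig_union disjoint_sdiff, e, A.sig_pair hab, A.sig_pair hcd, A.mem_Z]
  refine ⟨fun h0 => ?_, A.disj_pairs hab hcd hdis.1.1 hdis.1.2 hdis.2.1 hdis.2.2⟩
  rcases A.e_pair hab hcd (A.eq_of_add h0) with ⟨h1, -⟩ | ⟨h1, -⟩
  · exact hdis.1.1 h1
  · exact hdis.1.2 h1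

/-- No word of weight two, four or six. -/
theorem small {s : Finset (Pt A)} (he : Even s.card) (h6 : s.card ≤ 6) (h0 : A.sig s = 0) : s = ∅ := by
  obtain ⟨k, hk⟩ := he
  by_contra hne
  have hpos : 0 < s.card := card_pos.2 (nonempty_of_ne_empty hne)
  rcases (show s.card = 2 ∨ s.card = 4 ∨ s.card = 6 by omega) with h | h | h
  · exact A.zero (h0 ▸ A.sig_two h)
  · exact (A.mem_Z.1 (h0 ▸ A.sig_four h)).1 rfl
  · obtain ⟨T, hTs, hT⟩ := exists_subset_card_eq (show 4 ≤ s.card by omega)
    have hR : (s \ T).card = 2 := by rw [card_sdiff_of_subset hTs, h, hT]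
    rw [← union_sdiff_of_subset hTs, A.sig_union disjoint_sdiff] at h0
    exact (A.mem_Z.1 (A.sig_four hT)).2 (A.eq_of_add h0 ▸ A.sig_two hR)

/-- The sets of four points over a vector. -/
noncomputable def quads (z : W) : Finset (Finset (Pt A)) :=
  ((univ : Finset (Pt A)).powersetCard 4).filter fun q => A.sig q = z

theorem mem_quads {z : W} {q : Finset (Pt A)} : q ∈ A.quads z ↔ q.card = 4 ∧ A.sig q = z := by
  simp [quads]

theorem quads_disjoint (z : W) : (A.quads z : Set (Finset (Pt A))).PairwiseDisjoint id := by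
  intro q hq q' hq' hne
  simp only [mem_coe, A.mem_quads] at hq hq'
  by_contra h
  obtain ⟨x, hx, hx'⟩ := not_disjoint_iff.1 (show ¬ Disjoint q q' from h)
  have hc := A.card_symmDiff_add q q'
  have hpos : 0 < (q ∩ q').card := card_pos.2 ⟨x, mem_inter.2 ⟨hx, hx'⟩⟩
  refine hne (symmDiff_eq_bot.1 (A.small ⟨4 - (q ∩ q').card, by omega⟩ (by omega) ?_))
  rw [A.sig_symmDiff, hq.2, hq'.2, A.two]

theorem card_quads_le (z : W) : 4 * (A.quads z).card ≤ 24 := by
  calc 4 * (A.quads z).card = ∑ q ∈ A.quads z, q.card := by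
        rw [sum_congr rfl fun q hq => (A.mem_quads.1 hq).1, sum_const, smul_eq_mul, mul_comm]
    _ = ((A.quads z).biUnion id).card := (card_biUnion (A.quads_disjoint z)).symm
    _ ≤ _ := (card_le_univ _).trans (le_of_eq A.card_pt)

theorem card_quads {z : W} (hz : z ∈ A.Z) : (A.quads z).card = 6 := by
  have h : ((univ : Finset (Pt A)).powersetCard 4).card = ∑ x ∈ A.Z, (A.quads x).card :=
    card_eq_sum_card_fiberwise fun q hq => A.sig_four (mem_powersetCard.1 hq).2
  rw [card_powersetCard, card_univ, A.card_pt, ← add_sum_erase _ _ hz,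
    show Nat.choose 24 4 = 10626 from rfl] at h
  have hle : ∑ x ∈ A.Z.erase z, (A.quads x).card ≤ 1770 * 6 := by
    refine (sum_le_sum fun x _ => (show (A.quads x).card ≤ 6 by have := A.card_quads_le x; omega)).trans ?_
    rw [sum_const, card_erase_of_mem hz, A.card_Z, smul_eq_mul]
  have := A.card_quads_le z
  omega

/-- The six sets cover the points. -/
theorem quads_cover {z : W} (hz : z ∈ A.Z) (a : Pt A) : ∃ q ∈ A.quads z, a ∈ q := by
  have hU : (A.quads z).biUnion id = univ := by
    refine eq_univ_of_card _ ?_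
    rw [card_biUnion (A.quads_disjoint z), A.card_pt]
    simp only [id]
    rw [sum_congr rfl (g := fun _ => 4) (fun q hq => (A.mem_quads.1 hq).1), sum_const, A.card_quads hz, smul_eq_mul]
  obtain ⟨q, hq, haq⟩ := mem_biUnion.1 (hU ▸ mem_univ a)
  exact ⟨q, hq, haq⟩

/-- The octads. -/
def octs : Set (Finset (Pt A)) := {b | b.card = 8 ∧ A.sig b = 0}

theorem steiner : IsSteinerSystem 5 8 A.octs := by
  refine ⟨fun b hb => hb.1, fun T hT => ?_⟩
  obtain ⟨a, ha⟩ := card_pos.1 (show 0 < T.card by omega)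
  set q := T.erase a with hq
  have hqc : q.card = 4 := by rw [hq, card_erase_of_mem ha, hT]
  obtain ⟨q', hq', haq'⟩ := A.quads_cover (A.sig_four hqc) a
  have hne : q ≠ q' := fun e => notMem_erase a T (e ▸ haq' : a ∈ q)
  have hdis : Disjoint q q' := A.quads_disjoint _ (mem_coe.2 (A.mem_quads.2 ⟨hqc, rfl⟩)) (mem_coe.2 hq') hne
  obtain ⟨hq'c, hq's⟩ := A.mem_quads.1 hq'
  have hTb : T ⊆ q ∪ q' := by
    intro x hx
    by_cases h : x = a
    · exact mem_union_right _ (h ▸ haq')
    · exact mem_union_left _ (mem_erase.2 ⟨h, hx⟩)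
  refine ⟨q ∪ q', ⟨⟨?_, ?_⟩, hTb⟩, ?_⟩
  · rw [card_union_of_disjoint hdis, hqc, hq'c]
  · rw [A.sig_union hdis, hq's, A.two]
  rintro b ⟨⟨hb8, hb0⟩, hTb'⟩
  have hc := A.card_symmDiff_add b (q ∪ q')
  have h5 : 5 ≤ (b ∩ (q ∪ q')).card := hT ▸ card_le_card (subset_inter hTb' hTb)
  rw [hb8, card_union_of_disjoint hdis, hqc, hq'c] at hc
  refine symmDiff_eq_bot.1 (A.small ⟨8 - (b ∩ (q ∪ q')).card, by omega⟩ (by omega) ?_)
  rw [A.sig_symmDiff, hb0, A.sig_union hdis, hq's, A.two, add_zero]

/-- Every vector comes from an even set. -/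
theorem sig_surj (w : W) : ∃ s : Finset (Pt A), Even s.card ∧ A.sig s = w := by
  have h : w ∈ AddSubgroup.closure (A.D : Set W) := by rw [A.gen]; exact AddSubgroup.mem_top w
  induction h using AddSubgroup.closure_induction with
  | mem x hx =>
    obtain ⟨S, T, hne, he, -⟩ := A.exists_e (mem_coe.1 hx)
    exact ⟨{S, T}, by rw [card_pair hne]; exact even_two, (A.sig_pair hne).trans he⟩
  | zero => exact ⟨∅, by simp, A.sig_empty⟩
  | add x y _ _ hx hy =>
    obtain ⟨s, hs, rfl⟩ := hx
    obtain ⟨t, ht, rfl⟩ := hy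
    exact ⟨symmDiff s t, A.even_symmDiff hs ht, A.sig_symmDiff s t⟩
  | neg x _ hx =>
    obtain ⟨s, hs, rfl⟩ := hx
    refine ⟨s, hs, A.eq_of_add ?_⟩
    rw [add_neg_cancel]

section Aut

variable (f : W ≃+ W) (hf : ∀ w, f w ∈ A.D ↔ w ∈ A.D)

include hf

theorem isStar_image {S : Finset W} (hS : A.IsStar S) : A.IsStar (S.image f) := by
  refine ⟨fun x hx => ?_, by rw [card_image_of_injective _ f.injective, hS.2.1], ?_⟩
  · obtain ⟨y, hy, rfl⟩ := mem_image.1 hx
    exact (hf y).2 (hS.1 hy)
  intro a ha b hb hab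
  obtain ⟨a', ha', rfl⟩ := mem_image.1 ha
  obtain ⟨b', hb', rfl⟩ := mem_image.1 hb
  obtain ⟨h1, h2⟩ := hS.2.2 a' ha' b' hb' fun e' => hab (congrArg f e')
  rw [← map_add]
  exact ⟨(hf _).2 h1, fun h => h2 ((f.injective.mem_finset_image).1 h)⟩

/-- The image of a point. -/
def mv (S : Pt A) : Pt A := ⟨S.1.image f, A.isStar_image f hf S.2⟩

theorem mv_injective : Function.Injective (A.mv f hf) := fun S T h =>
  Subtype.ext (image_injective f.injective (congrArg Subtype.val h))

theorem map_e (S T : Pt A) : f (A.e S T) = A.e (A.mv f hf S) (A.mv f hf T) := by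
  by_cases h : S = T
  · subst h; rw [A.e_self, A.e_self, map_zero]
  exact (A.e_eq (fun e' => h (A.mv_injective f hf e')) (mem_image_of_mem f (A.e_mem h).1)
    (mem_image_of_mem f (A.e_mem h).2)).symm

theorem map_sig {s : Finset (Pt A)} (hs : Even s.card) : f (A.sig s) = A.sig (s.image (A.mv f hf)) := by
  rw [sig, sig, map_sum, sum_image fun x _ y _ h => A.mv_injective f hf h,
    sum_congr rfl fun x _ => (A.map_e f hf A.base x).trans
      (show _ = A.e A.base (A.mv f hf A.base) + A.e A.base (A.mv f hf x) from (A.e_add _ _ _).symm),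
    sum_add_distrib, sum_const]
  obtain ⟨k, hk⟩ := hs
  rw [hk, add_nsmul, A.two, zero_add]

end Aut

end Data

theorem sum_eq_card (w : GolayPt → ZMod 2) : ∑ p, w p = (((support₂ w).card : ℕ) : ZMod 2) := by
  conv_lhs => rw [← Cfsg.Agent.Golay.Basic.word_support₂ w]
  simp [Cfsg.Agent.Golay.Basic.word]

theorem sum_zero_iff (w : GolayPt → ZMod 2) : ∑ p, w p = 0 ↔ Even (support₂ w).card := by
  rw [sum_eq_card, ZMod.natCast_eq_zero_iff_even]

theorem code_induction (P : Finset GolayPt → Prop) (h0 : P ∅) (hoct : ∀ o ∈ octads, P o)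
    (hadd : ∀ s t, P s → P t → P (symmDiff s t)) : ∀ w ∈ golayCode, P (support₂ w) := by
  open Cfsg.Agent.Golay.Basic in
  have hb : ∀ b ∈ basisMasks, maskSet b ∈ octads := by
    intro b hb
    rw [mem_octads_iff]
    revert b
    decide +kernel
  have hspan : ∀ L : List ℕ, (∀ b ∈ L, Cfsg.Agent.Golay.Basic.maskSet b ∈ octads) →
      ∀ x ∈ Cfsg.Agent.Golay.Basic.spanList L, P (Cfsg.Agent.Golay.Basic.maskSet x) := by
    intro L
    induction L with
    | nil =>
      intro _ x hx
      obtain rfl := List.mem_singleton.1 hx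
      rw [show Cfsg.Agent.Golay.Basic.maskSet 0 = ∅ by ext p; simp]
      exact h0
    | cons b bs ih =>
      intro hL x hx
      have ih' := ih fun c hc => hL c (List.mem_cons_of_mem _ hc)
      simp only [Cfsg.Agent.Golay.Basic.spanList, List.mem_append, List.mem_map] at hx
      rcases hx with hx | ⟨y, hy, rfl⟩
      · exact ih' x hx
      · rw [Cfsg.Agent.Golay.Basic.mask_maskSet_xor]
        exact hadd _ _ (hoct _ (hL b List.mem_cons_self)) (ih' y hy)
  intro w hw
  open Cfsg.Agent.Golay.Basic in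
  rw [← maskSet_mask (support₂ w)]
  exact hspan _ hb _ (Cfsg.Agent.Golay.Basic.mem_codeList
    (Cfsg.Agent.Golay.Basic.mem_supports_iff.1 ⟨w, hw, rfl⟩))

open Cfsg.Agent.Golay.Basic in
/-- The quotient is `M24`, acting as on the even cocode. -/
theorem recognise {E : Type*} [Group E] [Finite E] (N : Subgroup E) [N.Normal] {W : Type*} [AddCommGroup W]
    [Fintype W] [DecidableEq W] (A : Data W) (emb : W → E) (hadd : ∀ a b, emb (a + b) = emb a * emb b)
    (hinj : Function.Injective emb) (hran : ∀ n, n ∈ N ↔ ∃ w, emb w = n) (ρ : E → W ≃+ W)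
    (hρ : ∀ g w, g * emb w * g⁻¹ = emb (ρ g w)) (hD : ∀ g w, ρ g w ∈ A.D ↔ w ∈ A.D)
    (hC : ∀ g : E, (∀ n ∈ N, g * n = n * g) → g ∈ N) (hcard : Nat.card (E ⧸ N) = 244823040) :
    ∃ φ : E ⧸ N ≃* ↥M24, ∃ ε : (GolayPt → ZMod 2) → E,
      (∀ v w, ∑ p, v p = 0 → ∑ p, w p = 0 → ε (v + w) = ε v * ε w) ∧
      (∀ w, ∑ p, w p = 0 → ε w ∈ N) ∧
      (∀ n ∈ N, ∃ w, ∑ p, w p = 0 ∧ ε w = n) ∧
      (∀ w ∈ golayCode, ε w = 1) ∧
      ∀ (g : E) (w : GolayPt → ZMod 2), ∑ p, w p = 0 → g * ε w * g⁻¹ =
        ε (fun p => w ((((φ (QuotientGroup.mk g) : ↥M24) : Equiv.Perm GolayPt))⁻¹ p)) := by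
  have hmul : ∀ g h w, ρ (g * h) w = ρ g (ρ h w) := fun g h w => hinj (by
    rw [← hρ, ← hρ, ← hρ]; group)
  have hone : ∀ w, ρ 1 w = w := fun w => hinj (by rw [← hρ]; group)
  let mv : E → Pt A → Pt A := fun g => A.mv (ρ g) (hD g)
  have mv_mul : ∀ g h S, mv (g * h) S = mv g (mv h S) := fun g h S => Subtype.ext (by
    simp only [mv, Data.mv, image_image]
    exact image_congr fun x _ => hmul g h x)
  have mv_one : ∀ S, mv 1 S = S := fun S => Subtype.ext (by
    simp only [mv, Data.mv]
    rw [image_congr (g := id) fun x _ => hone x, image_id])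
  let π : E →* Equiv.Perm (Pt A) :=
    { toFun := fun g => ⟨mv g, mv g⁻¹, fun S => by rw [← mv_mul, inv_mul_cancel, mv_one],
        fun S => by rw [← mv_mul, mul_inv_cancel, mv_one]⟩
      map_one' := Equiv.ext mv_one
      map_mul' := fun g h => Equiv.ext (mv_mul g h) }
  obtain ⟨ψ, hψ⟩ := Cfsg.Agent.Golay.SteinerCode.iso_octads A.card_pt A.steiner
  have hmem : ∀ g, ψ.permCongrHom (π g) ∈ M24 := by
    intro g
    rw [S0369.result, Cfsg.Agent.Golay.DesignIso.permCongr_mem_iff ψ hψ, MulAction.mem_stabilizer_iff]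
    refine Set.eq_of_subset_of_ncard_le ?_ (by rw [Set.ncard_smul_set]) (Set.toFinite _)
    rintro _ ⟨b, hb, rfl⟩
    refine ⟨by rw [card_smul_finset]; exact hb.1, ?_⟩
    show A.sig (π g • b) = 0
    rw [show π g • b = b.image (mv g) from rfl, ← A.map_sig (ρ g) (hD g) (hb.1 ▸ ⟨4, rfl⟩), hb.2, map_zero]
  let Φ : E →* ↥M24 := (ψ.permCongrHom.toMonoidHom.comp π).codRestrict M24 hmem
  have hker : Φ.ker = N := by
    ext g
    rw [MonoidHom.mem_ker]
    constructor
    · intro h
      have h1 : ψ.permCongrHom (π g) = 1 := congrArg Subtype.val h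
      have hπ : π g = 1 := ψ.permCongrHom.injective (h1.trans (map_one _).symm)
      have hfixD : ∀ d ∈ A.D, ρ g d = d := fun d hd => by
        obtain ⟨S, T, -, he, -⟩ := A.exists_e hd
        rw [← he, A.map_e (ρ g) (hD g), show A.mv (ρ g) (hD g) S = S from Equiv.ext_iff.1 hπ S,
          show A.mv (ρ g) (hD g) T = T from Equiv.ext_iff.1 hπ T]
      have hall : ∀ w, ρ g w = w := fun w => by
        have hw : w ∈ AddSubgroup.closure (A.D : Set W) := by rw [A.gen]; exact AddSubgroup.mem_top w
        induction hw using AddSubgroup.closure_induction with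
        | mem x hx => exact hfixD x hx
        | zero => exact map_zero _
        | add x y _ _ hx hy => rw [map_add, hx, hy]
        | neg x _ hx => rw [map_neg, hx]
      refine hC g fun n hn => ?_
      obtain ⟨w, rfl⟩ := (hran n).1 hn
      rw [← mul_inv_eq_iff_eq_mul, hρ, hall]
    · intro hg
      obtain ⟨v, rfl⟩ := (hran g).1 hg
      have hid : ∀ w, ρ (emb v) w = w := fun w => hinj (by
        rw [← hρ, mul_inv_eq_iff_eq_mul, ← hadd, ← hadd, add_comm])
      have hπ : π (emb v) = 1 := Equiv.ext fun S => Subtype.ext (by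
        show S.1.image (ρ (emb v)) = S.1
        rw [image_congr (g := id) fun x _ => hid x, image_id])
      refine Subtype.ext ?_
      show ψ.permCongrHom (π (emb v)) = 1
      rw [hπ, map_one]
  let φ0 : E ⧸ N →* ↥M24 := QuotientGroup.lift N Φ hker.ge
  have hφ0 : Function.Bijective φ0 := by
    rw [Nat.bijective_iff_injective_and_card]
    refine ⟨?_, by rw [hcard, Cfsg.Agent.Golay.M24.card_M24]⟩
    rw [← MonoidHom.ker_eq_bot_iff, QuotientGroup.ker_lift, hker, QuotientGroup.map_mk'_self]
  refine ⟨MulEquiv.ofBijective φ0 hφ0, fun w => emb (A.sig ((support₂ w).image ψ.symm)), ?_, ?_, ?_, ?_, ?_⟩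
  · intro v w _ _
    simp only []
    rw [← hadd, support₂_add, image_symmDiff _ _ ψ.symm.injective, A.sig_symmDiff]
  · exact fun w _ => (hran _).2 ⟨_, rfl⟩
  · intro n hn
    obtain ⟨u, rfl⟩ := (hran n).1 hn
    obtain ⟨s, hs, rfl⟩ := A.sig_surj u
    refine ⟨word (s.image ψ), ?_, ?_⟩
    · rw [sum_zero_iff, support₂_word, card_image_of_injective _ ψ.injective]; exact hs
    · simp [support₂_word, image_image]
  · intro w hw
    have h := code_induction (fun s => A.sig (s.image ψ.symm) = 0) (by simp [A.sig_empty]) (fun o ho => ?_)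
      (fun s t hs ht => by
        show A.sig _ = 0
        rw [image_symmDiff _ _ ψ.symm.injective, A.sig_symmDiff, hs, ht, add_zero]) w hw
    · have h0 : emb 0 = 1 := by
        have := hadd 0 0; rw [add_zero] at this; exact mul_eq_left.1 this.symm
      show emb _ = 1
      rw [h, h0]
    · have : o.image ψ.symm ∈ A.octs := by
        rw [Cfsg.Agent.Golay.DesignIso.mem_iff hψ]
        simpa [image_image] using ho
      exact this.2
  · intro g w hw
    simp only []
    rw [hρ]
    refine congrArg emb ?_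
    have hσ : ((MulEquiv.ofBijective φ0 hφ0 (QuotientGroup.mk g) : ↥M24) : Equiv.Perm GolayPt) =
        ψ.permCongrHom (π g) := rfl
    rw [hσ, A.map_sig (ρ g) (hD g)
      (by rw [card_image_of_injective _ ψ.symm.injective]; exact (sum_zero_iff w).1 hw)]
    refine congrArg A.sig ?_
    have hs : support₂ (fun p => w ((ψ.permCongrHom (π g))⁻¹ p)) =
        (support₂ w).image (ψ.permCongrHom (π g)) := by
      ext p
      simp only [support₂, mem_filter, mem_univ, true_and, mem_image]
      constructor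
      · intro h
        exact ⟨_, h, (ψ.permCongrHom (π g)).apply_symm_apply p⟩
      · rintro ⟨q, hq, rfl⟩
        show w ((ψ.permCongrHom (π g)).symm (ψ.permCongrHom (π g) q)) ≠ 0
        rwa [Equiv.symm_apply_apply]
    rw [hs, image_image, image_image]
    refine image_congr fun p _ => ?_
    simp [π, mv]

end Cfsg.Agent.J4V.Points
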