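import Cfsg.Agent.Lib.J4V.Orbits

/-!
# Janko four type: how many conjugates of `z` lie in the subgroup of order `2 ^ 11`

Each of the fifteen outer cosets has a conjugate of `z` among the lifts; the number of conjugates of `z` is
given by four truth values.
-/

set_option autoImplicit false
set_option linter.style.haveILetI false
set_option linter.unusedSectionVars false

namespace Cfsg.Agent.J4Eleven.Chart

open Subgroup
open Cfsg.Agent.J4Local
open Cfsg.Agent.M22Order (Setup)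

universe u

variable {G : Type u} [Group G] [Finite G] {z : G} {P : Subgroup G} (X : Chart z P)

open _root_.Classical in
/-- A lift conjugate to `z`, when there is one. -/
noncomputable def zl (m : ↥Cfsg.Spor.M22) : G :=
  if m = 1 then 1 else if IsConj z (X.lf m) then X.lf m else X.lf m * z

theorem zl_one : X.zl 1 = 1 := by rw [zl, if_pos rfl]

theorem zl_mem {m : ↥Cfsg.Spor.M22} (hm : m ∈ X.S.E) : X.zl m ∈ X.LE := by
  rw [zl]
  split_ifs
  exacts [one_mem _, X.lf_mem hm, mul_mem (X.lf_mem hm) X.z_mem_LE]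

theorem zl_pi {m : ↥Cfsg.Spor.M22} (hm : m ∈ X.S.E) {h : X.zl m ∈ CC z P} : X.π ⟨X.zl m, h⟩ = m := by
  have key : ∀ (a : G) (ha : a ∈ CC z P), a = X.zl m → X.π ⟨a, ha⟩ = m → X.π ⟨X.zl m, h⟩ = m := by
    intro a ha e hh
    subst e
    exact hh
  by_cases h1 : m = 1
  · refine key 1 (one_mem _) (by rw [zl, if_pos h1]) ?_
    rw [h1]
    exact map_one X.π
  have hl := X.LE_le_CC (X.lf_mem hm)
  by_cases h2 : IsConj z (X.lf m)
  · exact key _ hl (by rw [zl, if_neg h1, if_pos h2]) (X.lf_pi hm)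
  refine key (X.lf m * z) (mul_mem hl X.z_mem_CC) (by rw [zl, if_neg h1, if_neg h2]) ?_
  rw [show (⟨X.lf m * z, mul_mem hl X.z_mem_CC⟩ : ↥(CC z P)) = ⟨X.lf m, hl⟩ * ⟨z, X.z_mem_CC⟩ from rfl,
    map_mul, X.lf_pi hm, (X.mem_ker_iff _).2 X.z_mem_six, mul_one]

theorem zl_cases {m : ↥Cfsg.Spor.M22} (hm : m ∈ X.S.E) {c : G} (hc : c ∈ X.LE)
    (e : X.π ⟨c, X.LE_le_CC hc⟩ = m) : c = X.zl m ∨ c = X.zl m * z :=
  X.lift_cases (X.zl_mem hm) hc ((X.zl_pi hm).trans e.symm)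

open _root_.Classical in
/-- Counting in the preimage of the fixed space fibre by fibre. -/
theorem card_fib (Q : G → Prop) (k : VV z → ℕ)
    (h : ∀ y ∈ preV X.L.J X.WV, ((if Q y then 1 else 0) + (if Q (y * z) then 1 else 0) : ℕ) = k (vk z y)) :
    {y | y ∈ preV X.L.J X.WV ∧ Q y}.ncard =
      ∑ v ∈ (Set.toFinite (X.WV : Set (VV z))).toFinset, k v := by
  haveI := Fintype.ofFinite G
  haveI := Fintype.ofFinite (VV z)
  have hJ := X.L.J
  rw [show {y | y ∈ preV X.L.J X.WV ∧ Q y} =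
      ↑(Finset.univ.filter fun y => y ∈ preV X.L.J X.WV ∧ Q y) by simp, Set.ncard_coe_finset,
    show (Set.toFinite (X.WV : Set (VV z))).toFinset = Finset.univ.filter (fun v => v ∈ X.WV) by ext; simp]
  rw [Finset.card_eq_sum_card_fiberwise (f := vk z) (t := Finset.univ.filter fun v => v ∈ X.WV) (fun y hy => by
    simp only [Finset.mem_coe, Finset.mem_filter, Finset.mem_univ, true_and] at hy ⊢
    exact hy.1.2)]
  refine Finset.sum_congr rfl fun v hv => ?_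
  simp only [Finset.mem_filter, Finset.mem_univ, true_and] at hv
  obtain ⟨y, hy, rfl⟩ := vk_surj v
  have hyW : y ∈ preV X.L.J X.WV := ⟨hy, hv⟩
  rw [← h y hyW]
  have hne : y ≠ y * z := fun e => hJ.ctr.ne_one (mul_eq_left.1 e.symm)
  have e : ((Finset.univ.filter fun x => x ∈ preV X.L.J X.WV ∧ Q x).filter fun x => vk z x = vk z y) =
      ({y, y * z} : Finset G).filter Q := by
    ext x
    simp only [Finset.mem_filter, Finset.mem_univ, true_and, Finset.mem_insert, Finset.mem_singleton]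
    constructor
    · rintro ⟨⟨hx, hQ⟩, ev⟩
      exact ⟨(vk_eq_vk_iff hJ hx.1 hy).1 ev, hQ⟩
    · rintro ⟨rfl | rfl, hQ⟩
      exacts [⟨⟨hyW, hQ⟩, rfl⟩, ⟨⟨X.mul_z_mem_preW hyW, hQ⟩, X.vk_mul_z hy⟩]
  rw [e, Finset.card_filter, Finset.sum_insert (by simpa using hne), Finset.sum_singleton]

open _root_.Classical in
theorem card_std_split (Q : G → Prop) :
    {v | v ∈ X.std ∧ Q v}.ncard = ∑ m ∈ (Set.toFinite (X.S.E : Set ↥Cfsg.Spor.M22)).toFinset,
      {y | y ∈ preV X.L.J X.WV ∧ Q (X.zl m * y)}.ncard := by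
  haveI := Fintype.ofFinite G
  haveI := Fintype.ofFinite ↥Cfsg.Spor.M22
  rw [show {v | v ∈ X.std ∧ Q v} = ↑(Finset.univ.filter fun v => v ∈ X.std ∧ Q v) by simp,
    Set.ncard_coe_finset,
    show (Set.toFinite (X.S.E : Set ↥Cfsg.Spor.M22)).toFinset = Finset.univ.filter (fun m => m ∈ X.S.E) by
      ext; simp]
  have hn : ∀ m, {y | y ∈ preV X.L.J X.WV ∧ Q (X.zl m * y)}.ncard =
      (Finset.univ.filter fun y => y ∈ preV X.L.J X.WV ∧ Q (X.zl m * y)).card := fun m => by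
    rw [← Set.ncard_coe_finset]; congr 1; simp
  simp only [hn]
  rw [← Finset.card_sigma]
  have hpsi : ∀ {m : ↥Cfsg.Spor.M22}, m ∈ X.S.E → ∀ {y : G}, y ∈ preV X.L.J X.WV →
      ∀ h, X.psi ⟨X.zl m * y, h⟩ = m := by
    intro m hm y hy h
    rw [X.psi_eq (X.LE_le_CC (X.zl_mem hm)) hy.1 h]
    exact X.zl_pi hm
  symm
  refine Finset.card_bij (fun p _ => X.zl p.1 * p.2) (fun p hp => ?_) (fun p hp q hq e => ?_) (fun v hv => ?_)
  · simp only [Finset.mem_sigma, Finset.mem_filter, Finset.mem_univ, true_and] at hp ⊢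
    exact ⟨mul_mem (X.LE_le_std (X.zl_mem hp.1)) (X.preV_le_std hp.2.1), hp.2.2⟩
  · simp only [Finset.mem_sigma, Finset.mem_filter, Finset.mem_univ, true_and] at hp hq
    have e1 : p.1 = q.1 := by
      have h1 := X.std_le_H0 (mul_mem (X.LE_le_std (X.zl_mem hp.1)) (X.preV_le_std hp.2.1))
      have h2 := X.std_le_H0 (mul_mem (X.LE_le_std (X.zl_mem hq.1)) (X.preV_le_std hq.2.1))
      rw [← hpsi hp.1 hp.2.1 h1, ← hpsi hq.1 hq.2.1 h2]
      exact congrArg X.psi (Subtype.ext e)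
    obtain ⟨a, b⟩ := p
    obtain ⟨a', b'⟩ := q
    obtain rfl : a = a' := e1
    obtain rfl : b = b' := mul_left_cancel e
    rfl
  · simp only [Finset.mem_filter, Finset.mem_univ, true_and] at hv
    obtain ⟨x, hx, c, hc, rfl⟩ := hv.1
    obtain ⟨hcC, hcE, -⟩ := id hc
    rcases X.zl_cases hcE hc rfl with e | e
    · refine ⟨⟨X.π ⟨c, X.LE_le_CC hc⟩, x⟩, ?_, ?_⟩
      · simp only [Finset.mem_sigma, Finset.mem_filter, Finset.mem_univ, true_and]
        exact ⟨hcE, hx, by rw [← e, X.LE_preV_comm hc hx]; exact hv.2⟩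
      · show X.zl _ * x = x * c
        rw [← e, X.LE_preV_comm hc hx]
    · refine ⟨⟨X.π ⟨c, X.LE_le_CC hc⟩, z * x⟩, ?_, ?_⟩
      · simp only [Finset.mem_sigma, Finset.mem_filter, Finset.mem_univ, true_and]
        exact ⟨hcE, mul_mem X.z_mem_preW hx, by rw [← mul_assoc, ← e, X.LE_preV_comm hc hx]; exact hv.2⟩
      · show X.zl _ * (z * x) = x * c
        rw [← mul_assoc, ← e, X.LE_preV_comm hc hx]

variable [IsSimpleGroup G] (hG : ¬ IsMulCommutative G)

include hG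

theorem exists_zt_lift : ∃ c, ∃ hc : c ∈ X.LE, X.π ⟨c, X.LE_le_CC hc⟩ = X.S.t ∧ IsConj z c := by
  have hJ := X.L.J
  obtain ⟨u, hu, hne, hcu⟩ := J4Local.exists_win hG hJ
  obtain ⟨g, hg⟩ := isConj_iff.1 hcu
  have huu : u * u = 1 := by
    rw [← hg]
    calc g * z * g⁻¹ * (g * z * g⁻¹) = g * (z * z) * g⁻¹ := by group
      _ = 1 := by rw [hJ.ctr.zz]; group
  have hu1 : u ≠ 1 := fun e => by
    rw [e] at hg
    exact hJ.ctr.ne_one (conj_eq_one_iff.1 hg)
  have hm : X.π ⟨u, hu⟩ ≠ 1 := fun e => by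
    rcases hJ.mem_zpowers (X.mem_zpowers_of_six ((X.mem_ker_iff _).1 e) (by rw [huu]; exact one_mem _)) with h | h
    exacts [hu1 h, hne h]
  obtain ⟨k, hk⟩ := isConj_iff.1 (M22Order.isConj_involution X.hcard
    (orderOf_eq_prime (by rw [pow_two, ← map_mul]; exact (X.mem_ker_iff _).2 (by
      show u * u ∈ _
      rw [huu]; exact one_mem _)) hm) X.S.ht)
  obtain ⟨⟨d, hd⟩, hdk⟩ := X.surj k
  have hdu : d * u * d⁻¹ ∈ CC z P := mul_mem (mul_mem hd hu) (inv_mem hd)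
  have hπ : X.π ⟨d * u * d⁻¹, hdu⟩ = X.S.t := by
    rw [show (⟨d * u * d⁻¹, hdu⟩ : ↥(CC z P)) = ⟨d, hd⟩ * ⟨u, hu⟩ * ⟨d, hd⟩⁻¹ from rfl, map_mul, map_mul,
      map_inv, hdk, hk]
  refine ⟨d * u * d⁻¹, ⟨hdu, by rw [hπ]; exact X.S.D_le X.hcard (X.S.t_mem_D X.hcard), ?_⟩, hπ,
    hcu.trans (isConj_iff.2 ⟨d, rfl⟩)⟩
  calc d * u * d⁻¹ * (d * u * d⁻¹) = d * (u * u) * d⁻¹ := by group
    _ = 1 := by rw [huu]; group

theorem zl_zt {m : ↥Cfsg.Spor.M22} (hm : m ∈ X.S.E) (h1 : m ≠ 1) : IsConj z (X.zl m) := by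
  obtain ⟨c, hc, hct, hzc⟩ := X.exists_zt_lift hG
  have ht1 : X.S.t ≠ 1 := fun e => by have := X.S.ht; rw [e, orderOf_one] at this; omega
  obtain ⟨d, hd, h⟩ := X.exists_move_lift (X.S.D_le X.hcard (X.S.t_mem_D X.hcard)) ht1 hm h1
  obtain ⟨⟨hc', hπ⟩, -⟩ := h c hc hct
  have hz : IsConj z (d * c * d⁻¹) := hzc.trans (isConj_iff.2 ⟨d, rfl⟩)
  rw [zl, if_neg h1]
  split_ifs with hl
  · exact hl
  · rcases X.lift_cases (X.lf_mem hm) hc' ((X.lf_pi hm).trans hπ.symm) with e | e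
    · exact absurd (e ▸ hz) hl
    · exact e ▸ hz

theorem zt_z_move {m n : ↥Cfsg.Spor.M22} (hm : m ∈ X.S.E) (hm1 : m ≠ 1) (hn : n ∈ X.S.E) (hn1 : n ≠ 1)
    (h : IsConj z (X.zl m * z)) : IsConj z (X.zl n * z) := by
  obtain ⟨d, hd, hmove⟩ := X.exists_move_lift hm hm1 hn hn1
  obtain ⟨⟨hc', hπ⟩, -⟩ := hmove _ (X.zl_mem hm) (X.zl_pi hm)
  have hz : IsConj z (d * X.zl m * d⁻¹) := (X.zl_zt hG hm hm1).trans (isConj_iff.2 ⟨d, rfl⟩)
  rcases X.zl_cases hn hc' hπ with e | e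
  · refine h.trans (isConj_iff.2 ⟨d, ?_⟩)
    calc d * (X.zl m * z) * d⁻¹ = d * X.zl m * d⁻¹ * (d * z * d⁻¹) := by group
      _ = _ := by rw [e, mem_HH.1 (X.NC_le_HH hd), mul_inv_cancel_right]
  · exact e ▸ hz

theorem zt_off_move {m n : ↥Cfsg.Spor.M22} (hm : m ∈ X.S.E) (hm1 : m ≠ 1) (hn : n ∈ X.S.E) (hn1 : n ≠ 1)
    {y y' : G} (hy : y ∈ preV X.L.J X.WV) (hy' : y' ∈ preV X.L.J X.WV) (hyR : vk z y ∉ X.RR m)
    (hyR' : vk z y' ∉ X.RR n) (h : IsConj z (X.zl m * y)) : IsConj z (X.zl n * y') := by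
  obtain ⟨d, hd, hmove⟩ := X.exists_move_lift hm hm1 hn hn1
  obtain ⟨⟨hc', hπ⟩, hline⟩ := hmove _ (X.zl_mem hm) (X.zl_pi hm)
  obtain ⟨hw, hiff⟩ := hline y hy
  have hz : IsConj z (d * X.zl m * d⁻¹ * (d * y * d⁻¹)) :=
    h.trans (isConj_iff.2 ⟨d, by group⟩)
  have fin : ∀ y'' : G, y'' ∈ preV X.L.J X.WV → vk z y'' ∉ X.RR n → IsConj z (X.zl n * y'') →
      IsConj z (X.zl n * y') := fun y'' a b c =>
    c.trans (Hc.isConj X (X.coset_off (X.zl_mem hn) (X.zl_pi hn) hn1 a hy' b hyR'))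
  rcases X.zl_cases hn hc' hπ with e | e
  · exact fin _ hw (fun h' => hyR (hiff.1 h')) (e ▸ hz)
  · refine fin (d * y * d⁻¹ * z) (X.mul_z_mem_preW hw) (fun h' => hyR (hiff.1 ?_)) ?_
    · rwa [X.vk_mul_z hw.1] at h'
    · rw [e, mul_assoc] at hz
      rwa [X.L.J.ctr.comm hw.1]

set_option maxHeartbeats 1000000 in
open _root_.Classical in
/-- The count, in terms of four truth values. -/
theorem count_zt : ∃ a3 a5 b d : Prop,
    {v | v ∈ X.std ∧ IsConj z v}.ncard = 1 + 2 * ((if a3 then 45 else 0) + (if a5 then 18 else 0)) +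
      15 * ((if b then 32 else 16) + if d then 96 else 0) ∧
    (∀ y ∈ preV X.L.J X.WV, vk z y ≠ 0 → X.deg (vk z y) = 3 → (IsConj z y ↔ a3)) ∧
    (∀ y ∈ preV X.L.J X.WV, vk z y ∈ X.five → (IsConj z y ↔ a5)) ∧
    (∀ m ∈ X.S.E, m ≠ 1 → (IsConj z (X.zl m * z) ↔ b) ∧
      ∀ y ∈ preV X.L.J X.WV, vk z y ∉ X.RR m → (IsConj z (X.zl m * y) ↔ d)) := by
  haveI := Fintype.ofFinite G
  haveI := Fintype.ofFinite (VV z)
  haveI := Fintype.ofFinite ↥Cfsg.Spor.M22
  have hJ := X.L.J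
  have htE : X.S.t ∈ X.S.E := X.S.D_le X.hcard (X.S.t_mem_D X.hcard)
  have ht1 : X.S.t ≠ 1 := fun e => by have := X.S.ht; rw [e, orderOf_one] at this; omega
  let a3 : Prop := ∀ y ∈ preV X.L.J X.WV, vk z y ≠ 0 → X.deg (vk z y) = 3 → IsConj z y
  let a5 : Prop := ∀ y ∈ preV X.L.J X.WV, vk z y ∈ X.five → IsConj z y
  let b : Prop := IsConj z (X.zl X.S.t * z)
  let d : Prop := ∀ y ∈ preV X.L.J X.WV, vk z y ∉ X.RR X.S.t → IsConj z (X.zl X.S.t * y)
  have ha3 : ∀ y ∈ preV X.L.J X.WV, vk z y ≠ 0 → X.deg (vk z y) = 3 → (IsConj z y ↔ a3) :=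
    fun y hy h0 h3 => ⟨fun h x hx hx0 hx3 => h.trans (Hc.isConj X (X.three_Hc hy hx h0 h3 hx0 hx3)),
      fun h => h y hy h0 h3⟩
  have ha5 : ∀ y ∈ preV X.L.J X.WV, vk z y ∈ X.five → (IsConj z y ↔ a5) :=
    fun y hy h5 => ⟨fun h x hx hx5 => h.trans (Hc.isConj X (X.five_Hc hy hx h5 hx5)), fun h => h y hy h5⟩
  obtain ⟨y0, hy0, hy0R⟩ : ∃ y ∈ preV X.L.J X.WV, vk z y ∉ X.RR X.S.t := by
    by_contra hcon
    push Not at hcon
    have hle : X.WV ≤ X.RR X.S.t := fun v hv => by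
      obtain ⟨y, hy, rfl⟩ := vk_surj v
      exact hcon y ⟨hy, hv⟩
    have h2 := AddSubgroup.card_le_of_le hle
    rw [X.card_WV.1, X.card_RR htE ht1] at h2
    norm_num at h2
  have hbd : ∀ m ∈ X.S.E, m ≠ 1 → (IsConj z (X.zl m * z) ↔ b) ∧
      ∀ y ∈ preV X.L.J X.WV, vk z y ∉ X.RR m → (IsConj z (X.zl m * y) ↔ d) := fun m hm hm1 =>
    ⟨⟨X.zt_z_move hG hm hm1 htE ht1, X.zt_z_move hG htE ht1 hm hm1⟩, fun y hy hyR =>
      ⟨fun h x hx hxR => X.zt_off_move hG hm hm1 htE ht1 hy hx hyR hxR h,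
        fun h => X.zt_off_move hG htE ht1 hm hm1 hy0 hy hy0R hyR (h y0 hy0 hy0R)⟩⟩
  refine ⟨a3, a5, b, d, ?_, ha3, ha5, hbd⟩
  rw [X.card_std_split (IsConj z)]
  set W64 := (Set.toFinite (X.WV : Set (VV z))).toFinset with hW64
  have hWm : ∀ v, v ∈ W64 ↔ v ∈ X.WV := fun v => Set.Finite.mem_toFinset _
  have h64 : W64.card = 64 := by
    rw [hW64, ← Set.ncard_eq_toFinset_card, ← Nat.card_coe_set_eq]
    exact X.card_WV.1.trans (by norm_num)
  have hout : ∀ m ∈ X.S.E, m ≠ 1 → {y | y ∈ preV X.L.J X.WV ∧ IsConj z (X.zl m * y)}.ncard = (if b then 32 else 16) + if d then 96 else 0 := by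
    intro m hm hm1
    rw [X.card_fib (fun y => IsConj z (X.zl m * y))
      (fun v => if v ∈ X.RR m then (if b then 2 else 1) else (if d then 2 else 0))]
    · have h1 : (W64.filter fun v => v ∈ X.RR m).card = 16 := by
        rw [← X.card_RR hm hm1, ← Set.ncard_coe_finset]
        exact (Nat.card_coe_set_eq _).symm.trans (Nat.card_congr (Equiv.subtypeEquivRight fun v => by
          simp only [Finset.coe_filter, hWm]
          exact ⟨fun h => h.2, fun h => ⟨X.RR_le_WV hm h, h⟩⟩))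
      have h2 := Finset.card_filter_add_card_filter_not (s := W64) (fun v => v ∈ X.RR m)
      rw [h1, h64] at h2
      rw [Finset.sum_ite, Finset.sum_const, Finset.sum_const, h1, smul_eq_mul, smul_eq_mul,
        show (W64.filter fun v => ¬ v ∈ X.RR m).card = 48 by omega]
      split_ifs <;> rfl
    · intro y hy
      have hyz := X.mul_z_mem_preW hy
      have evk := X.vk_mul_z hy.1
      by_cases hR : vk z y ∈ X.RR m
      · rw [if_pos hR]
        have hb := (hbd m hm hm1).1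
        have hzt := X.zl_zt hG hm hm1
        have hzz : X.zl m * z * z = X.zl m := by rw [mul_assoc, hJ.ctr.zz, mul_one]
        rcases X.coset_on (X.zl_mem hm) (X.zl_pi hm) hy hR with h | h
        · have h' := Hc.mul_z X h
          rw [mul_assoc (X.zl m) y z] at h'
          rw [if_pos ((Hc.zt X h).1 hzt)]
          by_cases hbb : b
          · rw [if_pos hbb, if_pos ((Hc.zt X h').1 (hb.2 hbb))]
          · rw [if_neg hbb, if_neg fun hh => hbb (hb.1 ((Hc.zt X h').2 hh))]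
        · have h' := Hc.mul_z X h
          rw [mul_assoc (X.zl m) y z, hzz] at h'
          rw [if_pos ((Hc.zt X h').1 hzt)]
          by_cases hbb : b
          · rw [if_pos hbb, if_pos ((Hc.zt X h).1 (hb.2 hbb))]
          · rw [if_neg hbb, if_neg fun hh => hbb (hb.1 ((Hc.zt X h).2 hh))]
      · rw [if_neg hR]
        have hR' : vk z (y * z) ∉ X.RR m := by rwa [evk]
        have e1 := (hbd m hm hm1).2 y hy hR
        have e2 := (hbd m hm hm1).2 _ hyz hR'
        by_cases hd : d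
        · rw [if_pos hd, if_pos (e1.2 hd), if_pos (e2.2 hd)]
        · rw [if_neg hd, if_neg (fun h => hd (e1.1 h)), if_neg (fun h => hd (e2.1 h))]
  set L := (Set.toFinite (X.S.E : Set ↥Cfsg.Spor.M22)).toFinset with hL
  have hLm : ∀ m, m ∈ L ↔ m ∈ X.S.E := fun m => Set.Finite.mem_toFinset _
  have h1L : (1 : ↥Cfsg.Spor.M22) ∈ L := (hLm 1).2 (one_mem _)
  have hLc : L.card = 16 := by
    rw [hL, ← Set.ncard_eq_toFinset_card, ← Nat.card_coe_set_eq]
    exact X.S.card_E X.hcard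
  rw [← Finset.add_sum_erase L _ h1L, Finset.sum_congr rfl (fun m hm => hout m
    ((hLm m).1 (Finset.mem_of_mem_erase hm)) (Finset.ne_of_mem_erase hm)), Finset.sum_const,
    Finset.card_erase_of_mem h1L, hLc, smul_eq_mul]
  congr 1
  rotate_left
  · by_cases hbb : b <;> by_cases hdd : d <;> simp [hbb, hdd]
  simp only [X.zl_one, one_mul]
  rw [X.card_fib (fun y => IsConj z y)
    (fun v => if v = 0 then 1 else if X.deg v = 5 then (if a5 then 2 else 0) else (if a3 then 2 else 0))]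
  · have hfive : ((W64.erase 0).filter fun v => X.deg v = 5).card = 18 := by
      rw [← X.five_ncard, ← Set.ncard_coe_finset]
      congr 1
      ext v
      simp only [Finset.coe_filter, Finset.mem_erase, hWm]
      exact ⟨fun h => ⟨h.1.2, h.1.1, h.2⟩, fun h => ⟨⟨h.2.1, h.1⟩, h.2.2⟩⟩
    have h2 := Finset.card_filter_add_card_filter_not (s := W64.erase 0) (fun v => X.deg v = 5)
    have h0 : (0 : VV z) ∈ W64 := (hWm 0).2 (zero_mem _)
    rw [hfive, Finset.card_erase_of_mem h0, h64] at h2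
    rw [← Finset.add_sum_erase W64 _ h0, if_pos rfl,
      Finset.sum_congr rfl (fun v hv => if_neg (Finset.ne_of_mem_erase hv)),
      Finset.sum_ite, Finset.sum_const, Finset.sum_const, hfive, smul_eq_mul, smul_eq_mul,
      show ((W64.erase 0).filter fun v => ¬ X.deg v = 5).card = 45 by omega]
    split_ifs <;> rfl
  · intro y hy
    have hyz := X.mul_z_mem_preW hy
    have evk := X.vk_mul_z hy.1
    by_cases h0 : vk z y = 0
    · rw [if_pos h0]
      have hn1 : ¬ IsConj z (1 : G) := fun h => by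
        obtain ⟨g, hg⟩ := isConj_iff.1 h
        exact hJ.ctr.ne_one (conj_eq_one_iff.1 hg)
      rcases hJ.mem_zpowers ((vk_eq_zero_iff hJ hy.1).1 h0) with rfl | rfl
      · rw [one_mul, if_neg hn1, if_pos (IsConj.refl z)]
      · rw [hJ.ctr.zz, if_neg hn1, if_pos (IsConj.refl y)]
    rw [if_neg h0]
    rcases X.deg_cases hy.2 h0 with h3 | h5
    · rw [if_neg (show ¬ X.deg (vk z y) = 5 by omega)]
      have e1 := ha3 y hy h0 h3
      have e2 := ha3 _ hyz (by rw [evk]; exact h0) (by rw [evk]; exact h3)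
      by_cases ha : a3
      · rw [if_pos ha, if_pos (e1.2 ha), if_pos (e2.2 ha)]
      · rw [if_neg ha, if_neg (fun h => ha (e1.1 h)), if_neg (fun h => ha (e2.1 h))]
    · rw [if_pos h5]
      have e1 := ha5 y hy ⟨hy.2, h0, h5⟩
      have e2 := ha5 _ hyz ⟨hyz.2, by rw [evk]; exact h0, by rw [evk]; exact h5⟩
      by_cases ha : a5
      · rw [if_pos ha, if_pos (e1.2 ha), if_pos (e2.2 ha)]
      · rw [if_neg ha, if_neg (fun h => ha (e1.1 h)), if_neg (fun h => ha (e2.1 h))]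

end Cfsg.Agent.J4Eleven.Chart
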