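import Cfsg.Agent.Lib.J4V.Lines

/-!
# Janko four type: the degrees of the points of the fixed space

A point lies on three or on five of the fifteen lines; eighteen vectors are of degree five, six on each line.
-/

set_option autoImplicit false
set_option linter.style.haveILetI false
set_option linter.unusedSectionVars false

namespace Cfsg.Agent.J4Eleven.Chart

open Subgroup
open Cfsg.Agent.J4Local
open Cfsg.Agent.M22Order (Setup)

universe u

variable {G : Type u} [Group G] [Finite G] {z : G} {P : Subgroup G} (X : Chart z P)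

/-- The lines through a vector. -/
def linesAt (w : VV z) : Set ↥Cfsg.Spor.M22 := {m | m ∈ X.S.E ∧ m ≠ 1 ∧ w ∈ X.RR m}

/-- The number of lines through a vector. -/
noncomputable def deg (w : VV z) : ℕ := (X.linesAt w).ncard

/-- The vectors of degree five. -/
def five : Set (VV z) := {w | w ∈ X.WV ∧ w ≠ 0 ∧ X.deg w = 5}

theorem linesAt_conj_mem {d : G} (hd : d ∈ CC z P) (hn : X.π ⟨d, hd⟩ ∈ X.NS) {w : VV z}
    {m : ↥Cfsg.Spor.M22} (hm : m ∈ X.linesAt w) :
    X.π ⟨d, hd⟩ * m * (X.π ⟨d, hd⟩)⁻¹ ∈ X.linesAt (act z d w) :=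
  ⟨M22Order.conj_mem_of_mem_normalizer hn hm.1, fun e => hm.2.1 (by simpa using e), X.RR_conj hd hn hm.1 hm.2.2⟩

theorem linesAt_conj {d : G} (hd : d ∈ CC z P) (hn : X.π ⟨d, hd⟩ ∈ X.NS) (w : VV z) :
    X.linesAt (act z d w) = (fun m => X.π ⟨d, hd⟩ * m * (X.π ⟨d, hd⟩)⁻¹) '' X.linesAt w := by
  refine Set.Subset.antisymm (fun m hm => ?_) (by rintro _ ⟨m, hm, rfl⟩; exact X.linesAt_conj_mem hd hn hm)
  have hi : X.π ⟨d⁻¹, inv_mem hd⟩ = (X.π ⟨d, hd⟩)⁻¹ := map_inv X.π ⟨d, hd⟩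
  have h := X.linesAt_conj_mem (inv_mem hd) (hi ▸ inv_mem hn) hm
  rw [act_inv_act hd.1, hi] at h
  exact ⟨_, h, by group⟩

theorem deg_conj {d : G} (hd : d ∈ X.NC) (w : VV z) : X.deg (act z d w) = X.deg w := by
  obtain ⟨hdC, hn⟩ := X.mem_NC.1 hd
  rw [deg, deg, X.linesAt_conj hdC hn, Set.ncard_image_of_injective]
  exact fun a b e => mul_left_cancel (mul_right_cancel e)

theorem five_conj {d : G} (hd : d ∈ X.NC) {w : VV z} (hw : w ∈ X.five) : act z d w ∈ X.five :=
  ⟨X.NC_WV hd hw.1, fun e => hw.2.1 (act_injective (X.NC_le_HH hd) (e.trans (map_zero _).symm)),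
    (X.deg_conj hd w).trans hw.2.2⟩

include X in
/-- A set of non-zero vectors invariant under `P` is three times as large as its set of points. -/
theorem card_eq_three_mul (s : Finset (VV z)) [DecidableEq (AddSubgroup (VV z))] (h0 : (0 : VV z) ∉ s)
    (hs : ∀ w ∈ s, act z X.pp w ∈ s) : s.card = 3 * (s.image X.ln).card := by
  classical
  haveI := Fintype.ofFinite (VV z)
  have key : ∀ L ∈ s.image X.ln, (s.filter fun v => X.ln v = L).card = 3 := by
    intro L hL
    obtain ⟨w, hw, rfl⟩ := Finset.mem_image.1 hL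
    have hw0 : w ≠ 0 := fun e => h0 (e ▸ hw)
    have e : (s.filter fun v => X.ln v = X.ln w) =
        (Finset.univ.filter fun v => v ∈ X.ln w).erase 0 := by
      ext v
      simp only [Finset.mem_filter, Finset.mem_erase, Finset.mem_univ, true_and]
      constructor
      · rintro ⟨hv, e⟩
        exact ⟨fun e' => h0 (e' ▸ hv), e ▸ self_mem_line _ _ _⟩
      · rintro ⟨hv0, hv⟩
        refine ⟨?_, X.ln_eq hv hv0⟩
        rcases (mem_line X.L.J).1 hv with rfl | rfl | rfl | rfl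
        · exact absurd rfl hv0
        · exact hw
        · exact hs _ hw
        · have := hs _ (hs _ hw)
          rwa [act_act X.L.J X.pp_mem X.pp_ne] at this
    rw [e, Finset.card_erase_of_mem (by simp [zero_mem]), ← Fintype.card_subtype, ← Nat.card_eq_fintype_card]
    exact congrArg (· - 1) (X.card_ln hw0)
  rw [Finset.card_eq_sum_card_image X.ln s, Finset.sum_congr rfl key]
  simp [mul_comm]

include X in
theorem three_dvd_card (s : Finset (VV z)) (h0 : (0 : VV z) ∉ s) (hs : ∀ w ∈ s, act z X.pp w ∈ s) :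
    3 ∣ s.card := by
  classical
  exact ⟨_, X.card_eq_three_mul s h0 hs⟩

theorem deg_le {w : VV z} (hw : w ∈ X.WV) (hw0 : w ≠ 0) : X.deg w ≤ 5 := by
  classical
  haveI := Fintype.ofFinite (VV z)
  haveI := Fintype.ofFinite ↥Cfsg.Spor.M22
  set L := (Set.toFinite (X.linesAt w)).toFinset with hL
  have hLm : ∀ m ∈ L, m ∈ X.linesAt w := fun m hm => (Set.Finite.mem_toFinset _).1 hm
  let F : ↥Cfsg.Spor.M22 → Finset (VV z) := fun m =>
    Finset.univ.filter (fun v => v ∈ X.RR m) \ Finset.univ.filter (fun v => v ∈ X.ln w)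
  have hF : ∀ m ∈ L, (F m).card = 12 := fun m hm => by
    obtain ⟨hmE, hm1, hwm⟩ := hLm m hm
    rw [Finset.card_sdiff_of_subset (fun v hv => by
      simp only [Finset.mem_filter, Finset.mem_univ, true_and] at hv ⊢
      exact X.ln_le (fun x hx => X.RR_act_P hmE hx) hwm hv),
      ← Fintype.card_subtype, ← Fintype.card_subtype, ← Nat.card_eq_fintype_card, ← Nat.card_eq_fintype_card]
    show Nat.card ↥(X.RR m) - Nat.card ↥(X.ln w) = 12
    rw [X.card_RR hmE hm1, X.card_ln hw0]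
  have hdis : (L : Set ↥Cfsg.Spor.M22).PairwiseDisjoint F := by
    intro m hm n hn hne
    obtain ⟨hmE, hm1, hwm⟩ := hLm m hm
    obtain ⟨hnE, hn1, hwn⟩ := hLm n hn
    refine Finset.disjoint_left.2 fun v hv hv' => ?_
    simp only [F, Finset.mem_sdiff, Finset.mem_filter, Finset.mem_univ, true_and] at hv hv'
    exact hv.2 (X.RR_inter hmE hnE hm1 hn1 hne hw0 hwm hwn ▸ ⟨hv.1, hv'.1⟩)
  have hsub : L.biUnion F ⊆ Finset.univ.filter (fun v => v ∈ X.WV) \ Finset.univ.filter (fun v => v ∈ X.ln w) := by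
    intro v hv
    obtain ⟨m, hm, hv⟩ := Finset.mem_biUnion.1 hv
    simp only [F, Finset.mem_sdiff, Finset.mem_filter, Finset.mem_univ, true_and] at hv ⊢
    exact ⟨X.RR_le_WV (hLm m hm).1 hv.1, hv.2⟩
  have hcard := Finset.card_le_card hsub
  rw [Finset.card_biUnion hdis, Finset.sum_congr rfl hF, Finset.sum_const, smul_eq_mul,
    Finset.card_sdiff_of_subset (fun v hv => by
      simp only [Finset.mem_filter, Finset.mem_univ, true_and] at hv ⊢
      exact X.ln_le (fun x hx => X.act_P_WV X.pp_mem hx) hw hv),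
    ← Fintype.card_subtype, ← Fintype.card_subtype, ← Nat.card_eq_fintype_card, ← Nat.card_eq_fintype_card] at hcard
  have h64 : Nat.card {v // v ∈ X.WV} = 64 := X.card_WV.1.trans (by norm_num)
  have h4 : Nat.card {v // v ∈ X.ln w} = 4 := X.card_ln hw0
  rw [h64, h4] at hcard
  rw [deg, Set.ncard_eq_toFinset_card _ (Set.toFinite _), ← hL]
  omega

theorem arith {n0 n1 n2 n3 n4 n5 b1 b2 b3 b4 b5 : ℕ} (e1 : 1 * n1 = 15 * b1) (e2 : 2 * n2 = 15 * b2)
    (e3 : 3 * n3 = 15 * b3) (e4 : 4 * n4 = 15 * b4) (e5 : 5 * n5 = 15 * b5)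
    (hs : n0 + n1 + n2 + n3 + n4 + n5 = 63) (hb : b1 + b2 + b3 + b4 + b5 = 15)
    (hd : b1 + 2 * b2 + 3 * b3 + 4 * b4 + 5 * b5 = 57) (h1 : 3 ∣ b1) (h2 : 3 ∣ b2) (h3 : 3 ∣ b3) (h4 : 3 ∣ b4)
    (h5 : 3 ∣ b5) (h0 : n0 ≠ 3) : b5 = 6 ∧ n5 = 18 ∧ n0 = 0 ∧ n1 = 0 ∧ n2 = 0 ∧ n4 = 0 := by
  obtain ⟨a1, rfl⟩ := h1; obtain ⟨a2, rfl⟩ := h2; obtain ⟨a3, rfl⟩ := h3
  obtain ⟨a4, rfl⟩ := h4; obtain ⟨a5, rfl⟩ := h5
  obtain rfl : a1 = 0 := by omega
  obtain rfl : a2 = 0 := by omega
  obtain rfl : a4 = 0 := by omega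
  omega

/-- The two classes of points. -/
theorem degree_facts :
    (∀ w ∈ X.WV, w ≠ 0 → X.deg w = 3 ∨ X.deg w = 5) ∧ X.five.ncard = 18 ∧
      ∀ m ∈ X.S.E, m ≠ 1 → {w | w ∈ X.RR m ∧ w ∈ X.five}.ncard = 6 := by
  classical
  haveI := Fintype.ofFinite (VV z)
  haveI := Fintype.ofFinite ↥Cfsg.Spor.M22
  set L := Finset.univ.filter fun m : ↥Cfsg.Spor.M22 => m ∈ X.S.E ∧ m ≠ 1 with hL
  set W := Finset.univ.filter fun v : VV z => v ∈ X.WV ∧ v ≠ 0 with hW
  have hWc : W.card = 63 := by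
    have e : W = (Finset.univ.filter fun v : VV z => v ∈ X.WV).erase 0 := by
      ext v; simp [hW, and_comm]
    rw [e, Finset.card_erase_of_mem (by simp [zero_mem]), ← Fintype.card_subtype, ← Nat.card_eq_fintype_card,
      show Nat.card {v // v ∈ X.WV} = 64 from X.card_WV.1.trans (by norm_num)]
  have hLc : L.card = 15 := by
    have e : L = (Finset.univ.filter fun m : ↥Cfsg.Spor.M22 => m ∈ X.S.E).erase 1 := by
      ext v; simp [hL, and_comm]
    rw [e, Finset.card_erase_of_mem (by simp [one_mem]), ← Fintype.card_subtype, ← Nat.card_eq_fintype_card,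
      show Nat.card {m // m ∈ X.S.E} = 16 from X.S.card_E X.hcard]
  let Rm : ↥Cfsg.Spor.M22 → Finset (VV z) := fun m => W.filter fun v => v ∈ X.RR m
  have hdeg : ∀ v, X.deg v = (L.filter fun m => v ∈ X.RR m).card := fun v => by
    rw [deg, ← Set.ncard_coe_finset]
    congr 1
    ext m
    simp [linesAt, hL, and_assoc]
  have hdle : ∀ v ∈ W, X.deg v ≤ 5 := fun v hv => by
    simp only [hW, Finset.mem_filter, Finset.mem_univ, true_and] at hv
    exact X.deg_le hv.1 hv.2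
  have hRc : ∀ m ∈ L, (Rm m).card = 15 := fun m hm => by
    simp only [hL, Finset.mem_filter, Finset.mem_univ, true_and] at hm
    have e : Rm m = (Finset.univ.filter fun v : VV z => v ∈ X.RR m).erase 0 := by
      ext v
      simp only [Rm, hW, Finset.mem_filter, Finset.mem_erase, Finset.mem_univ, true_and]
      exact ⟨fun h => ⟨h.1.2, h.2⟩, fun h => ⟨⟨X.RR_le_WV hm.1 h.2, h.1⟩, h.2⟩⟩
    rw [e, Finset.card_erase_of_mem (by simp [zero_mem]), ← Fintype.card_subtype, ← Nat.card_eq_fintype_card,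
      show Nat.card {v // v ∈ X.RR m} = 16 from X.card_RR hm.1 hm.2]
  -- the sum of the degrees on a line
  have hsum : ∀ m ∈ L, ∑ v ∈ Rm m, X.deg v = 57 := fun m hm => by
    have hm' : m ∈ X.S.E ∧ m ≠ 1 := by simpa [hL] using hm
    simp only [hdeg, Finset.card_filter]
    rw [Finset.sum_comm, ← Finset.add_sum_erase L _ hm]
    simp only [← Finset.card_filter]
    have h1 : (Rm m).filter (fun v => v ∈ X.RR m) = Rm m := by
      ext v; simp [Rm]
    rw [h1, hRc m hm]
    have h3 : ∀ n ∈ L.erase m, ((Rm m).filter fun v => v ∈ X.RR n).card = 3 := fun n hn => by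
      obtain ⟨hne, hn'⟩ := Finset.mem_erase.1 hn
      have hn'' : n ∈ X.S.E ∧ n ≠ 1 := by simpa [hL] using hn'
      have e : ((Rm m).filter fun v => v ∈ X.RR n) =
          (Finset.univ.filter fun v : VV z => v ∈ X.RR m ⊓ X.RR n).erase 0 := by
        ext v
        simp only [Rm, hW, Finset.mem_filter, Finset.mem_erase, Finset.mem_univ, true_and, AddSubgroup.mem_inf]
        exact ⟨fun h => ⟨h.1.1.2, h.1.2, h.2⟩, fun h => ⟨⟨⟨X.RR_le_WV hm'.1 h.2.1, h.1⟩, h.2.1⟩, h.2.2⟩⟩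
      rw [e, Finset.card_erase_of_mem (by simp [zero_mem]), ← Fintype.card_subtype, ← Nat.card_eq_fintype_card,
        show Nat.card {v // v ∈ X.RR m ⊓ X.RR n} = 4 from
          (X.RR_pair hm'.1 hn''.1 hm'.2 hn''.2 (Ne.symm hne)).2]
    rw [Finset.sum_congr rfl h3, Finset.sum_const, Finset.card_erase_of_mem hm, hLc, smul_eq_mul]
  let b : ↥Cfsg.Spor.M22 → ℕ → ℕ := fun m i => ((Rm m).filter fun v => X.deg v = i).card
  have hle : ∀ m ∈ L, ∀ n ∈ L, ∀ i, b m i ≤ b n i := fun m hm n hn i => by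
    simp only [hL, Finset.mem_filter, Finset.mem_univ, true_and] at hm hn
    obtain ⟨k, hk, hkm⟩ := X.S.trans X.hcard hm.1 hm.2
    obtain ⟨k', hk', hkn⟩ := X.S.trans X.hcard hn.1 hn.2
    obtain ⟨d, hd, hdN, hdk⟩ := X.exists_NC (mul_mem hk' (inv_mem hk))
    refine Finset.card_le_card_of_injOn (act z d) (fun v hv => ?_) (act_injective hd.1).injOn
    simp only [Finset.mem_coe, Rm, hW, Finset.mem_filter, Finset.mem_univ, true_and] at hv ⊢
    have h := X.RR_conj hd (hdk ▸ mul_mem hk' (inv_mem hk)) hm.1 hv.1.2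
    rw [hdk, show k' * k⁻¹ * m * (k' * k⁻¹)⁻¹ = n by rw [← hkm, ← hkn]; group] at h
    exact ⟨⟨⟨X.NC_WV hdN hv.1.1.1, fun e => hv.1.1.2 (act_injective hd.1 (e.trans (map_zero _).symm))⟩, h⟩,
      (X.deg_conj hdN v).trans hv.2⟩
  obtain ⟨m₀, hm₀⟩ : L.Nonempty := Finset.card_pos.1 (by omega)
  let Ni : ℕ → ℕ := fun i => (W.filter fun v => X.deg v = i).card
  have hN : ∀ i, i * Ni i = 15 * b m₀ i := fun i => by
    have h1 : ∑ v ∈ W.filter (fun v => X.deg v = i), X.deg v = i * Ni i := by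
      rw [Finset.sum_congr rfl (fun v hv => (Finset.mem_filter.1 hv).2), Finset.sum_const, smul_eq_mul, mul_comm]
    have h2 : ∑ m ∈ L, b m i = 15 * b m₀ i := by
      rw [Finset.sum_congr rfl (fun m hm => le_antisymm (hle m hm m₀ hm₀ i) (hle m₀ hm₀ m hm i)),
        Finset.sum_const, hLc, smul_eq_mul]
    rw [← h1, ← h2]
    simp only [hdeg, Finset.card_filter, b, Rm]
    rw [Finset.sum_comm]
    refine Finset.sum_congr rfl fun m _ => ?_
    simp only [Finset.sum_filter]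
    refine Finset.sum_congr rfl fun v _ => ?_
    split_ifs <;> rfl
  have hsplit : Ni 0 + Ni 1 + Ni 2 + Ni 3 + Ni 4 + Ni 5 = 63 := by
    have h := Finset.card_eq_sum_card_fiberwise (f := X.deg) (s := W) (t := Finset.range 6)
      fun v hv => Finset.mem_range.2 (Nat.lt_succ_of_le (hdle v hv))
    rw [hWc] at h
    simpa [Finset.sum_range_succ, Ni] using h.symm
  have hRW : Rm m₀ ⊆ W := Finset.filter_subset _ _
  have hbsum : b m₀ 1 + b m₀ 2 + b m₀ 3 + b m₀ 4 + b m₀ 5 = 15 := by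
    have h := Finset.card_eq_sum_card_fiberwise (f := X.deg) (s := Rm m₀) (t := Finset.range 6)
      fun v hv => Finset.mem_range.2 (Nat.lt_succ_of_le (hdle v (hRW hv)))
    rw [hRc m₀ hm₀] at h
    have h0 : ((Rm m₀).filter fun v => X.deg v = 0).card = 0 := by
      rw [Finset.card_eq_zero, Finset.filter_eq_empty_iff]
      intro v hv e
      rw [hdeg, Finset.card_eq_zero, Finset.filter_eq_empty_iff] at e
      exact e hm₀ (Finset.mem_filter.1 hv).2
    simpa [Finset.sum_range_succ, b, h0] using h.symm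
  have hbdeg : b m₀ 1 + 2 * b m₀ 2 + 3 * b m₀ 3 + 4 * b m₀ 4 + 5 * b m₀ 5 = 57 := by
    have h := Finset.sum_fiberwise_of_maps_to (g := X.deg) (s := Rm m₀) (t := Finset.range 6)
      (fun v hv => Finset.mem_range.2 (Nat.lt_succ_of_le (hdle v (hRW hv)))) X.deg
    rw [hsum m₀ hm₀, Finset.sum_congr rfl (fun i _ => by
      rw [Finset.sum_congr rfl (fun v hv => (Finset.mem_filter.1 hv).2), Finset.sum_const, smul_eq_mul])] at h
    simpa [Finset.sum_range_succ, b, mul_comm] using h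
  have h3 : ∀ i, 3 ∣ b m₀ i := fun i => by
    have hm : m₀ ∈ X.S.E ∧ m₀ ≠ 1 := by simpa [hL] using hm₀
    refine X.three_dvd_card _ (by simp [Rm, hW]) fun v hv => ?_
    simp only [Rm, hW, Finset.mem_filter, Finset.mem_univ, true_and] at hv ⊢
    exact ⟨⟨⟨X.act_P_WV X.pp_mem hv.1.1.1,
      fun e => hv.1.1.2 (act_injective (X.L.J.P_le_HH X.pp_mem) (e.trans (map_zero _).symm))⟩,
      X.RR_act_P hm.1 hv.1.2⟩, (X.deg_conj (X.P_le_NC X.pp_mem) v).trans hv.2⟩
  have hN0 : Ni 0 ≠ 3 := by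
    intro hc
    obtain ⟨w, hw⟩ := Finset.card_pos.1 (show 0 < Ni 0 by omega)
    simp only [hW, Finset.mem_filter, Finset.mem_univ, true_and] at hw
    obtain ⟨⟨hwW, hw0⟩, hwd⟩ := hw
    have hsub : (Finset.univ.filter fun v => v ∈ X.ln w).erase 0 ⊆ W.filter fun v => X.deg v = 0 := by
      intro v hv
      simp only [Finset.mem_erase, Finset.mem_filter, Finset.mem_univ, true_and, hW] at hv ⊢
      refine ⟨⟨X.ln_le (fun x hx => X.act_P_WV X.pp_mem hx) hwW hv.2, hv.1⟩, ?_⟩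
      have hp := X.P_le_NC X.pp_mem
      rcases (mem_line X.L.J).1 hv.2 with rfl | rfl | rfl | rfl
      · exact absurd rfl hv.1
      · exact hwd
      · rw [X.deg_conj hp, hwd]
      · rw [← act_act X.L.J X.pp_mem X.pp_ne, X.deg_conj hp, X.deg_conj hp, hwd]
    have e : (Finset.univ.filter fun v => v ∈ X.ln w).erase 0 = W.filter fun v => X.deg v = 0 := by
      refine Finset.eq_of_subset_of_card_le hsub ?_
      rw [Finset.card_erase_of_mem (by simp [zero_mem]), ← Fintype.card_subtype, ← Nat.card_eq_fintype_card,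
        show Nat.card {v // v ∈ X.ln w} = 4 from X.card_ln hw0]
      exact hc.le
    obtain ⟨T, hT, hT27, -, hab⟩ := X.exists_sylow_three
    obtain ⟨k, hk⟩ := X.card_cube hT hT27 hab (X.ln w) fun d hd v hv => by
      by_cases hv0 : v = 0
      · subst hv0; rw [map_zero]; exact zero_mem _
      have hdN : d ∈ X.NC := X.mem_NC.2 ⟨hT hd, X.S.P_le X.hcard (hab d hd (hT hd))⟩
      have hv' := Finset.mem_filter.1 (e ▸ (by simp [hv, hv0] :
        v ∈ (Finset.univ.filter fun v => v ∈ X.ln w).erase 0))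
      have : act z d v ∈ (Finset.univ.filter fun v => v ∈ X.ln w).erase 0 := by
        rw [e, Finset.mem_filter]
        refine ⟨?_, (X.deg_conj hdN v).trans hv'.2⟩
        have h := hv'.1
        simp only [hW, Finset.mem_filter, Finset.mem_univ, true_and] at h ⊢
        exact ⟨X.NC_WV hdN h.1, fun e' => h.2 (act_injective (hT hd).1 (e'.trans (map_zero _).symm))⟩
      simpa using (Finset.mem_erase.1 this).2
    rw [X.card_ln hw0] at hk
    rcases k with _ | k
    · norm_num at hk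
    · have : 64 ≤ 64 ^ (k + 1) := Nat.le_self_pow (by omega) 64
      omega
  have key : b m₀ 5 = 6 ∧ Ni 5 = 18 ∧ Ni 0 = 0 ∧ Ni 1 = 0 ∧ Ni 2 = 0 ∧ Ni 4 = 0 :=
    arith (hN 1) (hN 2) (hN 3) (hN 4) (hN 5) hsplit hbsum hbdeg (h3 1) (h3 2) (h3 3) (h3 4) (h3 5) hN0
  refine ⟨fun w hw hw0 => ?_, ?_, fun m hm hm1 => ?_⟩
  · have hwW : w ∈ W := by simp [hW, hw, hw0]
    have h5 := hdle w hwW
    have hpos : 0 < (W.filter fun v => X.deg v = X.deg w).card :=
      Finset.card_pos.2 ⟨w, Finset.mem_filter.2 ⟨hwW, rfl⟩⟩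
    have hne : ∀ i, X.deg w = i → Ni i ≠ 0 := fun i e => by
      simp only [Ni]
      rw [← e]
      omega
    have := hne 0; have := hne 1; have := hne 2; have := hne 4
    omega
  · rw [← key.2.1]
    simp only [Ni]
    rw [← Set.ncard_coe_finset]
    congr 1
    ext v
    simp [five, hW, and_assoc]
  · have hmL : m ∈ L := by simp [hL, hm, hm1]
    rw [← key.1, le_antisymm (hle m₀ hm₀ m hmL 5) (hle m hmL m₀ hm₀ 5)]
    simp only [b, Rm]
    rw [← Set.ncard_coe_finset]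
    congr 1
    ext v
    simp only [five, hW, Set.mem_setOf_eq, Finset.coe_filter, Finset.mem_filter, Finset.mem_univ, true_and]
    tauto

theorem five_ncard : X.five.ncard = 18 := X.degree_facts.2.1

theorem five_on_line {m : ↥Cfsg.Spor.M22} (hm : m ∈ X.S.E) (h1 : m ≠ 1) :
    {w | w ∈ X.RR m ∧ w ∈ X.five}.ncard = 6 := X.degree_facts.2.2 m hm h1

theorem deg_cases {w : VV z} (hw : w ∈ X.WV) (hw0 : w ≠ 0) : X.deg w = 3 ∨ X.deg w = 5 :=
  X.degree_facts.1 w hw hw0

end Cfsg.Agent.J4Eleven.Chart
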