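import Mathlib

/-!
Tables inside M22 of an elementary subgroup of order 16 and of an element of order 4 normalising it.
Produced by a search outside Lean; every entry is checked where it is used.
-/

set_option autoImplicit false

namespace Cfsg.Agent.J4V.FourData

/-- The elements of the elementary subgroup, the identity first. -/
def eL : List ℕ := [0xbdab49ca307b9ac5a928398a418820,
  0xbaeae9c1522d18db4464399e848820,
  0xbbaab9bda595a2aa310939a0320820,
  0xbb6aa9a1c44c6cb651f23987028820,
  0xbd2b69958f82d517348339a4940820,
  0xbcaa59d92b73d0480e2d39a8c50820,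
  0xba6a49c64a6a1e51c2ce3999458820,
  0xbbeb09b914b4923291b13996a60820,
  0xb96b29d08e5c0697a18a39ad168820,
  0xb92a99b0ad50e1243e8b39a3670820,
  0xbb2b1992881a9766b8b03993278820,
  0xbc6ac9a6c3435d452e4f3988580820,
  0xbc2af9ac76a14889254c399cd88820,
  0xbaaad98d692328e8da053990f90820,
  0xba2a39b5ec8a650215d63994ba0820,
  0xb8ea89aa11610af4c974399aeb0820]

/-- Elements normalising it and fixing its second element. -/
def nL : List ℕ := [0xba049339f458e12215aa3ced165420, 0xba430ac4aab48881be8c3096d71e60]

/-- The element of order four. -/
def cT : ℕ := 0xbb4ec328b65b88fa22499d63018440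

/-- An element moving its square into the subgroup. -/
def hT : ℕ := 0xba9c71d994aa1e484ccd2c56990820

/-- An element centralising its square. -/
def kT : ℕ := 0xb9ab29a424446cc5be8a8344728dc0

/-- The index of its fixed element. -/
def xI : ℕ := 9

/-- The index of the first factor. -/
def fI : ℕ := 12

/-- The index of an element moved by its square. -/
def mI : ℕ := 1

/-- The index of the conjugated square. -/
def sI : ℕ := 9

/-- The first factor. -/
def yT : ℕ := 0xbc0ea332364b892451ebaccad18820

end Cfsg.Agent.J4V.FourData
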