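import Cfsg.Agent.Lib.J4Eleven.Hexad
import Cfsg.Agent.Lib.Golay.M22Involution
import Cfsg.Agent.Lib.J4V.FourData

/-!
# An element of order four in the normaliser of an elementary subgroup of order 16 of M22

`exists_four`: for the subgroup `E` of a setup there are `c` of order dividing 4 normalising `E` and
fixing only `⟨x⟩` in it, and `h`, `k` with `h⁻¹c²h ∈ E`, `k` centralising `c²` and
`c = (h f h⁻¹)(k x k⁻¹)` with `f ∈ E`.
-/

set_option autoImplicit false
set_option maxRecDepth 20000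
set_option linter.style.haveILetI false

namespace Cfsg.Agent.J4V.Four

open Subgroup
open Cfsg Cfsg.Agent.Golay.Basic Cfsg.Agent.Golay.Cert Cfsg.Agent.Golay.TabList
open Cfsg.Agent.Golay.M24 Cfsg.Agent.Golay.M22Involution Cfsg.Agent.Golay.AutM22
open Cfsg.Agent.M22Order (Setup)

/-- A table of an element of M22. -/
def ok22 (t : ℕ) : Bool := tabOK t && canon t && Nat.beq (tabAt t 23) 23 && Nat.beq (tabAt t 0) 0

theorem tabPerm_mem22 {t : ℕ} (h : ok22 t = true) : tabPerm t ∈ Spor.M22 := by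
  simp only [ok22, Bool.and_eq_true] at h
  have ht := isTab_tabPerm h.1.1.1
  refine mem_M22.2 ⟨tabPerm_mem h.1.1.1, ?_, ?_⟩
  · rw [show ea = pt 23 by decide +kernel]
    exact ix_injective (by rw [ht, ix_pt (by norm_num), Nat.eq_of_beq_eq_true h.1.2])
  · rw [show eb = pt 0 by decide +kernel]
    exact ix_injective (by rw [ht, ix_pt (by norm_num), Nat.eq_of_beq_eq_true h.2])

/-- An element of M22 has a table. -/
def Has (t : ℕ) (g : ↥Spor.M22) : Prop := IsTab t (g : Equiv.Perm GolayPt)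

theorem exists_has {t : ℕ} (h : ok22 t = true) : ∃ g, Has t g := by
  refine ⟨⟨tabPerm t, tabPerm_mem22 h⟩, isTab_tabPerm ?_⟩
  simp only [ok22, Bool.and_eq_true] at h
  exact h.1.1.1

theorem Has.mul {a b : ℕ} {g h : ↥Spor.M22} (ha : Has a g) (hb : Has b h) :
    Has (mulTab a b) (g * h) := isTab_mul ha hb

theorem Has.one : Has idTab 1 := isTab_one

theorem Has.eq {t : ℕ} {g h : ↥Spor.M22} (hg : Has t g) (hh : Has t h) : g = h :=
  Subtype.ext (IsTab.unique hg hh)

theorem Has.eq_of {s t : ℕ} {g h : ↥Spor.M22} (hg : Has s g) (hh : Has t h)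
    (e : Nat.beq s t = true) : g = h := by
  rw [Nat.eq_of_beq_eq_true e] at hg
  exact hg.eq hh

/-- The table of an element of the elementary subgroup. -/
def eT (i : ℕ) : ℕ := FourData.eL.getD i idTab

/-- The table of a normalising element. -/
def nT (j : ℕ) : ℕ := FourData.nL.getD j idTab

/-- The checks on the subgroup. -/
def subOK : Bool :=
  Nat.beq (eT 0) idTab &&
  (List.range 16).all fun i => ok22 (eT i) && Nat.beq (mulTab (eT i) (eT i)) idTab &&
    (List.range 16).all fun j =>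
      (!Nat.beq (eT i) (eT j) || Nat.beq i j) &&
        (List.range 16).any fun l => Nat.beq (mulTab (eT i) (eT j)) (eT l)

theorem subOK_eq : subOK = true := by decide +kernel

/-- No group of order four through the second element is invariant. -/
def noFourOK : Bool :=
  ((List.range 2).all fun j => ok22 (nT j) &&
    Nat.beq (mulTab (nT j) (eT 1)) (mulTab (eT 1) (nT j)) &&
    (List.range 16).all fun i => (List.range 16).any fun l =>
      Nat.beq (mulTab (nT j) (eT i)) (mulTab (eT l) (nT j))) &&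
  (List.range 14).all fun i => (List.range 2).any fun j =>
    !Nat.beq (mulTab (nT j) (eT (i + 2))) (nT j) &&
    !Nat.beq (mulTab (nT j) (eT (i + 2))) (mulTab (eT 1) (nT j)) &&
    !Nat.beq (mulTab (nT j) (eT (i + 2))) (mulTab (eT (i + 2)) (nT j)) &&
    !Nat.beq (mulTab (nT j) (eT (i + 2))) (mulTab (mulTab (eT 1) (eT (i + 2))) (nT j))

theorem noFourOK_eq : noFourOK = true := by decide +kernel

/-- The checks on the element of order four. -/
def fourOK : Bool :=
  ok22 FourData.cT && ok22 FourData.hT && ok22 FourData.kT &&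
  Nat.blt FourData.xI 16 && Nat.blt FourData.fI 16 && Nat.blt FourData.mI 16 &&
  Nat.blt FourData.sI 16 && !Nat.beq FourData.xI 0 &&
  Nat.beq (mulTab (mulTab FourData.cT FourData.cT) (mulTab FourData.cT FourData.cT)) idTab &&
  ((List.range 16).all fun i =>
    ((List.range 16).any fun l =>
      Nat.beq (mulTab FourData.cT (eT i)) (mulTab (eT l) FourData.cT)) &&
    (!Nat.beq (mulTab FourData.cT (eT i)) (mulTab (eT i) FourData.cT) ||
      (Nat.beq i 0 || Nat.beq i FourData.xI))) &&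
  Nat.beq (mulTab FourData.cT (eT FourData.xI)) (mulTab (eT FourData.xI) FourData.cT) &&
  !Nat.beq (mulTab (mulTab FourData.cT FourData.cT) (eT FourData.mI))
      (mulTab (eT FourData.mI) (mulTab FourData.cT FourData.cT)) &&
  Nat.beq (mulTab (mulTab FourData.cT FourData.cT) FourData.hT)
    (mulTab FourData.hT (eT FourData.sI)) &&
  Nat.beq (mulTab FourData.kT (mulTab FourData.cT FourData.cT))
    (mulTab (mulTab FourData.cT FourData.cT) FourData.kT) &&
  ok22 FourData.yT &&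
  Nat.beq (mulTab FourData.yT FourData.hT) (mulTab FourData.hT (eT FourData.fI)) &&
  Nat.beq (mulTab FourData.cT FourData.kT)
    (mulTab (mulTab FourData.yT FourData.kT) (eT FourData.xI))

theorem fourOK_eq : fourOK = true := by decide +kernel

attribute [local irreducible] mulTab tabPerm tabOK canon eT nT ok22

theorem has_eT {i : ℕ} (hi : i < 16) : ∃ g, Has (eT i) g := by
  have h := subOK_eq
  simp only [subOK, Bool.and_eq_true, List.all_eq_true, List.mem_range] at h
  exact exists_has (h.2 i hi).1.1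

/-- The subgroup of the tables. -/
theorem exists_sub : ∃ B : Subgroup ↥Spor.M22,
    (∀ g, g ∈ B ↔ ∃ i < 16, Has (eT i) g) ∧ Nat.card B = 16 ∧ (∀ g ∈ B, g * g = 1) := by
  have h := subOK_eq
  simp only [subOK, Bool.and_eq_true, List.all_eq_true, List.mem_range, List.any_eq_true,
    Bool.or_eq_true, Bool.not_eq_true'] at h
  obtain ⟨h0, hall⟩ := h
  choose el hel using fun i (hi : i < 16) => has_eT hi
  have hsq : ∀ i < 16, ∀ g, Has (eT i) g → g * g = 1 := fun i hi g hg =>
    (hg.mul hg).eq_of Has.one (hall i hi).1.2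
  let B : Subgroup ↥Spor.M22 :=
    { carrier := {g | ∃ i < 16, Has (eT i) g}
      one_mem' := ⟨0, by norm_num, by rw [Nat.eq_of_beq_eq_true h0]; exact Has.one⟩
      mul_mem' := by
        rintro a b ⟨i, hi, ha⟩ ⟨j, hj, hb⟩
        obtain ⟨-, l, hl, hlb⟩ := (hall i hi).2 j hj
        refine ⟨l, hl, ?_⟩
        rw [← Nat.eq_of_beq_eq_true hlb]
        exact ha.mul hb
      inv_mem' := by
        rintro a ⟨i, hi, ha⟩
        exact ⟨i, hi, by rwa [inv_eq_of_mul_eq_one_right (hsq i hi a ha)]⟩ }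
  refine ⟨B, fun g => Iff.rfl, ?_, fun g ⟨i, hi, hg⟩ => hsq i hi g hg⟩
  have hbij : Function.Bijective (fun i : Fin 16 => (⟨el i.1 i.2, i.1, i.2, hel i.1 i.2⟩ : B)) := by
    refine ⟨fun i j hij => Fin.ext ?_, ?_⟩
    · have e : el i.1 i.2 = el j.1 j.2 := congrArg Subtype.val hij
      have hj := hel j.1 j.2
      rw [← e] at hj
      have hc : ∀ l < 16, canon (eT l) = true := fun l hl => by
        have := (hall l hl).1.1
        unfold ok22 at this
        simp only [Bool.and_eq_true] at this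
        exact this.1.1.2
      have ht := eq_of_isTab (hc i.1 i.2) (hc j.1 j.2) (hel i.1 i.2) hj
      rcases ((hall i.1 i.2).2 j.1 j.2).1 with h | h
      · rw [ht, show Nat.beq (eT j.1) (eT j.1) = true from Nat.beq_refl _] at h
        exact Bool.noConfusion h
      · exact Nat.eq_of_beq_eq_true h
    · rintro ⟨g, i, hi, hg⟩
      exact ⟨⟨i, hi⟩, Subtype.ext ((hel i hi).eq hg)⟩
  rw [← Nat.card_eq_of_bijective _ hbij, Nat.card_fin]

/-- The subgroup of the tables is a conjugate of the subgroup of a setup. -/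
theorem exists_conj [IsSimpleGroup ↥Spor.M22] (S : Setup ↥Spor.M22) {B : Subgroup ↥Spor.M22}
    (hmem : ∀ g, g ∈ B ↔ ∃ i < 16, Has (eT i) g) (hB : Nat.card B = 16)
    (hsq : ∀ g ∈ B, g * g = 1) : ∃ a, ∀ g ∈ B, a⁻¹ * g * a ∈ S.E := by
  have hcard := card_M22
  obtain ⟨t, ht⟩ := has_eT (show 1 < 16 by norm_num)
  have htB : t ∈ B := (hmem t).2 ⟨1, by norm_num, ht⟩
  have hdist : ∀ i < 16, ∀ g, Has (eT i) g → g = 1 → i = 0 := by
    intro i hi g hg h1
    subst h1
    have h := subOK_eq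
    simp only [subOK, Bool.and_eq_true, List.all_eq_true, List.mem_range, List.any_eq_true,
      Bool.or_eq_true, Bool.not_eq_true'] at h
    have hc : canon (eT i) = true := by
      have := (h.2 i hi).1.1
      unfold ok22 at this
      simp only [Bool.and_eq_true] at this
      exact this.1.1.2
    have he := eq_of_isTab hc canon_idTab hg isTab_one
    rcases ((h.2 i hi).2 0 (by norm_num)).1 with h' | h'
    · rw [he, Nat.eq_of_beq_eq_true h.1, show Nat.beq idTab idTab = true from Nat.beq_refl _] at h'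
      exact Bool.noConfusion h'
    · exact Nat.eq_of_beq_eq_true h'
  have hord : ∀ g ∈ B, g ≠ 1 → orderOf g = 2 := fun g hg h1 =>
    orderOf_eq_prime (by rw [pow_two]; exact hsq g hg) h1
  have hside : ∀ s ∈ B, s ≠ 1 → ∃ a, a⁻¹ * s * a ∈ S.E ∧
      ∃ u ∈ B, a⁻¹ * u * a ∈ S.E ∧ u ≠ 1 ∧ u ≠ s := by
    intro s hs hs1
    obtain ⟨a, ha⟩ := isConj_iff.1 (M22Order.isConj_involution hcard S.ht (hord s hs hs1))
    have ht' : a⁻¹ * s * a = S.t := by rw [← ha]; group
    refine ⟨a, by rw [ht']; exact J4Eleven.t_mem_E hcard S, ?_⟩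
    let B' : Subgroup ↥Spor.M22 := B.map (MulAut.conj a⁻¹).toMonoidHom
    have hB' : Nat.card B' = 16 := by
      rw [← hB]
      exact (Nat.card_congr (B.equivMapOfInjective _ (MulAut.conj a⁻¹).injective).toEquiv).symm
    obtain ⟨_, ⟨u, hu, rfl⟩, huE, hu1, hus⟩ := J4Eleven.exists_mem_inter hcard S hB' (by
      rintro _ ⟨b, hb, rfl⟩
      rw [← map_mul, hsq b hb, map_one]) ⟨s, hs, by
        show a⁻¹ * s * a⁻¹⁻¹ = _; rw [inv_inv, ht']⟩
    refine ⟨u, hu, by simpa using huE, fun e => hu1 (by subst e; simp), fun e => hus ?_⟩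
    subst e
    show a⁻¹ * u * a⁻¹⁻¹ = _
    rw [inv_inv, ht']
  have ht1 : t ≠ 1 := fun e => absurd (hdist 1 (by norm_num) t ht e) (by norm_num)
  obtain ⟨a, hta, u, huB, hua, hu1, hut⟩ := hside t htB ht1
  refine ⟨a, ?_⟩
  let I : Subgroup ↥Spor.M22 := B ⊓ S.E.map (MulAut.conj a).toMonoidHom
  have hI : ∀ g, g ∈ I ↔ g ∈ B ∧ a⁻¹ * g * a ∈ S.E := fun g =>
    and_congr Iff.rfl ⟨fun ⟨y, hy, e⟩ => by
      subst e; show a⁻¹ * (a * y * a⁻¹) * a ∈ S.E
      rwa [show a⁻¹ * (a * y * a⁻¹) * a = y by group],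
      fun h => ⟨_, h, by show a * (a⁻¹ * g * a) * a⁻¹ = g; group⟩⟩
  -- the part in the conjugate is invariant under the centraliser
  have hinv : ∀ n, Commute n t → (∀ g ∈ B, n * g * n⁻¹ ∈ B) → ∀ g ∈ I, n * g * n⁻¹ ∈ I := by
    intro n hn hnB g hg
    rw [hI] at hg ⊢
    refine ⟨hnB g hg.1, ?_⟩
    have hN : a⁻¹ * n * a ∈ normalizer (S.E : Set ↥Spor.M22) := by
      refine S.unique hcard hta (fun e => ht1 ?_) ?_
      · exact conj_eq_one_iff.1 (by simpa using e : a⁻¹ * t * a⁻¹⁻¹ = 1)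
      · rw [show a⁻¹ * n * a * (a⁻¹ * t * a) * (a⁻¹ * n * a)⁻¹ = a⁻¹ * (n * t * n⁻¹) * a by group,
          hn.eq, mul_inv_cancel_right]
        exact hta
    have := M22Order.conj_mem_of_mem_normalizer hN hg.2
    rwa [show a⁻¹ * n * a * (a⁻¹ * g * a) * (a⁻¹ * n * a)⁻¹ = a⁻¹ * (n * g * n⁻¹) * a by group]
      at this
  -- hence it has at least five elements
  have hbig : 5 ≤ Nat.card I := by
    by_contra hlt
    push Not at hlt
    classical
    have hsub : ({1, t, u, t * u} : Finset ↥Spor.M22).card = 4 := by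
      have h1 : t * u ≠ 1 := fun e => hut ((inv_eq_of_mul_eq_one_right e).symm.trans
        (inv_eq_of_mul_eq_one_right (hsq t htB)))
      have h2 : t * u ≠ t := fun e => hu1 (mul_eq_left.1 e)
      have h3 : t * u ≠ u := fun e => ht1 (mul_eq_right.1 e)
      simp [ht1.symm, hu1.symm, h1.symm, h2.symm, h3.symm, Ne.symm hut]
    have htI : t ∈ I := (hI t).2 ⟨htB, hta⟩
    have huI : u ∈ I := (hI u).2 ⟨huB, hua⟩
    have hIeq : ∀ g ∈ I, g = 1 ∨ g = t ∨ g = u ∨ g = t * u := by
      intro g hg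
      by_contra hcon
      have hle : (((insert g ({1, t, u, t * u} : Finset ↥Spor.M22) : Finset ↥Spor.M22)) : Set ↥Spor.M22).ncard ≤
          (I : Set ↥Spor.M22).ncard := by
        refine Set.ncard_le_ncard ?_
        intro w hw
        simp only [Finset.coe_insert, Finset.coe_singleton, Set.mem_insert_iff,
          Set.mem_singleton_iff] at hw
        rcases hw with rfl | rfl | rfl | rfl | rfl
        exacts [hg, one_mem _, htI, huI, mul_mem htI huI]
      rw [Set.ncard_coe_finset, Finset.card_insert_of_notMem (by simpa using hcon), hsub,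
        ← Nat.card_coe_set_eq] at hle
      exact absurd hlt (by simpa using hle)
    obtain ⟨i, hi, hui⟩ := (hmem u).1 huB
    have hi2 : 2 ≤ i := by
      rcases i with _ | _ | i
      · refine absurd (Has.eq_of hui Has.one ?_) hu1
        have h := subOK_eq
        simp only [subOK, Bool.and_eq_true] at h
        exact h.1
      · exact absurd (hui.eq ht) hut
      · omega
    have h := noFourOK_eq
    simp only [noFourOK, Bool.and_eq_true, List.all_eq_true, List.mem_range, List.any_eq_true,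
      Bool.not_eq_true'] at h
    obtain ⟨j, hj, hj'⟩ := h.2 (i - 2) (by omega)
    rw [show i - 2 + 2 = i by omega] at hj'
    obtain ⟨⟨⟨n1, n2⟩, n3⟩, n4⟩ := hj'
    obtain ⟨⟨hokn, hnt⟩, hnB⟩ := h.1 j hj
    obtain ⟨n, hn⟩ := exists_has hokn
    have hcomm : Commute n t := (hn.mul ht).eq_of (ht.mul hn) hnt
    have hnB' : ∀ g ∈ B, n * g * n⁻¹ ∈ B := by
      intro g hg
      obtain ⟨m, hm, hgm⟩ := (hmem g).1 hg
      obtain ⟨l, hl, hlm⟩ := hnB m hm
      obtain ⟨w, hw⟩ := has_eT hl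
      rw [show n * g = w * n from (hn.mul hgm).eq_of (hw.mul hn) hlm, mul_inv_cancel_right]
      exact (hmem w).2 ⟨l, hl, hw⟩
    have hne : ∀ {s : ℕ} {w : ↥Spor.M22}, Has s (w * n) →
        Nat.beq (mulTab (nT j) (eT i)) s = false → canon s = true → n * u * n⁻¹ ≠ w := by
      intro s w hw hb hc e
      have e' : n * u = w * n := by rw [← e, inv_mul_cancel_right]
      have he := eq_of_isTab (canon_mulTab _ _) hc (e' ▸ hn.mul hui : Has _ (w * n)) hw
      rw [he, show Nat.beq s s = true from Nat.beq_refl _] at hb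
      exact Bool.noConfusion hb
    have hcn : canon (nT j) = true := by
      unfold ok22 at hokn
      simp only [Bool.and_eq_true] at hokn
      exact hokn.1.1.2
    rcases hIeq _ (hinv n hcomm hnB' u huI) with e | e | e | e
    · exact hne (by rwa [one_mul]) n1 hcn e
    · exact hne (ht.mul hn) n2 (canon_mulTab _ _) e
    · exact hne (hui.mul hn) n3 (canon_mulTab _ _) e
    · exact hne ((ht.mul hui).mul hn) n4 (canon_mulTab _ _) e
  have hI8 : 8 ≤ Nat.card I := by
    have hd : Nat.card I ∣ 2 ^ 4 := by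
      rw [show (2 : ℕ) ^ 4 = 16 by norm_num, ← hB]
      exact card_dvd_of_le inf_le_left
    obtain ⟨k, hk, e⟩ := (Nat.dvd_prime_pow Nat.prime_two).1 hd
    rw [e] at hbig ⊢
    interval_cases k <;> omega
  intro g hg
  by_contra hgI
  have hg1 : g ≠ 1 := fun e => hgI (by subst e; simp)
  obtain ⟨b, hgb, v, hvB, hvb, hv1, hvg⟩ := hside g hg hg1
  -- `g`, `v` and `g v` avoid the part in the first conjugate
  have hout : ∀ w, w ∈ B → w ≠ 1 → b⁻¹ * w * b ∈ S.E → w ∉ I := by
    intro w _ hw1 hwb hwI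
    refine hgI ?_
    have hN : a⁻¹ * b ∈ normalizer (S.E : Set ↥Spor.M22) := by
      refine S.unique hcard hwb (fun e => hw1 ?_) ?_
      · exact conj_eq_one_iff.1 (by simpa using e : b⁻¹ * w * b⁻¹⁻¹ = 1)
      · rw [show a⁻¹ * b * (b⁻¹ * w * b) * (a⁻¹ * b)⁻¹ = a⁻¹ * w * a by group]
        exact ((hI w).1 hwI).2
    have := M22Order.conj_mem_of_mem_normalizer hN hgb
    rwa [show a⁻¹ * b * (b⁻¹ * g * b) * (a⁻¹ * b)⁻¹ = a⁻¹ * g * a by group] at this
  have hgv : g * v ≠ 1 := fun e => hvg ((inv_eq_of_mul_eq_one_right e).symm.trans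
    (inv_eq_of_mul_eq_one_right (hsq g hg)))
  have hgvb : b⁻¹ * (g * v) * b ∈ S.E := by
    rw [show b⁻¹ * (g * v) * b = b⁻¹ * g * b * (b⁻¹ * v * b) by group]
    exact mul_mem hgb hvb
  have hn1 := hout g hg hg1 hgb
  have hn2 := hout v hvB hv1 hvb
  have hn3 := hout _ (mul_mem hg hvB) hgv hgvb
  have hidx : (I.subgroupOf B).index ≤ 2 := by
    have h1 := (I.subgroupOf B).card_mul_index
    rw [Nat.card_congr (subgroupOfEquivOfLe (inf_le_left : I ≤ B)).toEquiv, hB] at h1
    nlinarith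
  have hpos : (I.subgroupOf B).index ≠ 0 := Subgroup.index_ne_zero_of_finite
  rcases (show (I.subgroupOf B).index = 1 ∨ (I.subgroupOf B).index = 2 by omega) with h1 | h2
  · exact hn1 (Subgroup.mem_subgroupOf.1 (Subgroup.index_eq_one.1 h1 ▸ mem_top (⟨g, hg⟩ : B)))
  · refine hn3 ?_
    have := (Subgroup.mul_mem_iff_of_index_two h2 (a := (⟨g, hg⟩ : B)) (b := ⟨v, hvB⟩)).2
      (iff_of_false (fun h => hn1 (Subgroup.mem_subgroupOf.1 h))
        fun h => hn2 (Subgroup.mem_subgroupOf.1 h))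
    exact Subgroup.mem_subgroupOf.1 this

/-- The elements of M22 for the element of order four of the extension. -/
theorem exists_four [IsSimpleGroup ↥Spor.M22] (S : Setup ↥Spor.M22) :
    ∃ c x h k f : ↥Spor.M22, c * c * (c * c) = 1 ∧ c ∈ normalizer (S.E : Set ↥Spor.M22) ∧
      x ∈ S.E ∧ x ≠ 1 ∧ c * x = x * c ∧ (∀ y ∈ S.E, c * y = y * c → y = 1 ∨ y = x) ∧
      (∃ y ∈ S.E, c * c * y ≠ y * (c * c)) ∧ h⁻¹ * (c * c) * h ∈ S.E ∧ f ∈ S.E ∧
      k * (c * c) = c * c * k ∧ c = h * f * h⁻¹ * (k * x * k⁻¹) := by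
  obtain ⟨B, hmem, hB, hsq⟩ := exists_sub
  obtain ⟨a, ha⟩ := exists_conj S hmem hB hsq
  have hall : ∀ y ∈ S.E, a * y * a⁻¹ ∈ B := by
    intro y hy
    let B' : Subgroup ↥Spor.M22 := B.map (MulAut.conj a⁻¹).toMonoidHom
    have hle : B' ≤ S.E := by
      rintro _ ⟨g, hg, rfl⟩
      simpa using ha g hg
    have he : B' = S.E := eq_of_le_of_card_ge hle (by
      rw [S.card_E card_M22, ← hB]
      exact (Nat.card_congr (B.equivMapOfInjective _ (MulAut.conj a⁻¹).injective).toEquiv).le)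
    rw [← he] at hy
    obtain ⟨g, hg, rfl⟩ := hy
    simpa [mul_assoc] using hg
  have h := fourOK_eq
  simp only [fourOK, Bool.and_eq_true, List.all_eq_true, List.mem_range, List.any_eq_true,
    Bool.or_eq_true, Bool.not_eq_true', Nat.blt_eq] at h
  obtain ⟨⟨⟨⟨⟨⟨⟨⟨⟨⟨⟨⟨⟨⟨⟨⟨hcok, hhok⟩, hkok⟩, hx⟩, hf⟩, hm⟩, hs⟩, hx0⟩, hc4⟩, hcB⟩, hcx⟩, hcm⟩, hch⟩,
    hck⟩, hyok⟩, hyh⟩, hck'⟩ := h
  obtain ⟨c, hc⟩ := exists_has hcok
  obtain ⟨hh, hhh⟩ := exists_has hhok
  obtain ⟨k, hk⟩ := exists_has hkok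
  obtain ⟨yy, hyy⟩ := exists_has hyok
  obtain ⟨x, hxT⟩ := has_eT hx
  obtain ⟨f, hfT⟩ := has_eT hf
  obtain ⟨m, hmT⟩ := has_eT hm
  obtain ⟨s, hsT⟩ := has_eT hs
  have hE : ∀ {g i}, i < 16 → Has (eT i) g → a⁻¹ * g * a ∈ S.E := fun {g i} hi hg =>
    ha g ((hmem g).2 ⟨i, hi, hg⟩)
  have hx1 : x ≠ 1 := by
    intro e
    have hb := subOK_eq
    simp only [subOK, Bool.and_eq_true, List.all_eq_true, List.mem_range, List.any_eq_true,
      Bool.or_eq_true, Bool.not_eq_true'] at hb
    have hc' : canon (eT FourData.xI) = true := by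
      have := (hb.2 _ hx).1.1
      unfold ok22 at this
      simp only [Bool.and_eq_true] at this
      exact this.1.1.2
    subst e
    have he := eq_of_isTab hc' canon_idTab hxT isTab_one
    rcases ((hb.2 _ hx).2 0 (by norm_num)).1 with h' | h'
    · rw [he, Nat.eq_of_beq_eq_true hb.1, show Nat.beq idTab idTab = true from Nat.beq_refl _]
        at h'
      exact Bool.noConfusion h'
    · rw [h'] at hx0; exact Bool.noConfusion hx0
  have hch' : c * c * hh = hh * s := ((hc.mul hc).mul hhh).eq_of (hhh.mul hsT) hch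
  have hck2 : k * (c * c) = c * c * k := (hk.mul (hc.mul hc)).eq_of ((hc.mul hc).mul hk) hck
  have hyh' : yy * hh = hh * f := (hyy.mul hhh).eq_of (hhh.mul hfT) hyh
  have hckx : c * k = yy * k * x := (hc.mul hk).eq_of ((hyy.mul hk).mul hxT) hck'
  refine ⟨a⁻¹ * c * a, a⁻¹ * x * a, a⁻¹ * hh * a, a⁻¹ * k * a, a⁻¹ * f * a, ?_, ?_, hE hx hxT, ?_,
    ?_, ?_, ?_, ?_, hE hf hfT, ?_, ?_⟩
  · rw [show a⁻¹ * c * a * (a⁻¹ * c * a) * (a⁻¹ * c * a * (a⁻¹ * c * a)) =
      a⁻¹ * (c * c * (c * c)) * a by group,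
      ((hc.mul hc).mul (hc.mul hc)).eq_of Has.one hc4, mul_one, inv_mul_cancel]
  · refine M22Order.mem_normalizer_of_conj fun y hy => ?_
    obtain ⟨i, hi, hiy⟩ := (hmem _).1 (hall y hy)
    obtain ⟨l, hl, hli⟩ := (hcB i hi).1
    obtain ⟨w, hw⟩ := has_eT hl
    have e : c * (a * y * a⁻¹) = w * c := (hc.mul hiy).eq_of (hw.mul hc) hli
    rw [show a⁻¹ * c * a * y * (a⁻¹ * c * a)⁻¹ = a⁻¹ * (c * (a * y * a⁻¹) * c⁻¹) * a by group, e,
      mul_inv_cancel_right]
    exact hE hl hw
  · intro e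
    exact hx1 (by simpa using (conj_eq_one_iff (a := a⁻¹) (b := x)).1 (by simpa using e))
  · rw [show a⁻¹ * c * a * (a⁻¹ * x * a) = a⁻¹ * (c * x) * a by group,
      show a⁻¹ * x * a * (a⁻¹ * c * a) = a⁻¹ * (x * c) * a by group,
      (hc.mul hxT).eq_of (hxT.mul hc) hcx]
  · intro y hy hcy
    obtain ⟨i, hi, hiy⟩ := (hmem _).1 (hall y hy)
    have e : c * (a * y * a⁻¹) = a * y * a⁻¹ * c := by
      rw [show c * (a * y * a⁻¹) = a * (a⁻¹ * c * a * y) * a⁻¹ by group, hcy]; group
    rcases (hcB i hi).2 with h' | h' | h'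
    · have he := eq_of_isTab (canon_mulTab _ _) (canon_mulTab _ _) (e ▸ hc.mul hiy : Has _ _)
        (hiy.mul hc)
      rw [he, show Nat.beq (mulTab (eT i) FourData.cT) (mulTab (eT i) FourData.cT) = true from
        Nat.beq_refl _] at h'
      exact Bool.noConfusion h'
    · left
      rw [Nat.eq_of_beq_eq_true h'] at hiy
      have hb := subOK_eq
      simp only [subOK, Bool.and_eq_true] at hb
      simpa using hiy.eq_of Has.one hb.1
    · right
      rw [Nat.eq_of_beq_eq_true h'] at hiy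
      rw [← hiy.eq hxT]; group
  · refine ⟨a⁻¹ * m * a, hE hm hmT, fun e => ?_⟩
    have e' : c * c * m = m * (c * c) := by
      have := congrArg (fun w => a * w * a⁻¹) e
      simpa [mul_assoc] using this
    have he := eq_of_isTab (canon_mulTab _ _) (canon_mulTab _ _)
      (e' ▸ (hc.mul hc).mul hmT : Has _ _) (hmT.mul (hc.mul hc))
    rw [he, show Nat.beq (mulTab (eT FourData.mI) (mulTab FourData.cT FourData.cT))
      (mulTab (eT FourData.mI) (mulTab FourData.cT FourData.cT)) = true from Nat.beq_refl _] at hcm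
    exact Bool.noConfusion hcm
  · rw [show (a⁻¹ * hh * a)⁻¹ * (a⁻¹ * c * a * (a⁻¹ * c * a)) * (a⁻¹ * hh * a) =
      a⁻¹ * (hh⁻¹ * (c * c * hh)) * a by group, hch', inv_mul_cancel_left]
    exact hE hs hsT
  · rw [show a⁻¹ * k * a * (a⁻¹ * c * a * (a⁻¹ * c * a)) = a⁻¹ * (k * (c * c)) * a by group, hck2]
    group
  · have e : c = yy * (k * x * k⁻¹) := by
      rw [← mul_assoc, ← mul_assoc, ← hckx, mul_inv_cancel_right]
    have e2 : yy = hh * f * hh⁻¹ := by rw [← hyh', mul_inv_cancel_right]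
    conv_lhs => rw [e, e2]
    group

end Cfsg.Agent.J4V.Four
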