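import Cfsg.Agent.Lib.J4V.Classify

/-!
# Janko four type: subgroups without conjugates of `z`

Such a subgroup through a vector of degree five has order at most eight; a 2-group centralising it modulo the
subgroup of order `2 ^ 11` is small.
-/

set_option autoImplicit false
set_option linter.style.haveILetI false
set_option linter.unusedSectionVars false

namespace Cfsg.Agent.J4Eleven.Chart

open Subgroup
open Cfsg.Agent.J4Local
open Cfsg.Agent.M22Order (Setup frm)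

universe u

variable {G : Type u} [Group G] [Finite G] {z : G} {P : Subgroup G} (X : Chart z P)
  [IsSimpleGroup G] (hG : ¬ IsMulCommutative G)

/-- The set of conjugates of `z` in the subgroup having `t` in their `E`. -/
def Zt (t : G) : Set G := {y | y ∈ X.std ∧ IsConj z y ∧ t ∈ EE y}

theorem Zt_conj {n : G} (hn : n ∈ normalizer (X.std : Set G)) {t y : G} (hy : y ∈ X.Zt t) :
    n * y * n⁻¹ ∈ X.Zt (n * t * n⁻¹) :=
  ⟨M22Order.conj_mem_of_mem_normalizer hn hy.1, hy.2.1.trans (isConj_iff.2 ⟨n, rfl⟩),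
    (mem_EE_conj y n _).2 (by simpa [mul_assoc] using hy.2.2)⟩

include hG

theorem five_pre_eq :
    {y | y ∈ X.std ∧ y ≠ 1 ∧ ¬ IsConj z y ∧ y ∈ EE z} = {y | y ∈ preV X.L.J X.WV ∧ vk z y ∈ X.five} := by
  ext y
  constructor
  · rintro ⟨h1, h2, h3, h4⟩
    have := X.std_inf_EE h1 h4
    exact ⟨this, X.five_of_not_zt hG this h2 h3⟩
  · rintro ⟨h1, h2⟩
    exact ⟨X.preV_le_std h1, fun e => h2.2.1 (by rw [e, vk_one]), X.not_zt_five hG h1 h2, h1.1⟩

theorem Zt_ncard {t : G} (ht : t ∈ X.std) (ht1 : t ≠ 1) (htn : ¬ IsConj z t) : (X.Zt t).ncard = 231 := by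
  classical
  haveI := Fintype.ofFinite G
  set T := Finset.univ.filter fun v => v ∈ X.std ∧ v ≠ 1 ∧ ¬ IsConj z v with hT
  set Z := Finset.univ.filter fun v => v ∈ X.std ∧ IsConj z v with hZ
  have hTc : T.card = 276 := by
    rw [← X.others_ncard hG, ← Set.ncard_coe_finset]; congr 1; ext v; simp [hT]
  have hZc : Z.card = 1771 := by
    rw [← (X.params hG).2.1, ← Set.ncard_coe_finset]; congr 1; ext v; simp [hZ]
  have hle : ∀ a ∈ T, ∀ b ∈ T, (Z.filter fun y => a ∈ EE y).card ≤ (Z.filter fun y => b ∈ EE y).card := by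
    intro a ha b hb
    simp only [hT, Finset.mem_filter, Finset.mem_univ, true_and] at ha hb
    obtain ⟨n, hn, rfl⟩ := X.others_conj hG ha.1 ha.2.1 ha.2.2 hb.1 hb.2.1 hb.2.2
    refine Finset.card_le_card_of_injOn (fun y => n * y * n⁻¹) (fun y hy => ?_)
      (fun x _ y _ e => mul_left_cancel (mul_right_cancel e))
    simp only [hZ, Finset.coe_filter, Finset.mem_filter, Finset.mem_univ, true_and] at hy ⊢
    obtain ⟨h1, h2, h3⟩ := X.Zt_conj hn (t := a) (y := y) ⟨hy.1.1, hy.1.2, hy.2⟩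
    exact ⟨⟨h1, h2⟩, h3⟩
  have htT : t ∈ T := Finset.mem_filter.2 ⟨Finset.mem_univ _, ht, ht1, htn⟩
  have h36 : ∀ y ∈ Z, (T.filter fun a => a ∈ EE y).card = 36 := by
    intro y hy
    simp only [hZ, Finset.mem_filter, Finset.mem_univ, true_and] at hy
    obtain ⟨n, hn, rfl⟩ : y ∈ {x | ∃ n ∈ normalizer (X.std : Set G), n * z * n⁻¹ = x} := by
      rw [X.zt_orbit hG]; exact hy
    have e : (T.filter fun a => a ∈ EE (n * z * n⁻¹)).card =
        {v | v ∈ preV X.L.J X.WV ∧ vk z v ∈ X.five}.ncard := by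
      rw [← X.five_pre_eq hG, ← Set.ncard_coe_finset]
      refine Set.ncard_congr (fun a _ => n⁻¹ * a * n⁻¹⁻¹) (fun a ha => ?_) (fun a b _ _ e =>
        mul_left_cancel (mul_right_cancel e)) (fun b hb => ⟨n * b * n⁻¹, ?_, by group⟩)
      · simp only [hT, Finset.coe_filter, Finset.mem_filter, Finset.mem_univ, true_and] at ha
        obtain ⟨⟨h1, h2, h3⟩, h4⟩ := ha
        refine ⟨M22Order.conj_mem_of_mem_normalizer (inv_mem hn) h1, fun e => h2 (conj_eq_one_iff.1 e),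
          fun h => h3 (h.trans (isConj_iff.2 ⟨n⁻¹, rfl⟩).symm), ?_⟩
        rw [inv_inv]
        exact (mem_EE_conj z n a).1 h4
      · obtain ⟨h1, h2, h3, h4⟩ := hb
        simp only [hT, Finset.coe_filter, Finset.mem_filter, Finset.mem_univ, true_and]
        exact ⟨⟨M22Order.conj_mem_of_mem_normalizer hn h1, fun e => h2 (conj_eq_one_iff.1 e),
          fun h => h3 (h.trans (isConj_iff.2 ⟨n, rfl⟩).symm)⟩, (mem_EE_conj z n _).2 (by simpa [mul_assoc] using h4)⟩
    rw [e, X.card_fib (fun v => vk z v ∈ X.five) (fun v => if v ∈ X.five then 2 else 0) (fun v hv => by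
      rw [X.vk_mul_z hv.1]
      split_ifs <;> rfl), ← Finset.sum_filter, Finset.sum_const, smul_eq_mul,
      show ((Set.toFinite (X.WV : Set (VV z))).toFinset.filter fun v => v ∈ X.five).card = 18 by
        rw [← X.five_ncard, ← Set.ncard_coe_finset]
        congr 1
        ext v
        simp only [Finset.coe_filter, Set.Finite.mem_toFinset, SetLike.mem_coe]
        exact ⟨fun h => h.2, fun h => ⟨h.1, h⟩⟩]
  have hswap : ∑ a ∈ T, (Z.filter fun y => a ∈ EE y).card = ∑ y ∈ Z, (T.filter fun a => a ∈ EE y).card := by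
    simp only [Finset.card_filter]
    rw [Finset.sum_comm]
  rw [Finset.sum_congr rfl h36, Finset.sum_congr rfl (fun a ha => le_antisymm (hle a ha t htT) (hle t htT a ha)),
    Finset.sum_const, Finset.sum_const, smul_eq_mul, smul_eq_mul, hTc, hZc] at hswap
  have e : X.Zt t = ↑(Z.filter fun y => t ∈ EE y) := by
    ext y; simp [Zt, hZ, and_assoc]
  rw [e, Set.ncard_coe_finset]
  omega

/-- A 2-group fixing `t` fixes a conjugate of `z` with `t` in its `E`. -/
theorem exists_frame {t : G} (ht : t ∈ X.std) (ht1 : t ≠ 1) (htn : ¬ IsConj z t) {B : Subgroup G}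
    (hB : IsPGroup 2 B) (hBY : B ≤ normalizer (X.std : Set G)) (hBt : ∀ b ∈ B, b * t = t * b) :
    ∃ y ∈ X.Zt t, ∀ b ∈ B, b * y * b⁻¹ = y := by
  haveI : Fact (Nat.Prime 2) := ⟨Nat.prime_two⟩
  let T := ↥(X.Zt t)
  have hmem : ∀ (b : ↥B) (y : T), (b : G) * y * (b : G)⁻¹ ∈ X.Zt t := fun b y => by
    have := X.Zt_conj (hBY b.2) y.2
    rwa [show (b : G) * t * (b : G)⁻¹ = t by rw [hBt b b.2, mul_inv_cancel_right]] at this
  letI : MulAction ↥B T :=
    { smul := fun b y => ⟨(b : G) * y * (b : G)⁻¹, hmem b y⟩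
      one_smul := fun y => Subtype.ext (show ((1 : ↥B) : G) * y * ((1 : ↥B) : G)⁻¹ = y by simp)
      mul_smul := fun a b y => Subtype.ext (show ((a * b : ↥B) : G) * y * ((a * b : ↥B) : G)⁻¹ =
        (a : G) * ((b : G) * y * (b : G)⁻¹) * (a : G)⁻¹ by simp [mul_assoc]) }
  obtain ⟨y, hy⟩ := hB.nonempty_fixed_point_of_prime_not_dvd_card T (by
    show ¬ 2 ∣ Nat.card ↥(X.Zt t)
    rw [Nat.card_coe_set_eq, X.Zt_ncard hG ht ht1 htn]; norm_num)
  exact ⟨y, y.2, fun b hb => congrArg Subtype.val (hy ⟨b, hb⟩)⟩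

theorem psi_lines {w : VV z} {t : G} (ht : t ∈ preV X.L.J X.WV) (hw : vk z t = w) {u : G} (hu : u ∈ X.std)
    (hun : ¬ IsConj z u) (hutn : ¬ IsConj z (u * t)) (hm : X.psi ⟨u, X.std_le_H0 hu⟩ ≠ 1) :
    X.psi ⟨u, X.std_le_H0 hu⟩ ∈ X.linesAt w := by
  obtain ⟨y, hy, c, hc, rfl⟩ := hu
  rw [X.psi_mul_LE hy.1 hc] at hm ⊢
  refine ⟨hc.2.1, hm, ?_⟩
  rw [← X.LE_preV_comm hc hy] at hun hutn
  obtain ⟨h1, -⟩ := X.on_line_of_not_zt hG hc rfl hm hy hun
  rw [mul_assoc] at hutn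
  obtain ⟨h2, -⟩ := X.on_line_of_not_zt hG hc rfl hm (mul_mem hy ht) hutn
  rw [vk_mul hy.1 ht.1, hw] at h2
  have h3 := sub_mem h2 h1
  rwa [add_sub_cancel_left] at h3

/-- The size of such a subgroup, and of its part in `E`. -/
theorem frame_bound {t : G} (ht : t ∈ preV X.L.J X.WV) (h5 : vk z t ∈ X.five) {U : Subgroup G}
    (hU : U ≤ X.std) (hUn : ∀ u ∈ U, ¬ IsConj z u) (htU : t ∈ U) :
    Nat.card U ≤ 8 ∧ (Nat.card U = 8 → ∃ u ∈ U, u ∈ EE z ∧ vk z u = act z X.pp (vk z t)) := by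
  classical
  have hJ := X.L.J
  set w := vk z t with hw
  have hz : z ∉ U := fun h => hUn z h (IsConj.refl z)
  have himg : ∀ u ∈ U ⊓ EE z, vk z u ∈ X.ln w := by
    intro u hu
    obtain ⟨huU, huE⟩ := mem_inf.1 hu
    have huW := X.std_inf_EE (hU huU) huE
    by_cases h0 : vk z u = 0
    · rw [h0]; exact zero_mem _
    have hu5 : vk z u ∈ X.five := X.five_of_not_zt hG huW (fun e => h0 (by rw [e, vk_one])) (hUn u huU)
    by_contra hne
    have hsum : vk z (t * u) ∈ X.five := X.five_of_not_zt hG (mul_mem ht huW) (fun e => hne (by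
      have e' : t = u⁻¹ := eq_inv_of_mul_eq_one_left e
      rw [show vk z u = w by rw [hw, e', vk_inv hJ huE]]
      exact self_mem_line _ _ _)) (hUn _ (mul_mem htU huU))
    rw [vk_mul ht.1 huE, ← hw] at hsum
    exact X.five_add h5 hu5 hne hsum
  have hle8 : U ⊓ EE z ≤ preV hJ (X.ln w) := fun u hu => ⟨(mem_inf.1 hu).2, himg u hu⟩
  have h8 : Nat.card ↥(preV hJ (X.ln w)) = 8 := by rw [card_preV, X.card_ln h5.2.1]
  have h4 : Nat.card ↥(U ⊓ EE z : Subgroup G) ≤ 4 := by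
    obtain ⟨k, hk⟩ := card_dvd_of_le hle8
    rw [h8] at hk
    have hk1 : k ≠ 1 := fun e => by
      rw [e, mul_one] at hk
      have h := eq_of_le_of_card_ge hle8 (by rw [h8, ← hk])
      have hzm : z ∈ preV hJ (X.ln w) := ⟨X.z_mem_EE, by rw [vk_z hJ]; exact zero_mem _⟩
      exact hz (mem_inf.1 (h.symm ▸ hzm)).1
    have hk0 : k ≠ 0 := fun e => by rw [e, mul_zero] at hk; norm_num at hk
    have : 2 ≤ k := by omega
    nlinarith
  set f : ↥U → Bool := fun u => decide (X.psi ⟨u, X.std_le_H0 (hU u.2)⟩ = 1) with hf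
  have hlines : ∀ u : ↥U, X.psi ⟨u, X.std_le_H0 (hU u.2)⟩ ≠ 1 →
      X.psi ⟨u, X.std_le_H0 (hU u.2)⟩ ∈ X.linesAt w := fun u hm =>
    X.psi_lines hG ht hw.symm (hU u.2) (hUn u u.2) (hUn _ (mul_mem u.2 htU)) hm
  have hst : ∀ a b : ↥U, f a = f b → (a : G)⁻¹ * b ∈ U ⊓ EE z := by
    intro a b e
    have hab : (a : G)⁻¹ * b ∈ U := mul_mem (inv_mem a.2) b.2
    refine mem_inf.2 ⟨hab, X.mem_EE_of_psi_one (X.std_le_H0 (hU hab)) (X.std_eleven.sq _ (hU hab)) ?_⟩
    rw [show (⟨(a : G)⁻¹ * b, X.std_le_H0 (hU hab)⟩ : ↥(H0 z P)) =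
      ⟨a, X.std_le_H0 (hU a.2)⟩⁻¹ * ⟨b, X.std_le_H0 (hU b.2)⟩ from rfl, map_mul, map_inv, inv_mul_eq_one]
    simp only [hf, decide_eq_decide] at e
    by_cases ha : X.psi ⟨(a : G), X.std_le_H0 (hU a.2)⟩ = 1
    · rw [ha, e.1 ha]
    have hb : X.psi ⟨(b : G), X.std_le_H0 (hU b.2)⟩ ≠ 1 := fun h => ha (e.2 h)
    by_contra hne
    -- two lines and their product are among the five
    set p := X.psi ⟨(a : G), X.std_le_H0 (hU a.2)⟩ with hp
    set q := X.psi ⟨(b : G), X.std_le_H0 (hU b.2)⟩ with hq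
    have hpl := hlines a ha
    have hql := hlines b hb
    obtain ⟨r, hr, hrne⟩ : ∃ r ∈ X.linesAt w, r ∉ ({p, q, p * q} : Set _) := by
      by_contra hcon
      push Not at hcon
      have h := Set.ncard_le_ncard (show X.linesAt w ⊆ {p, q, p * q} from hcon)
      rw [show (X.linesAt w).ncard = 5 from h5.2.2] at h
      have h' := (Set.ncard_insert_le p ({q, p * q} : Set _)).trans
        (Nat.add_le_add_right ((Set.ncard_insert_le q ({p * q} : Set _)).trans (by rw [Set.ncard_singleton])) 1)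
      omega
    simp only [Set.mem_insert_iff, Set.mem_singleton_iff, not_or] at hrne
    have hpq : p * q ∈ X.linesAt w := by
      have hmul : (a : G) * b ∈ U := mul_mem a.2 b.2
      have e2 : X.psi ⟨(a : G) * b, X.std_le_H0 (hU hmul)⟩ = p * q := map_mul X.psi
        ⟨(a : G), X.std_le_H0 (hU a.2)⟩ ⟨(b : G), X.std_le_H0 (hU b.2)⟩
      rw [← e2]
      refine hlines ⟨_, hmul⟩ fun h => hne ?_
      have h' : p * q = 1 := e2.symm.trans h
      calc p = p * (q * q) := by rw [X.S.sq X.hcard hql.1, mul_one]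
        _ = q := by rw [← mul_assoc, h', one_mul]
    have h := X.frm_five h5 hr hpq hrne.2.2
    rw [X.S.frm_mul X.hcard hr.1 hpl.1 hql.1, X.frm_five h5 hr hpl hrne.1, X.frm_five h5 hr hql hrne.2.1] at h
    exact absurd h (by decide)
  have hb := card_le_stab_mul U (U ⊓ EE z) f hst
  rw [show Nat.card Bool = 2 by simp] at hb
  refine ⟨by omega, fun h8' => ?_⟩
  have h4' : Nat.card ↥(U ⊓ EE z : Subgroup G) = 4 := by omega
  let g : ↥(U ⊓ EE z) → ↥(X.ln w) := fun u => ⟨vk z u, himg u u.2⟩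
  have hinj : Function.Injective g := by
    intro a b e
    rcases (vk_eq_vk_iff hJ (mem_inf.1 a.2).2 (mem_inf.1 b.2).2).1 (congrArg Subtype.val e) with r | r
    · exact Subtype.ext r
    · refine absurd ?_ hz
      have := mul_mem (inv_mem (mem_inf.1 b.2).1) (mem_inf.1 a.2).1
      rwa [r, inv_mul_cancel_left] at this
  obtain ⟨u, hu⟩ := ((Nat.bijective_iff_injective_and_card g).2 ⟨hinj, by rw [h4', X.card_ln h5.2.1]⟩).2
    ⟨act z X.pp w, act_self_mem_line _ _ _⟩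
  exact ⟨u, (mem_inf.1 u.2).1, (mem_inf.1 u.2).2, congrArg Subtype.val hu⟩

/-- A 2-group of the frame centralising modulo `U` as little as `A` does is small. -/
theorem frame_small {t : G} (ht : t ∈ preV X.L.J X.WV) (h5 : vk z t ∈ X.five) {U A B : Subgroup G}
    (hU : U ≤ X.std) (hUn : ∀ u ∈ U, ¬ IsConj z u) (htU : t ∈ U) (hB : IsPGroup 2 B)
    (hBY : B ≤ normalizer (X.std : Set G)) (hBH : B ≤ HH z) (hBfix : ∀ b ∈ B, ∀ u ∈ U, b * u = u * b)
    (hBU : ∀ b ∈ B, b ∈ X.std → b ∈ U)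
    (hcent : ∀ b ∈ B, b ∉ U → ∀ v ∈ X.std, v * b * v⁻¹ * b⁻¹ ∈ U ↔ v ∈ A) :
    Nat.card B ≤ Nat.card U * 16 ∧ (Nat.card U = 8 → Nat.card B ≤ Nat.card U * 8) := by
  classical
  have hJ := X.L.J
  set w := vk z t with hw
  have hz : z ∉ U := fun h => hUn z h (IsConj.refl z)
  have hactw : ∀ b ∈ B, act z b w = w := fun b hb => by
    rw [hw, act_vk (hBH hb) ht.1, hBfix b hb t htU, mul_inv_cancel_right]
  have hLEn : X.LE ≤ normalizer (EE z : Set G) := fun c hc =>
    M22Order.mem_normalizer_of_conj fun x hx => conj_mem_EE (X.LE_le_CC hc).1 hx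
  set M := EE z ⊔ X.LE with hM
  -- inside `E` times the lifts
  have step3 : Nat.card ↥(B ⊓ M : Subgroup G) ≤ Nat.card U * 2 := by
    refine (card_le_stab_mul (B ⊓ M) U (fun b => decide ((b : G) ∈ U)) fun a b e => ?_).trans
      (by rw [show Nat.card Bool = 2 by simp])
    by_cases ha : (a : G) ∈ U
    · exact mul_mem (inv_mem ha) (by simpa [ha] using e)
    have hb : (b : G) ∉ U := by simpa [ha] using e
    obtain ⟨haB, haM⟩ := mem_inf.1 a.2
    obtain ⟨hbB, hbM⟩ := mem_inf.1 b.2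
    refine hBU _ (mul_mem (inv_mem haB) hbB) ?_
    obtain ⟨e1, he1, c1, hc1, ea⟩ := (Coprime.mem_sup_of_le_normalizer hLEn).1 haM
    obtain ⟨e2, he2, c2, hc2, eb⟩ := (Coprime.mem_sup_of_le_normalizer hLEn).1 hbM
    have key : ∀ {e c : G} {d : G}, e ∈ EE z → c ∈ X.LE → e * c = d → d ∈ B → d ∉ U →
        ∀ x ∈ preV hJ X.WV, (cm x e = 0 ↔ x ∈ A) := by
      intro e c d he hc hd hdB hdU x hx
      rw [← hcent d hdB hdU x (X.preV_le_std hx)]
      have heq : x * d * x⁻¹ * d⁻¹ = z ^ (cm x e).val := by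
        have h1 : x * e * x⁻¹ * e⁻¹ = z ^ (cm x e).val := by
          rw [conj_eq hJ hx.1 he]
          have hcomm : e * z ^ (cm x e).val = z ^ (cm x e).val * e :=
            ((show Commute e z from hJ.ctr.comm he).pow_right _).eq
          rw [hcomm, mul_inv_cancel_right]
        rw [← hd]
        calc x * (e * c) * x⁻¹ * (e * c)⁻¹ = x * e * (c * x⁻¹) * c⁻¹ * e⁻¹ := by group
          _ = x * e * (x⁻¹ * c) * c⁻¹ * e⁻¹ := by rw [X.LE_preV_comm hc (inv_mem hx)]
          _ = x * e * x⁻¹ * e⁻¹ := by group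
          _ = _ := h1
      rw [heq]
      constructor
      · intro h0; rw [h0]; simp [one_mem]
      · intro hm
        by_contra h0
        have h1' : cm x e = 1 := by
          have h2 : ∀ q : ZMod 2, q ≠ 0 → q = 1 := by decide
          exact h2 _ h0
        rw [h1', show ((1 : ZMod 2).val) = 1 from rfl, pow_one] at hm
        exact hz hm
    have k1 := key he1 hc1 ea haB ha
    have k2 := key he2 hc2 eb hbB hb
    have hW : e1⁻¹ * e2 ∈ preV hJ X.WV := by
      refine ⟨mul_mem (inv_mem he1) he2, ?_⟩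
      rw [← X.card_WV.2]
      intro v hv
      obtain ⟨x, hx, rfl⟩ := vk_surj v
      have hxW : x ∈ preV hJ X.WV := ⟨hx, hv⟩
      rw [vk_mul (inv_mem he1) he2, vk_inv hJ he1, BB_add_left hJ, BB_vk hJ he1 hx, BB_vk hJ he2 hx,
        cm_comm e1, cm_comm e2]
      have hiff : cm x e1 = 0 ↔ cm x e2 = 0 := (k1 x hxW).trans (k2 x hxW).symm
      have h2 : ∀ p q : ZMod 2, (p = 0 ↔ q = 0) → p + q = 0 := by decide
      exact h2 _ _ hiff
    rw [← ea, ← eb, show (e1 * c1)⁻¹ * (e2 * c2) = c1⁻¹ * (e1⁻¹ * e2) * c2 by group]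
    exact mul_mem (mul_mem (inv_mem (X.LE_le_std hc1)) (X.preV_le_std hW)) (X.LE_le_std hc2)
  -- the inner part
  set B0 := B ⊓ H0 z P with hB0
  set L := (B0.subgroupOf (H0 z P)).map X.psi with hL
  have hLn : L ≤ X.NS := by
    rintro _ ⟨⟨b, hb⟩, hbB, rfl⟩
    exact (X.mem_normalizer_iff_psi hb).1 (hBY (mem_inf.1 (mem_subgroupOf.1 hbB)).1)
  set L2 := L ⊔ X.S.E with hL2
  have hLK : L2 ≤ X.St w ⊓ X.NS := by
    refine sup_le ?_ ?_
    · rintro _ ⟨⟨b, hb⟩, hbB, rfl⟩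
      refine mem_inf.2 ⟨?_, hLn ⟨⟨b, hb⟩, hbB, rfl⟩⟩
      obtain ⟨c, hc, e, he, rfl⟩ := exists_dec hb
      rw [X.psi_eq hc he, X.mem_St h5.2.1, ← act_mul_EE hJ hc.1 he,
        hactw _ (mem_inf.1 (mem_subgroupOf.1 hbB)).1]
      exact self_mem_line _ _ _
    · intro m hm
      obtain ⟨l, hl, el⟩ := X.exists_lift hm
      refine mem_inf.2 ⟨?_, le_normalizer hm⟩
      rw [← el, X.mem_St h5.2.1, h5.1 l hl]
      exact self_mem_line _ _ _
  have hL2p : IsPGroup 2 L2 := by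
    refine IsPGroup.to_sup_of_normal_right' ((hB.to_le inf_le_left : IsPGroup 2 B0).comap_of_injective _
      (H0 z P).subtype_injective |>.map X.psi) (IsPGroup.of_card (n := 4) ?_) hLn
    rw [X.S.card_E X.hcard]; norm_num
  haveI : Fact (Nat.Prime 2) := ⟨Nat.prime_two⟩
  obtain ⟨j, hj⟩ := hL2p.exists_card_eq
  have hd960 : Nat.card L2 ∣ 960 := X.card_St_inf h5 ▸ card_dvd_of_le hLK
  have hj6 : j ≤ 6 := by
    by_contra hcon
    push Not at hcon
    have h7 : 2 ^ 7 ∣ 960 := (Nat.pow_dvd_pow 2 hcon).trans (hj ▸ hd960)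
    norm_num at h7
  have hEL : X.S.E ≤ L2 := le_sup_right
  have hq4 : Nat.card (↥L2 ⧸ X.S.E.subgroupOf L2) ≤ 4 := by
    have h := Subgroup.card_eq_card_quotient_mul_card_subgroup (X.S.E.subgroupOf L2)
    rw [Nat.card_congr (subgroupOfEquivOfLe hEL).toEquiv, X.S.card_E X.hcard, hj] at h
    have : 2 ^ j ≤ 2 ^ 6 := Nat.pow_le_pow_right (by norm_num) hj6
    omega
  have step2 : Nat.card B0 ≤ Nat.card U * 8 := by
    refine (card_le_stab_mul B0 (B ⊓ M) (fun b => (QuotientGroup.mk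
      (⟨X.psi ⟨(b : G), (mem_inf.1 b.2).2⟩, mem_sup_left ⟨⟨(b : G), (mem_inf.1 b.2).2⟩, b.2, rfl⟩⟩ : ↥L2) :
        ↥L2 ⧸ X.S.E.subgroupOf L2)) fun a b e => ?_).trans ?_
    · obtain ⟨haB, ha0⟩ := mem_inf.1 a.2
      obtain ⟨hbB, hb0⟩ := mem_inf.1 b.2
      refine mem_inf.2 ⟨mul_mem (inv_mem haB) hbB, ?_⟩
      have he' := QuotientGroup.eq.1 e
      rw [mem_subgroupOf] at he'
      have hmemE : X.psi (⟨(a : G), ha0⟩⁻¹ * ⟨(b : G), hb0⟩) ∈ X.S.E := by rw [map_mul, map_inv]; exact he'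
      obtain ⟨c, hc, f, hf, ecf⟩ := exists_dec (mul_mem (inv_mem ha0) hb0)
      have hcE : X.π ⟨c, hc⟩ ∈ X.S.E := by
        have h' : c * f ∈ H0 z P := ecf ▸ mul_mem (inv_mem ha0) hb0
        rw [← X.psi_eq hc hf h']
        rwa [show (⟨c * f, h'⟩ : ↥(H0 z P)) = ⟨(a : G), ha0⟩⁻¹ * ⟨(b : G), hb0⟩ from Subtype.ext ecf.symm]
      obtain ⟨l, hl, el⟩ := X.exists_lift hcE
      have hlC := X.LE_le_CC hl
      have hk : l⁻¹ * c ∈ P ⊔ zpowers z := (X.mem_ker_iff (⟨l, hlC⟩⁻¹ * ⟨c, hc⟩)).1 (by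
        rw [map_mul, map_inv, el, inv_mul_cancel])
      have hn : zpowers z ≤ normalizer (P : Set G) := zpowers_le.2 (M22Order.mem_normalizer_of_conj fun q hq => by
        rw [← mem_HH.1 (hJ.P_le_HH hq), mul_inv_cancel_right]; exact hq)
      obtain ⟨q, hq, s, hs, hqs⟩ := (Coprime.mem_sup_of_le_normalizer hn).1 hk
      have hq1 : q = 1 := by
        by_contra hne
        refine h5.2.1 (act_fpf hJ hq hne ?_)
        have h2 : act z (l⁻¹ * c) w = w := by
          rw [act_mul (inv_mem hlC.1) hc.1, ← act_mul_EE hJ hc.1 hf, ← ecf,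
            hactw _ (mul_mem (inv_mem haB) hbB)]
          exact h5.1 _ (inv_mem hl)
        rwa [← hqs, act_mul_EE hJ (hJ.P_le_HH hq) (zpowers_le.2 X.z_mem_EE hs)] at h2
      rw [hq1, one_mul] at hqs
      have hcL : c ∈ X.LE := by
        rw [show c = l * s by rw [hqs, mul_inv_cancel_left]]
        exact mul_mem hl (zpowers_le.2 X.z_mem_LE hs)
      rw [ecf, show c * f = c * f * c⁻¹ * c by group]
      exact mul_mem (mem_sup_left (conj_mem_EE hc.1 hf)) (mem_sup_right hcL)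
    · calc Nat.card ↥(B ⊓ M : Subgroup G) * _ ≤ Nat.card U * 2 * 4 := Nat.mul_le_mul step3 hq4
        _ = _ := by ring
  have step1 : Nat.card B ≤ Nat.card B0 * 2 := by
    refine (card_le_stab_mul B B0 (fun a => decide ((a : G) ∈ H0 z P)) fun a b e => ?_).trans
      (by rw [show Nat.card Bool = 2 by simp])
    refine mem_inf.2 ⟨mul_mem (inv_mem a.2) b.2, ?_⟩
    by_cases ha : (a : G) ∈ H0 z P
    · exact mul_mem (inv_mem ha) (by simpa [ha] using e)
    · exact outer_mul X.L (inv_mem (hBH a.2)) (hBH b.2) (fun h => ha (inv_mem_iff.1 h)) (by simpa [ha] using e)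
  refine ⟨by omega, fun h8 => ?_⟩
  obtain ⟨u, huU, huE, huv⟩ := (X.frame_bound hG ht h5 hU hUn htU).2 h8
  have hBH0 : B ≤ B0 := fun b hb => mem_inf.2 ⟨hb, by
    by_contra hb0
    refine h5.2.1 ?_
    have e := act_outer X.L (hBH hb) hb0 X.pp_mem w
    rw [hactw b hb] at e
    have e2 : act z b (act z X.pp w) = act z X.pp w := by
      rw [← huv, act_vk (hBH hb) huE, hBfix b hb u huU, mul_inv_cancel_right]
    rw [e2] at e
    exact act_fpf hJ X.pp_mem X.pp_ne (act_injective (hJ.P_le_HH X.pp_mem) e.symm)⟩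
  exact (Subgroup.card_le_of_le hBH0).trans step2

end Cfsg.Agent.J4Eleven.Chart
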