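import Cfsg.Agent.Lib.J4V.Degree

/-!
# Janko four type: the two classes of points of the fixed space

The stabiliser of the elementary subgroup of order 16 is transitive on each class; the five lines through a
point of degree five are pairwise non-orthogonal, and two points of degree five lie on one line.
-/

set_option autoImplicit false
set_option linter.style.haveILetI false
set_option linter.unusedSectionVars false

namespace Cfsg.Agent.J4Eleven.Chart

open Subgroup
open Cfsg.Agent.J4Local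
open Cfsg.Agent.M22Order (Setup frm frm_self frm_one frm_comm frm_conj)

universe u

variable {G : Type u} [Group G] [Finite G] {z : G} {P : Subgroup G} (X : Chart z P)

theorem act_ln {d : G} (hd : d ∈ CC z P) {w v : VV z} (hv : v ∈ X.ln w) : act z d v ∈ X.ln (act z d w) := by
  have hp := act_inner X.L.J (CC_le_H0 z P hd) X.pp_mem w
  rcases (mem_line X.L.J).1 hv with rfl | rfl | rfl | rfl
  · rw [map_zero]; exact zero_mem _
  · exact self_mem_line _ _ _
  · rw [hp]; exact act_self_mem_line _ _ _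
  · rw [map_add, hp]; exact add_mem (self_mem_line _ _ _) (act_self_mem_line _ _ _)

theorem five_ln {w v : VV z} (hw : w ∈ X.five) (hv : v ∈ X.ln w) (hv0 : v ≠ 0) : v ∈ X.five := by
  have hp := X.P_le_NC X.pp_mem
  rcases (mem_line X.L.J).1 hv with rfl | rfl | rfl | rfl
  · exact absurd rfl hv0
  · exact hw
  · exact X.five_conj hp hw
  · rw [← act_act X.L.J X.pp_mem X.pp_ne]
    exact X.five_conj hp (X.five_conj hp hw)

theorem linesAt_ln {w v : VV z} (hv : v ∈ X.ln w) (hv0 : v ≠ 0) : X.linesAt v = X.linesAt w := by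
  have key : ∀ {a b : VV z}, a ∈ X.ln b → X.linesAt b ⊆ X.linesAt a := fun {a b} ha m hm =>
    ⟨hm.1, hm.2.1, X.ln_le (fun x hx => X.RR_act_P hm.1 hx) hm.2.2 ha⟩
  refine Set.Subset.antisymm (key ?_) (key hv)
  rw [X.ln_eq hv hv0]
  exact self_mem_line _ _ _

theorem two_points {m : ↥Cfsg.Spor.M22} (hm : m ∈ X.S.E) (h1 : m ≠ 1) {w : VV z} (hw : w ∈ X.five)
    (hwm : w ∈ X.RR m) :
    ∃ w' ∈ X.five, w' ∈ X.RR m ∧ w' ∉ X.ln w ∧ ∀ v ∈ X.five, v ∈ X.RR m → v ∈ X.ln w ∨ v ∈ X.ln w' := by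
  set F := {v | v ∈ X.RR m ∧ v ∈ X.five} with hF
  have hc : ∀ u : VV z, u ≠ 0 → ((X.ln u : Set (VV z)) \ {0}).ncard = 3 := fun u hu => by
    rw [Set.ncard_sdiff_singleton_of_mem (zero_mem _), ← Nat.card_coe_set_eq]
    exact congrArg (· - 1) (X.card_ln hu)
  have hsub : ∀ u ∈ F, (X.ln u : Set (VV z)) \ {0} ⊆ F := fun u hu v hv =>
    ⟨X.ln_le (fun x hx => X.RR_act_P hm hx) hu.1 hv.1, X.five_ln hu.2 hv.1 hv.2⟩
  obtain ⟨w', ⟨hw'm, hw'⟩, hne⟩ : ∃ w' ∈ F, w' ∉ X.ln w := by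
    by_contra hcon
    push Not at hcon
    have h := Set.ncard_le_ncard (show F ⊆ (X.ln w : Set (VV z)) \ {0} from fun v hv => ⟨hcon v hv, hv.2.2.1⟩)
    rw [hF, X.five_on_line hm h1, hc w hw.2.1] at h
    omega
  refine ⟨w', hw', hw'm, hne, fun v hv hvm => ?_⟩
  have hdis : Disjoint ((X.ln w : Set (VV z)) \ {0}) ((X.ln w' : Set (VV z)) \ {0}) :=
    Set.disjoint_left.2 fun u hu hu' => hne (by
      rw [← X.ln_eq hu.1 hu.2, X.ln_eq hu'.1 hu'.2]; exact self_mem_line _ _ _)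
  have e : ((X.ln w : Set (VV z)) \ {0}) ∪ ((X.ln w' : Set (VV z)) \ {0}) = F :=
    Set.eq_of_subset_of_ncard_le (Set.union_subset (hsub w ⟨hwm, hw⟩) (hsub w' ⟨hw'm, hw'⟩))
      (by rw [Set.ncard_union_eq hdis, hc w hw.2.1, hc w' hw'.2.1, hF, X.five_on_line hm h1])
  have hvF : v ∈ F := ⟨hvm, hv⟩
  rw [← e] at hvF
  rcases hvF with h | h
  exacts [Or.inl h.1, Or.inr h.1]

/-- The part of `C` fixing a point. -/
def StC (w : VV z) : Subgroup G :=
  let M : Submonoid G :=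
    { carrier := {c | c ∈ CC z P ∧ ∀ v ∈ X.ln w, act z c v ∈ X.ln w}
      one_mem' := ⟨one_mem _, fun v hv => by rwa [act_one]⟩
      mul_mem' := fun {a b} ha hb => ⟨mul_mem ha.1 hb.1, fun v hv => by
        rw [act_mul ha.1.1 hb.1.1]; exact ha.2 _ (hb.2 v hv)⟩ }
  { M with
    inv_mem' := fun {c} hc => by
      have e : c⁻¹ = c ^ (orderOf c - 1) := inv_eq_of_mul_eq_one_right (by
        rw [← pow_succ', Nat.sub_add_cancel (orderOf_pos c), pow_orderOf_eq_one])
      rw [e]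
      exact M.pow_mem hc _ }

theorem mem_StC {w : VV z} (hw : w ≠ 0) {c : G} : c ∈ X.StC w ↔ c ∈ CC z P ∧ act z c w ∈ X.ln w := by
  refine ⟨fun h => ⟨h.1, h.2 w (self_mem_line _ _ _)⟩, fun h => ⟨h.1, fun v hv => ?_⟩⟩
  have h2 := X.act_ln h.1 hv
  rwa [X.ln_eq h.2 (fun e => hw (act_injective h.1.1 (e.trans (map_zero _).symm)))] at h2

/-- The stabiliser of a point in M22. -/
def St (w : VV z) : Subgroup ↥Cfsg.Spor.M22 := ((X.StC w).subgroupOf (CC z P)).map X.π

theorem six_StC {w : VV z} (hw : w ≠ 0) {k : G} (hk : k ∈ P ⊔ zpowers z) : k ∈ X.StC w := by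
  refine sup_le (fun p hp => ?_) (zpowers_le.2 ?_) hk
  · exact (X.mem_StC hw).2 ⟨X.L.J.P_le_CC hp, X.act_P_cases hp w⟩
  · exact (X.mem_StC hw).2 ⟨X.z_mem_CC, by rw [act_z X.L.J]; exact self_mem_line _ _ _⟩

theorem mem_St {w : VV z} (hw : w ≠ 0) {c : G} (hc : c ∈ CC z P) :
    X.π ⟨c, hc⟩ ∈ X.St w ↔ act z c w ∈ X.ln w := by
  refine ⟨?_, fun h => ⟨⟨c, hc⟩, mem_subgroupOf.2 ((X.mem_StC hw).2 ⟨hc, h⟩), rfl⟩⟩
  rintro ⟨⟨d, hd⟩, hdS, e⟩
  rw [SetLike.mem_coe, mem_subgroupOf] at hdS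
  have hk : d⁻¹ * c ∈ X.StC w := X.six_StC hw ((X.mem_ker_iff (⟨d, hd⟩⁻¹ * ⟨c, hc⟩)).1 (by
    rw [map_mul, map_inv, e, inv_mul_cancel]))
  have h := ((X.mem_StC hw).1 (mul_mem hdS hk)).2
  rwa [mul_inv_cancel_left] at h

/-- Counting an invariant set of vectors of given degree along the lines. -/
theorem orbit_count (O : Finset (VV z)) {i : ℕ} (hO : ∀ w ∈ O, w ≠ 0 ∧ X.deg w = i)
    (hinv : ∀ d ∈ X.NC, ∀ w ∈ O, act z d w ∈ O) [DecidablePred fun v => v ∈ X.RR X.S.t] :
    i * O.card = 15 * (O.filter fun v => v ∈ X.RR X.S.t).card ∧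
      3 ∣ (O.filter fun v => v ∈ X.RR X.S.t).card := by
  classical
  haveI := Fintype.ofFinite ↥Cfsg.Spor.M22
  set L := Finset.univ.filter fun m : ↥Cfsg.Spor.M22 => m ∈ X.S.E ∧ m ≠ 1 with hL
  have ht1 : X.S.t ≠ 1 := fun e => by have := X.S.ht; rw [e, orderOf_one] at this; omega
  have htE : X.S.t ∈ X.S.E := X.S.D_le X.hcard (X.S.t_mem_D X.hcard)
  have hLc : L.card = 15 := by
    have e : L = (Finset.univ.filter fun m : ↥Cfsg.Spor.M22 => m ∈ X.S.E).erase 1 := by
      ext v; simp [hL, and_comm]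
    rw [e, Finset.card_erase_of_mem (by simp [one_mem]), ← Fintype.card_subtype, ← Nat.card_eq_fintype_card,
      show Nat.card {m // m ∈ X.S.E} = 16 from X.S.card_E X.hcard]
  let b : ↥Cfsg.Spor.M22 → ℕ := fun m => (O.filter fun v => v ∈ X.RR m).card
  have hb : ∀ m ∈ L, b m = b X.S.t := by
    intro m hm
    simp only [hL, Finset.mem_filter, Finset.mem_univ, true_and] at hm
    obtain ⟨k, hk, hkm⟩ := X.S.trans X.hcard hm.1 hm.2
    obtain ⟨d, hd, hdN, hdk⟩ := X.exists_NC hk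
    refine le_antisymm ?_ ?_
    · refine Finset.card_le_card_of_injOn (act z d⁻¹) (fun v hv => ?_) (act_injective (inv_mem hd.1)).injOn
      simp only [Finset.mem_coe, Finset.mem_filter] at hv ⊢
      have hi : X.π ⟨d⁻¹, inv_mem hd⟩ = k⁻¹ := (map_inv X.π ⟨d, hd⟩).trans (by rw [hdk])
      have h := X.RR_conj (inv_mem hd) (hi ▸ inv_mem hk) hm.1 hv.2
      rw [hi, show k⁻¹ * m * k⁻¹⁻¹ = X.S.t by rw [← hkm]; group] at h
      exact ⟨hinv _ (inv_mem hdN) v hv.1, h⟩
    · refine Finset.card_le_card_of_injOn (act z d) (fun v hv => ?_) (act_injective hd.1).injOn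
      simp only [Finset.mem_coe, Finset.mem_filter] at hv ⊢
      have h := X.RR_conj hd (hdk ▸ hk) htE hv.2
      rw [hdk, hkm] at h
      exact ⟨hinv _ hdN v hv.1, h⟩
  refine ⟨?_, ?_⟩
  · have h1 : ∑ v ∈ O, X.deg v = i * O.card := by
      rw [Finset.sum_congr rfl (fun v hv => (hO v hv).2), Finset.sum_const, smul_eq_mul, mul_comm]
    have h2 : ∑ m ∈ L, b m = 15 * b X.S.t := by
      rw [Finset.sum_congr rfl hb, Finset.sum_const, hLc, smul_eq_mul]
    have hdeg : ∀ v, X.deg v = (L.filter fun m => v ∈ X.RR m).card := fun v => by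
      rw [deg, ← Set.ncard_coe_finset]
      congr 1
      ext m
      simp [linesAt, hL, and_assoc]
    have h3 : ∑ v ∈ O, X.deg v = ∑ m ∈ L, b m := by
      simp only [hdeg, Finset.card_filter, b]
      rw [Finset.sum_comm]
    rw [← h1, h3, h2]
    simp only [b]
    congr 2
    ext v
    simp
  · refine X.three_dvd_card _ (fun h => (hO 0 (Finset.mem_filter.1 h).1).1 rfl) fun v hv => ?_
    rw [Finset.mem_filter] at hv ⊢
    exact ⟨hinv _ (X.P_le_NC X.pp_mem) v hv.1, X.RR_act_P htE hv.2⟩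

/-- An element of order five fixes each point of an invariant set of three points. -/
theorem fix_three (O : Finset (VV z)) (hc : O.card = 9) (hO : (0 : VV z) ∉ O)
    (hinv : ∀ d ∈ X.NC, ∀ w ∈ O, act z d w ∈ O) {d : G} (hdN : d ∈ X.NC) (hd : d ∈ CC z P)
    (h5 : orderOf (X.π ⟨d, hd⟩) = 5) {v : VV z} (hv : v ∈ O) : act z d v ∈ X.ln v := by
  classical
  have hv0 : v ≠ 0 := fun e => hO (e ▸ hv)
  have h3 := X.card_eq_three_mul O hO (fun w hw => hinv _ (X.P_le_NC X.pp_mem) w hw)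
  set g := X.π ⟨d, hd⟩ with hg
  obtain ⟨i, hi, j, hj, hij, e⟩ := Finset.exists_ne_map_eq_of_card_lt_of_maps_to
    (s := Finset.range 4) (t := O.image X.ln) (by rw [Finset.card_range]; omega)
    (f := fun k => X.ln (act z (d ^ k) v))
    (fun k _ => Finset.mem_image_of_mem _ (hinv _ (pow_mem hdN k) v hv))
  have key : ∀ i j : ℕ, i < j → X.ln (act z (d ^ i) v) = X.ln (act z (d ^ j) v) → g ^ (j - i) ∈ X.St v := by
    intro i j hlt e
    have hdk : d ^ (j - i) ∈ CC z P := pow_mem hd _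
    rw [hg, ← map_pow, show (⟨d, hd⟩ : ↥(CC z P)) ^ (j - i) = ⟨d ^ (j - i), hdk⟩ from rfl, X.mem_St hv0 hdk]
    have hdi : (d ^ i)⁻¹ ∈ CC z P := inv_mem (pow_mem hd _)
    have h := X.act_ln hdi (w := act z (d ^ i) v) (v := act z (d ^ j) v) (e ▸ self_mem_line _ _ _)
    rwa [act_inv_act (pow_mem hd.1 _), ← act_mul hdi.1 (pow_mem hd.1 _),
      show (d ^ i)⁻¹ * d ^ j = d ^ (j - i) by rw [inv_mul_eq_iff_eq_mul, ← pow_add]; congr 1; omega] at h
  obtain ⟨k, hk0, hk4, hk⟩ : ∃ k, 0 < k ∧ k < 4 ∧ g ^ k ∈ X.St v := by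
    simp only [Finset.mem_range] at hi hj
    rcases Nat.lt_or_gt_of_ne hij with h | h
    · exact ⟨j - i, by omega, by omega, key i j h e⟩
    · exact ⟨i - j, by omega, by omega, key j i h e.symm⟩
  refine (X.mem_St hv0 hd).1 ?_
  have hg5 : g ^ 5 = 1 := h5 ▸ pow_orderOf_eq_one g
  obtain ⟨a, ha⟩ : ∃ a, (g ^ k) ^ a = g := by
    interval_cases k
    · exact ⟨1, by simp⟩
    · exact ⟨3, by rw [← pow_mul, show 2 * 3 = 5 + 1 by norm_num, pow_add, hg5, one_mul, pow_one]⟩
    · exact ⟨2, by rw [← pow_mul, show 3 * 2 = 5 + 1 by norm_num, pow_add, hg5, one_mul, pow_one]⟩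
  rw [← hg, ← ha]
  exact pow_mem hk a

include X in
theorem exists_five_NS : ∃ g ∈ X.NS, orderOf g = 5 := by
  haveI : Fact (Nat.Prime 5) := ⟨by norm_num⟩
  obtain ⟨⟨g, hg⟩, ho⟩ := exists_prime_orderOf_dvd_card' (G := ↥X.NS) 5
    (by rw [show Nat.card ↥X.NS = 5760 from (X.S.orbit_eq X.hcard).2]; norm_num)
  exact ⟨g, hg, by rwa [Subgroup.orderOf_mk] at ho⟩

/-- Transitivity on the vectors of degree five. -/
theorem five_trans {w w' : VV z} (hw : w ∈ X.five) (hw' : w' ∈ X.five) : ∃ d ∈ X.NC, act z d w = w' := by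
  classical
  haveI := Fintype.ofFinite (VV z)
  set O := Finset.univ.filter fun v => ∃ d ∈ X.NC, act z d w = v with hO
  have hOm : ∀ v, v ∈ O ↔ ∃ d ∈ X.NC, act z d w = v := fun v => by simp [hO]
  have hwO : w ∈ O := (hOm w).2 ⟨1, one_mem _, act_one w⟩
  set F := (Set.toFinite X.five).toFinset with hF
  have hFm : ∀ v, v ∈ F ↔ v ∈ X.five := fun v => Set.Finite.mem_toFinset _
  have hFc : F.card = 18 := by rw [hF, ← Set.ncard_eq_toFinset_card]; exact X.five_ncard
  have hOF : O ⊆ F := fun v hv => by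
    obtain ⟨d, hd, rfl⟩ := (hOm v).1 hv
    exact (hFm _).2 (X.five_conj hd hw)
  have hinv : ∀ d ∈ X.NC, ∀ v ∈ O, act z d v ∈ O := fun d hd v hv => by
    obtain ⟨e, he, rfl⟩ := (hOm v).1 hv
    exact (hOm _).2 ⟨d * e, mul_mem hd he, act_mul (X.NC_le_HH hd) (X.NC_le_HH he) w⟩
  by_cases hall : F ⊆ O
  · exact (hOm w').1 (hall ((hFm _).2 hw'))
  exfalso
  have ht1 : X.S.t ≠ 1 := fun e => by have := X.S.ht; rw [e, orderOf_one] at this; omega
  have htE : X.S.t ∈ X.S.E := X.S.D_le X.hcard (X.S.t_mem_D X.hcard)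
  obtain ⟨c1, c3⟩ := X.orbit_count O (i := 5) (fun v hv => ((hFm v).1 (hOF hv)).2) hinv
  have hpos : 0 < O.card := Finset.card_pos.2 ⟨w, hwO⟩
  have hlt : O.card < 18 := hFc ▸ Finset.card_lt_card ⟨hOF, hall⟩
  have hO9 : O.card = 9 := by omega
  have hinv' : ∀ d ∈ X.NC, ∀ v ∈ F \ O, act z d v ∈ F \ O := fun d hd v hv => by
    rw [Finset.mem_sdiff] at hv ⊢
    refine ⟨(hFm _).2 (X.five_conj hd ((hFm v).1 hv.1)), fun h => hv.2 ?_⟩
    have := hinv _ (inv_mem hd) _ h
    rwa [act_inv_act (X.NC_le_HH hd)] at this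
  have hO9' : (F \ O).card = 9 := by rw [Finset.card_sdiff_of_subset hOF]; omega
  obtain ⟨c1', -⟩ := X.orbit_count (F \ O) (i := 5) (fun v hv => ((hFm v).1 (Finset.mem_sdiff.1 hv).1).2) hinv'
  obtain ⟨g, hg, hg5⟩ := X.exists_five_NS
  obtain ⟨d, hd, hdN, hdg⟩ := X.exists_NC hg
  -- so every line is fixed
  have hfix : ∀ m ∈ X.S.E, g * m * g⁻¹ = m := by
    intro m hm
    by_cases hm1 : m = 1
    · rw [hm1]; group
    obtain ⟨k, hk, hkm⟩ := X.S.trans X.hcard hm hm1
    obtain ⟨e, he, heN, hek⟩ := X.exists_NC hk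
    have hex : ∀ s : Finset (VV z), (∀ c ∈ X.NC, ∀ v ∈ s, act z c v ∈ s) →
        0 < (s.filter fun v => v ∈ X.RR X.S.t).card → ∃ v ∈ s, v ∈ X.RR m := fun s hs hp => by
      obtain ⟨v, hv⟩ := Finset.card_pos.1 hp
      rw [Finset.mem_filter] at hv
      refine ⟨act z e v, hs e heN v hv.1, ?_⟩
      have h := X.RR_conj he (hek ▸ hk) htE hv.2
      rwa [hek, hkm] at h
    obtain ⟨v, hv, hvm⟩ := hex O hinv (by omega)
    obtain ⟨u, hu, hum⟩ := hex (F \ O) hinv' (by omega)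
    have hv0 : v ≠ 0 := ((hFm v).1 (hOF hv)).2.1
    have hu0 : u ≠ 0 := ((hFm u).1 (Finset.mem_sdiff.1 hu).1).2.1
    have hl : ∀ x : VV z, x ≠ 0 → x ∈ X.RR m → act z d x ∈ X.ln x → g * m * g⁻¹ ∈ X.linesAt x := by
      intro x hx0 hxm hx
      rw [← X.linesAt_ln hx (fun e' => hx0 (act_injective hd.1 (e'.trans (map_zero _).symm)))]
      have := X.linesAt_conj_mem hd (hdg ▸ hg) (⟨hm, hm1, hxm⟩ : m ∈ X.linesAt x)
      rwa [hdg] at this
    have hv' := hl v hv0 hvm (X.fix_three O hO9 (fun h => ((hFm 0).1 (hOF h)).2.1 rfl) hinv hdN hd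
      (by rw [hdg, hg5]) hv)
    have hu' := hl u hu0 hum (X.fix_three (F \ O) hO9' (fun h => ((hFm 0).1 (Finset.mem_sdiff.1 h).1).2.1 rfl)
      hinv' hdN hd (by rw [hdg, hg5]) hu)
    by_contra hne
    have hi := X.RR_inter hv'.1 hm hv'.2.1 hm1 hne hv0 hv'.2.2 hvm
    have huv : u ∈ X.ln v := hi ▸ ⟨hu'.2.2, hum⟩
    refine (Finset.mem_sdiff.1 hu).2 ?_
    have hp := X.P_le_NC X.pp_mem
    rcases (mem_line X.L.J).1 huv with e' | e' | e' | e'
    · exact absurd e' hu0
    · exact e' ▸ hv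
    · exact e' ▸ hinv _ hp v hv
    · rw [e', ← act_act X.L.J X.pp_mem X.pp_ne]
      exact hinv _ hp _ (hinv _ hp v hv)
  have hgE : g ∈ X.S.E := by
    rw [← X.S.centralizer_E X.hcard, mem_centralizer_iff]
    exact fun m hm => (mul_inv_eq_iff_eq_mul.1 (hfix m hm)).symm
  have hd5 := X.S.E.orderOf_dvd_natCard hgE
  rw [X.S.card_E X.hcard, hg5] at hd5
  norm_num at hd5

/-- Transitivity on the vectors of degree three. -/
theorem three_trans {w w' : VV z} (hw : w ∈ X.WV) (hw0 : w ≠ 0) (hd : X.deg w = 3) (hw' : w' ∈ X.WV)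
    (hw0' : w' ≠ 0) (hd' : X.deg w' = 3) : ∃ d ∈ X.NC, act z d w = w' := by
  classical
  haveI := Fintype.ofFinite (VV z)
  set F := Finset.univ.filter fun v => v ∈ X.WV ∧ v ≠ 0 ∧ X.deg v = 3 with hF
  have hFm : ∀ v, v ∈ F ↔ v ∈ X.WV ∧ v ≠ 0 ∧ X.deg v = 3 := fun v => by simp [hF]
  have hFinv : ∀ d ∈ X.NC, ∀ v ∈ F, act z d v ∈ F := fun d hd v hv => by
    obtain ⟨a, b, c⟩ := (hFm v).1 hv
    exact (hFm _).2 ⟨X.NC_WV hd a, fun e => b (act_injective (X.NC_le_HH hd) (e.trans (map_zero _).symm)),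
      (X.deg_conj hd v).trans c⟩
  have ht1 : X.S.t ≠ 1 := fun e => by have := X.S.ht; rw [e, orderOf_one] at this; omega
  have htE : X.S.t ∈ X.S.E := X.S.D_le X.hcard (X.S.t_mem_D X.hcard)
  -- no invariant set meets every line in one point
  have none : ∀ s : Finset (VV z), s ⊆ F → (∀ d ∈ X.NC, ∀ v ∈ s, act z d v ∈ s) →
      (s.filter fun v => v ∈ X.RR X.S.t).card ≠ 3 := by
    intro s hsF hs hc
    obtain ⟨v, hv⟩ := Finset.card_pos.1 (show 0 < (s.filter fun v => v ∈ X.RR X.S.t).card by omega)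
    rw [Finset.mem_filter] at hv
    obtain ⟨-, hv0, hv3⟩ := (hFm v).1 (hsF hv.1)
    have e3 : (Finset.univ.filter fun u => u ∈ X.ln v).erase 0 = s.filter fun u => u ∈ X.RR X.S.t := by
      refine Finset.eq_of_subset_of_card_le (fun u hu => ?_) ?_
      · simp only [Finset.mem_erase, Finset.mem_filter, Finset.mem_univ, true_and] at hu ⊢
        refine ⟨?_, X.ln_le (fun x hx => X.RR_act_P htE hx) hv.2 hu.2⟩
        have hp := X.P_le_NC X.pp_mem
        rcases (mem_line X.L.J).1 hu.2 with rfl | rfl | rfl | rfl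
        · exact absurd rfl hu.1
        · exact hv.1
        · exact hs _ hp _ hv.1
        · rw [← act_act X.L.J X.pp_mem X.pp_ne]
          exact hs _ hp _ (hs _ hp _ hv.1)
      · rw [Finset.card_erase_of_mem (by simp [zero_mem]), ← Fintype.card_subtype, ← Nat.card_eq_fintype_card,
          show Nat.card {u // u ∈ X.ln v} = 4 from X.card_ln hv0, hc]
    have hfix : ∀ g, Commute g X.S.t → ∀ m ∈ X.linesAt v, g * m * g⁻¹ ∈ X.linesAt v := by
      intro g hg m hm
      have hgn := X.S.C_le X.hcard (mem_centralizer_singleton_iff.2 hg)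
      obtain ⟨c, hc', hcN, hcg⟩ := X.exists_NC hgn
      have h1 := X.RR_conj hc' (hcg ▸ hgn) htE hv.2
      rw [hcg, hg.eq, mul_inv_cancel_right] at h1
      have h2 : act z c v ∈ s.filter fun u => u ∈ X.RR X.S.t := Finset.mem_filter.2 ⟨hs c hcN v hv.1, h1⟩
      rw [← e3] at h2
      simp only [Finset.mem_erase, Finset.mem_filter, Finset.mem_univ, true_and] at h2
      rw [← X.linesAt_ln h2.2 h2.1, ← hcg]
      exact X.linesAt_conj_mem hc' (hcg ▸ hgn) hm
    set T := X.linesAt v \ {X.S.t} with hT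
    have htl : X.S.t ∈ X.linesAt v := ⟨htE, ht1, hv.2⟩
    have hT2 : T.ncard = 2 := by
      rw [hT, Set.ncard_sdiff_singleton_of_mem htl]
      rw [deg] at hv3
      omega
    have hrfix : ∀ y ∈ T, y ∈ X.S.D := by
      intro y hy
      refine mem_D_of_fixed X.hcard X.S hy.1.1 ?_
      have hTs : ∀ x ∈ T, X.S.r * x * X.S.r⁻¹ ∈ T := fun x hx => ⟨hfix _ X.S.hrt x hx.1, fun e => hx.2 (by
        refine mul_left_cancel (mul_right_cancel (e.trans ?_))
        rw [X.S.hrt.eq, mul_inv_cancel_right])⟩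
      by_contra hne
      obtain ⟨a, b, hab, hTe⟩ := Set.ncard_eq_two.1 hT2
      have h1 := hTs y hy
      have h2 := hTs _ h1
      have h3 := r_cube X.hcard X.S y
      have hinj : ∀ p q, X.S.r * p * X.S.r⁻¹ = X.S.r * q * X.S.r⁻¹ → p = q := fun p q e =>
        mul_left_cancel (mul_right_cancel e)
      rw [hTe] at hy h1 h2
      simp only [Set.mem_insert_iff, Set.mem_singleton_iff] at hy h1 h2
      have hne2 : X.S.r * (X.S.r * y * X.S.r⁻¹) * X.S.r⁻¹ ≠ X.S.r * y * X.S.r⁻¹ := fun e => hne (hinj _ _ e)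
      have hne3 : X.S.r * (X.S.r * y * X.S.r⁻¹) * X.S.r⁻¹ ≠ y := fun e => hne (by rw [e] at h3; exact h3)
      rcases hy with hy | hy <;> rcases h1 with h1 | h1 <;> rcases h2 with h2 | h2 <;>
        first
        | exact hne (h1.trans hy.symm)
        | exact hne2 (h2.trans h1.symm)
        | exact hne3 (h2.trans hy.symm)
    have hDeq : X.linesAt v = (X.S.D : Set _) \ {1} := by
      refine Set.eq_of_subset_of_ncard_le (fun y hy => ⟨?_, hy.2.1⟩) ?_
      · by_cases hyt : y = X.S.t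
        · rw [hyt]; exact X.S.t_mem_D X.hcard
        · exact hrfix y ⟨hy, hyt⟩
      · rw [Set.ncard_sdiff_singleton_of_mem (one_mem _), ← Nat.card_coe_set_eq,
          show Nat.card ((X.S.D : Subgroup _) : Set ↥Cfsg.Spor.M22) = 4 from X.S.card_D X.hcard]
        rw [deg] at hv3
        omega
    obtain ⟨u, hu, hu1, hut⟩ := X.S.exists_u X.hcard
    have h8 := eight_le_invariant X.hcard X.S (X.S.D_le X.hcard) (X.S.t_mem_D X.hcard) (fun g hg y hy => by
      by_cases hy1 : y = 1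
      · rw [hy1]; simp [one_mem]
      exact (hDeq ▸ hfix g hg y (hDeq.symm ▸ ⟨hy, hy1⟩) : g * y * g⁻¹ ∈ (X.S.D : Set _) \ {1}).1)
      ⟨u, hu, hu1, hut⟩
    rw [X.S.card_D X.hcard] at h8
    omega
  set O := F.filter fun v => ∃ d ∈ X.NC, act z d w = v with hO
  have hwF : w ∈ F := (hFm w).2 ⟨hw, hw0, hd⟩
  have hinv : ∀ d ∈ X.NC, ∀ v ∈ O, act z d v ∈ O := fun d hd v hv => by
    rw [hO, Finset.mem_filter] at hv ⊢
    obtain ⟨e, he, rfl⟩ := hv.2
    exact ⟨hFinv d hd _ hv.1, d * e, mul_mem hd he, act_mul (X.NC_le_HH hd) (X.NC_le_HH he) w⟩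
  by_cases hall : F ⊆ O
  · exact (Finset.mem_filter.1 (hall ((hFm w').2 ⟨hw', hw0', hd'⟩))).2
  exfalso
  have hinv' : ∀ d ∈ X.NC, ∀ v ∈ F \ O, act z d v ∈ F \ O := fun d hd v hv => by
    rw [Finset.mem_sdiff] at hv ⊢
    refine ⟨hFinv d hd v hv.1, fun h => hv.2 ?_⟩
    have := hinv _ (inv_mem hd) _ h
    rwa [act_inv_act (X.NC_le_HH hd)] at this
  have hOF : O ⊆ F := Finset.filter_subset _ _
  obtain ⟨c1, c2⟩ := X.orbit_count O (i := 3) (fun v hv => ((hFm v).1 (hOF hv)).2) hinv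
  obtain ⟨c1', c2'⟩ := X.orbit_count (F \ O) (i := 3)
    (fun v hv => ((hFm v).1 (Finset.mem_sdiff.1 hv).1).2) hinv'
  have hpos : 0 < O.card := Finset.card_pos.2
    ⟨w, Finset.mem_filter.2 ⟨hwF, 1, one_mem _, act_one w⟩⟩
  have hpos' : 0 < (F \ O).card := Finset.card_pos.2 (Finset.sdiff_nonempty.2 hall)
  have hF45 : F.card ≤ 45 := by
    have h : F ∪ (Set.toFinite X.five).toFinset ⊆ (Finset.univ.filter fun v => v ∈ X.WV).erase 0 := by
      intro v hv
      simp only [Finset.mem_union, hFm, Set.Finite.mem_toFinset, Finset.mem_erase, Finset.mem_filter,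
        Finset.mem_univ, true_and] at hv ⊢
      rcases hv with h | h <;> exact ⟨h.2.1, h.1⟩
    have h64 : (Finset.univ.filter fun v : VV z => v ∈ X.WV).card = 64 := by
      rw [← Fintype.card_subtype, ← Nat.card_eq_fintype_card]
      exact X.card_WV.1.trans (by norm_num)
    have hc := Finset.card_le_card h
    rw [Finset.card_union_of_disjoint (Finset.disjoint_left.2 fun v hv hv' => by
        have h3 := ((hFm v).1 hv).2.2
        have h5 := ((Set.Finite.mem_toFinset _).1 hv').2.2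
        omega),
      ← Set.ncard_eq_toFinset_card, X.five_ncard, Finset.card_erase_of_mem (by simp [zero_mem]), h64] at hc
    omega
  rw [Finset.card_sdiff_of_subset hOF] at c1' hpos'
  have := none O hOF hinv
  have := none (F \ O) Finset.sdiff_subset hinv'
  omega

/-- The stabiliser of a point of degree five. -/
theorem card_St_inf {w : VV z} (hw : w ∈ X.five) : Nat.card ↥(X.St w ⊓ X.NS) = 960 := by
  classical
  haveI := Fintype.ofFinite ↥X.NS
  set F := (Set.toFinite X.five).toFinset with hF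
  have hFm : ∀ v, v ∈ F ↔ v ∈ X.five := fun v => Set.Finite.mem_toFinset _
  have hw0 := hw.2.1
  let lift : ↥X.NS → G := fun k => (X.exists_NC k.2).choose
  have hlC : ∀ k, lift k ∈ CC z P := fun k => (X.exists_NC k.2).choose_spec.choose
  have hlN : ∀ k, lift k ∈ X.NC := fun k => (X.exists_NC k.2).choose_spec.choose_spec.1
  have hlπ : ∀ k, X.π ⟨lift k, hlC k⟩ = k := fun k => (X.exists_NC k.2).choose_spec.choose_spec.2
  let f : ↥X.NS → AddSubgroup (VV z) := fun k => X.ln (act z (lift k) w)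
  have hf : ∀ k k', f k = f k' ↔ (k : ↥Cfsg.Spor.M22)⁻¹ * k' ∈ X.St w := by
    intro k k'
    have hc : (lift k)⁻¹ * lift k' ∈ CC z P := mul_mem (inv_mem (hlC k)) (hlC k')
    have e : (k : ↥Cfsg.Spor.M22)⁻¹ * k' = X.π ⟨(lift k)⁻¹ * lift k', hc⟩ := by
      conv_lhs => rw [← hlπ k, ← hlπ k', ← map_inv, ← map_mul]
      rfl
    rw [e, X.mem_St hw0 hc]
    constructor
    · intro e'
      have h := X.act_ln (inv_mem (hlC k)) (w := act z (lift k) w) (v := act z (lift k') w)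
        (by rw [show X.ln (act z (lift k) w) = X.ln (act z (lift k') w) from e']; exact self_mem_line _ _ _)
      rwa [act_inv_act (hlC k).1, ← act_mul (inv_mem (hlC k).1) (hlC k').1] at h
    · intro h
      have h2 := X.act_ln (hlC k) h
      rw [← act_mul (hlC k).1 hc.1, mul_inv_cancel_left] at h2
      exact (X.ln_eq h2 (X.five_conj (hlN k') hw).2.1).symm
  have himg : Finset.univ.image f = F.image X.ln := by
    ext L
    simp only [Finset.mem_image, Finset.mem_univ, true_and]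
    constructor
    · rintro ⟨k, rfl⟩
      exact ⟨_, (hFm _).2 (X.five_conj (hlN k) hw), rfl⟩
    · rintro ⟨v, hv, rfl⟩
      obtain ⟨d, hd, rfl⟩ := X.five_trans hw ((hFm v).1 hv)
      obtain ⟨hdC, hdn⟩ := X.mem_NC.1 hd
      refine ⟨⟨_, hdn⟩, ?_⟩
      set k : ↥X.NS := ⟨_, hdn⟩ with hk
      have hs : (lift k)⁻¹ * d ∈ X.StC w := X.six_StC hw0
        ((X.mem_ker_iff (⟨lift k, hlC k⟩⁻¹ * ⟨d, hdC⟩)).1 (by rw [map_mul, map_inv, hlπ, inv_mul_cancel]))
      have h2 := X.act_ln (hlC k) ((X.mem_StC hw0).1 hs).2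
      rw [← act_mul (hlC k).1 ((X.mem_StC hw0).1 hs).1.1, mul_inv_cancel_left] at h2
      exact (X.ln_eq h2 (X.five_conj hd hw).2.1).symm
  have h18 : F.card = 18 := by rw [hF, ← Set.ncard_eq_toFinset_card]; exact X.five_ncard
  have h6 : (F.image X.ln).card = 6 := by
    have := X.card_eq_three_mul F (fun h => ((hFm 0).1 h).2.1 rfl)
      (fun v hv => (hFm _).2 (X.five_conj (X.P_le_NC X.pp_mem) ((hFm v).1 hv)))
    omega
  have hfib : ∀ L ∈ Finset.univ.image f, (Finset.univ.filter fun k => f k = L).card =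
      Nat.card ↥(X.St w ⊓ X.NS) := by
    intro L hL
    obtain ⟨k, -, rfl⟩ := Finset.mem_image.1 hL
    rw [← Fintype.card_subtype, ← Nat.card_eq_fintype_card]
    exact Nat.card_congr
      { toFun := fun k' => ⟨(k : ↥Cfsg.Spor.M22)⁻¹ * k'.1, mem_inf.2 ⟨(hf k k'.1).1 k'.2.symm, mul_mem (inv_mem k.2) k'.1.2⟩⟩
        invFun := fun s => ⟨⟨(k : ↥Cfsg.Spor.M22) * s, mul_mem k.2 (mem_inf.1 s.2).2⟩, ((hf k _).2 (by
          show (k : ↥Cfsg.Spor.M22)⁻¹ * (k * s) ∈ _
          rw [inv_mul_cancel_left]; exact (mem_inf.1 s.2).1)).symm⟩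
        left_inv := fun k' => Subtype.ext (Subtype.ext (mul_inv_cancel_left _ _))
        right_inv := fun s => Subtype.ext (inv_mul_cancel_left _ _) }
  have h := Finset.card_eq_sum_card_image f Finset.univ
  rw [Finset.sum_congr rfl hfib, Finset.sum_const, himg, h6, Finset.card_univ, ← Nat.card_eq_fintype_card,
    show Nat.card ↥X.NS = 5760 from (X.S.orbit_eq X.hcard).2, smul_eq_mul] at h
  omega

/-- The lines through a point of degree five are pairwise non-orthogonal. -/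
theorem frm_five {w : VV z} (hw : w ∈ X.five) {m n : ↥Cfsg.Spor.M22} (hm : m ∈ X.linesAt w)
    (hn : n ∈ X.linesAt w) (hne : m ≠ n) : frm m n = 1 := by
  classical
  have hcard := X.hcard
  have hw0 := hw.2.1
  set K := X.St w ⊓ X.NS with hK
  have hKc : Nat.card ↥K = 960 := X.card_St_inf hw
  have hlines : ∀ k ∈ K, ∀ x ∈ X.linesAt w, k * x * k⁻¹ ∈ X.linesAt w := by
    intro k hk x hx
    obtain ⟨d, hd, hdN, hdk⟩ := X.exists_NC hk.2
    have h := X.linesAt_conj_mem hd (hdk ▸ hk.2) hx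
    have hs := (X.mem_St hw0 hd).1 (hdk ▸ hk.1)
    rw [X.linesAt_ln hs (fun e => hw0 (act_injective hd.1 (e.trans (map_zero _).symm))), hdk] at h
    exact h
  haveI : Fact (Nat.Prime 5) := ⟨by norm_num⟩
  obtain ⟨⟨g, hg⟩, hg5⟩ := exists_prime_orderOf_dvd_card' (G := ↥K) 5 (by rw [hKc]; norm_num)
  rw [Subgroup.orderOf_mk] at hg5
  have hgn : ∀ x ∈ X.linesAt w, ∀ k : ℕ, 0 < k → k < 5 → g ^ k * x * (g ^ k)⁻¹ ≠ x := by
    intro x hx k hk0 hk5 e
    have hgx : g ^ k ∈ centralizer ({x} : Set ↥Cfsg.Spor.M22) :=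
      mem_centralizer_singleton_iff.2 (mul_inv_eq_iff_eq_mul.1 e)
    have hd := Subgroup.orderOf_dvd_natCard _ hgx
    rw [show Nat.card (centralizer ({x} : Set ↥Cfsg.Spor.M22)) = 384 from
      M22Order.cen_involution hcard (X.S.orderOf_mem hcard hx.1 hx.2.1), orderOf_pow, hg5] at hd
    interval_cases k <;> norm_num at hd
  have horb : ∀ x ∈ X.linesAt w, (fun k : ℕ => g ^ k * x * (g ^ k)⁻¹) '' ↑(Finset.range 5) = X.linesAt w := by
    intro x hx
    have hinj : Set.InjOn (fun k : ℕ => g ^ k * x * (g ^ k)⁻¹) ↑(Finset.range 5) := by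
      intro i hi j hj e
      simp only [Finset.coe_range, Set.mem_Iio] at hi hj
      have key : ∀ i j : ℕ, i < j → j < 5 →
          g ^ i * x * (g ^ i)⁻¹ = g ^ j * x * (g ^ j)⁻¹ → False := by
        intro i j hij hj e
        refine hgn x hx (j - i) (by omega) (by omega) ?_
        have hs : g ^ j = g ^ i * g ^ (j - i) := by rw [← pow_add]; congr 1; omega
        rw [hs] at e
        refine mul_left_cancel (a := g ^ i) (mul_right_cancel (b := (g ^ i)⁻¹) ?_)
        rw [e]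
        group
      rcases lt_trichotomy i j with h | h | h
      · exact (key i j h hj e).elim
      · exact h
      · exact (key j i h hi e.symm).elim
    refine Set.eq_of_subset_of_ncard_le ?_ ?_
    · rintro _ ⟨k, -, rfl⟩
      exact hlines _ (pow_mem hg k) x hx
    · rw [hinj.ncard_image, Set.ncard_coe_finset, Finset.card_range]
      exact hw.2.2.le
  have hLE : X.S.E ≤ K := by
    intro e he
    obtain ⟨l, hl, el⟩ := X.exists_lift he
    refine mem_inf.2 ⟨?_, le_normalizer he⟩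
    rw [← el, X.mem_St hw0, hw.1 l hl]
    exact self_mem_line _ _ _
  have hspan : closure (X.linesAt w) = X.S.E := by
    have hle : closure (X.linesAt w) ≤ X.S.E := (closure_le _).2 fun x hx => hx.1
    refine eq_of_le_of_card_ge hle ?_
    have hsub : (X.linesAt w ∪ {1}) ⊆ (closure (X.linesAt w) : Set _) :=
      Set.union_subset subset_closure (Set.singleton_subset_iff.2 (one_mem _))
    have h1 := Set.ncard_le_ncard hsub
    rw [Set.ncard_union_eq (Set.disjoint_singleton_right.2 fun h => h.2.1 rfl), Set.ncard_singleton,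
      show (X.linesAt w).ncard = 5 from hw.2.2, ← Nat.card_coe_set_eq] at h1
    change 5 + 1 ≤ Nat.card ↥(closure (X.linesAt w)) at h1
    have h16 := X.S.card_E hcard
    have hd16 : Nat.card ↥(closure (X.linesAt w)) ∣ 2 ^ 4 := by
      rw [show (2 : ℕ) ^ 4 = 16 from rfl, ← h16]
      exact card_dvd_of_le hle
    obtain ⟨j, hj, hje⟩ := (Nat.dvd_prime_pow Nat.prime_two).1 hd16
    have hmod : Nat.card (closure (X.linesAt w)) % 5 = 1 := by
      have hgc : ∀ y ∈ closure (X.linesAt w), g * y * g⁻¹ ∈ closure (X.linesAt w) := by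
        intro y hy
        have hle' : closure (X.linesAt w) ≤ (closure (X.linesAt w)).comap (MulAut.conj g).toMonoidHom :=
          (closure_le _).2 fun x hx => subset_closure (hlines g hg x hx)
        exact hle' hy
      have hn : ∀ (n : ℕ), ∀ y ∈ closure (X.linesAt w), g ^ n * y * (g ^ n)⁻¹ ∈ closure (X.linesAt w) := by
        intro n
        induction n with
        | zero => intro y hy; simpa using hy
        | succ n ih =>
          intro y hy
          have := hgc _ (ih y hy)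
          rwa [show g * (g ^ n * y * (g ^ n)⁻¹) * g⁻¹ = g ^ (n + 1) * y * (g ^ (n + 1))⁻¹ by
            rw [pow_succ' g n]; group] at this
      have h5 := M22Order.dvd_card_of_free_conj (zpowers g) ((closure (X.linesAt w) : Set _) \ {1}) ?_ ?_
      · rw [Nat.card_zpowers, hg5, Set.ncard_sdiff_singleton_of_mem (one_mem _), ← Nat.card_coe_set_eq] at h5
        have := Nat.card_pos (α := ↥(closure (X.linesAt w)))
        change 5 ∣ Nat.card ↥(closure (X.linesAt w)) - 1 at h5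
        omega
      · intro p hp y hy
        obtain ⟨n, rfl⟩ := (mem_powers_iff_mem_zpowers).2 hp
        exact ⟨hn n y hy.1, fun e => hy.2 (by simpa using e)⟩
      · intro p hp y hy hfix
        obtain ⟨n, rfl⟩ := (mem_powers_iff_mem_zpowers).2 hp
        dsimp only at hfix ⊢
        by_contra hne1
        have hyE := hle hy.1
        have hgx : g ^ n ∈ centralizer ({y} : Set ↥Cfsg.Spor.M22) :=
          mem_centralizer_singleton_iff.2 (mul_inv_eq_iff_eq_mul.1 hfix)
        have hd := Subgroup.orderOf_dvd_natCard _ hgx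
        rw [show Nat.card (centralizer ({y} : Set ↥Cfsg.Spor.M22)) = 384 from
          M22Order.cen_involution hcard (X.S.orderOf_mem hcard hyE hy.2)] at hd
        have ho : orderOf (g ^ n) = 5 :=
          ((Nat.dvd_prime (by norm_num : Nat.Prime 5)).1 (hg5 ▸ orderOf_pow_dvd n)).resolve_left
            fun e => hne1 (orderOf_eq_one_iff.1 e)
        rw [ho] at hd
        norm_num at hd
    rw [hje] at h1 hmod ⊢
    interval_cases j <;> simp_all
  -- an element of order three fixing `m`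
  haveI : Fact (Nat.Prime 3) := ⟨Nat.prime_three⟩
  have hmK : m ∈ K := hLE hm.1
  have horbm : {x | ∃ k ∈ K, k * m * k⁻¹ = x} = X.linesAt w := by
    refine Set.Subset.antisymm (by rintro _ ⟨k, hk, rfl⟩; exact hlines k hk m hm) ?_
    rw [← horb m hm]
    rintro _ ⟨k, -, rfl⟩
    exact ⟨g ^ k, pow_mem hg k, rfl⟩
  have hstab := M22Order.ncard_conj_orbit K hmK
  rw [horbm, show (X.linesAt w).ncard = 5 from hw.2.2, hKc] at hstab
  obtain ⟨⟨h, hh⟩, hh3⟩ := exists_prime_orderOf_dvd_card'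
    (G := ↥(centralizer ({m} : Set ↥Cfsg.Spor.M22) ⊓ K)) 3 (by
      rw [show Nat.card ↥(centralizer ({m} : Set ↥Cfsg.Spor.M22) ⊓ K) = 192 by omega]; norm_num)
  rw [Subgroup.orderOf_mk] at hh3
  have hhm : h * m * h⁻¹ = m := by
    rw [mem_centralizer_singleton_iff.1 hh.1, mul_inv_cancel_right]
  obtain ⟨y, hy, hhy⟩ : ∃ y ∈ X.linesAt w, h * y * h⁻¹ ≠ y := by
    by_contra hcon
    push Not at hcon
    have hle : closure (X.linesAt w) ≤ centralizer ({h} : Set ↥Cfsg.Spor.M22) := (closure_le _).2 fun x hx =>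
      mem_centralizer_singleton_iff.2 (mul_inv_eq_iff_eq_mul.1 (hcon x hx)).symm
    rw [hspan] at hle
    have hhE : h ∈ X.S.E := by
      rw [← X.S.centralizer_E hcard, mem_centralizer_iff]
      exact fun e he => mem_centralizer_singleton_iff.1 (hle he)
    have := X.S.E.orderOf_dvd_natCard hhE
    rw [X.S.card_E hcard, hh3] at this
    norm_num at this
  let F : ℕ → ZMod 2 := fun k => frm m (g ^ k * m * (g ^ k)⁻¹)
  have hg5' : g ^ 5 = 1 := hg5 ▸ pow_orderOf_eq_one g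
  have hsymm : ∀ k, k ≤ 5 → F k = F (5 - k) := fun k hk => by
    show frm m (g ^ k * m * (g ^ k)⁻¹) = _
    rw [← frm_conj (g ^ (5 - k)) m, show g ^ (5 - k) * (g ^ k * m * (g ^ k)⁻¹) * (g ^ (5 - k))⁻¹ = m by
      rw [show g ^ (5 - k) * (g ^ k * m * (g ^ k)⁻¹) * (g ^ (5 - k))⁻¹ =
        (g ^ (5 - k) * g ^ k) * m * (g ^ (5 - k) * g ^ k)⁻¹ by group, ← pow_add, Nat.sub_add_cancel hk, hg5']
      group, frm_comm]
  have hidx : ∀ x ∈ X.linesAt w, x ≠ m → ∃ k, 0 < k ∧ k < 5 ∧ g ^ k * m * (g ^ k)⁻¹ = x := by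
    intro x hx hxm
    obtain ⟨k, hk, e⟩ := (horb m hm).symm ▸ hx
    simp only [Finset.coe_range, Set.mem_Iio] at hk
    refine ⟨k, Nat.pos_of_ne_zero fun h0 => hxm ?_, hk, e⟩
    subst h0
    rw [← e]; simp
  have hinj : ∀ a b, h * a * h⁻¹ = h * b * h⁻¹ → a = b := fun a b e => mul_left_cancel (mul_right_cancel e)
  have hhK : h ∈ K := hh.2
  have hy1 := hlines h hhK y hy
  have hy2 := hlines h hhK _ hy1
  have hym : y ≠ m := fun e => hhy (by rw [e, hhm])
  have hym1 : h * y * h⁻¹ ≠ m := fun e => hym (hinj _ _ (e.trans hhm.symm))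
  have hym2 : h * (h * y * h⁻¹) * h⁻¹ ≠ m := fun e => hym1 (hinj _ _ (e.trans hhm.symm))
  have hcube : h * (h * (h * y * h⁻¹) * h⁻¹) * h⁻¹ = y := by
    have h3 : h ^ 3 = 1 := hh3 ▸ pow_orderOf_eq_one h
    rw [pow_three'] at h3
    calc h * (h * (h * y * h⁻¹) * h⁻¹) * h⁻¹ = (h * h * h) * y * (h * h * h)⁻¹ := by group
      _ = y := by rw [h3]; group
  have hy02 : h * (h * y * h⁻¹) * h⁻¹ ≠ y := fun e => hhy (by rw [e] at hcube; exact hcube)
  have hy12 : h * (h * y * h⁻¹) * h⁻¹ ≠ h * y * h⁻¹ := fun e => hhy (hinj _ _ e)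
  obtain ⟨k0, a0, b0, e0⟩ := hidx y hy hym
  obtain ⟨k1, a1, b1, e1⟩ := hidx _ hy1 hym1
  obtain ⟨k2, a2, b2, e2⟩ := hidx _ hy2 hym2
  have f01 : F k0 = F k1 := by
    show frm m _ = frm m _
    rw [e0, e1, ← frm_conj h m y, hhm]
  have f12 : F k1 = F k2 := by
    show frm m _ = frm m _
    rw [e1, e2, ← frm_conj h m (h * y * h⁻¹), hhm]
  have hk01 : k0 ≠ k1 := fun e => hhy (by rw [← e1, ← e, e0])
  have hk02 : k0 ≠ k2 := fun e => hy02 (by rw [← e2, ← e, e0])
  have hk12 : k1 ≠ k2 := fun e => hy12 (by rw [← e2, ← e, e1])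
  have s1 := hsymm 1 (by norm_num)
  have s2 := hsymm 2 (by norm_num)
  simp only [Nat.reduceSub] at s1 s2
  have hall : F 1 = F 2 := by
    have hA : ∀ k, k = 1 ∨ k = 4 → F k = F 1 := fun k hk => by
      rcases hk with rfl | rfl
      exacts [rfl, s1.symm]
    have hB : ∀ k, k = 2 ∨ k = 3 → F k = F 2 := fun k hk => by
      rcases hk with rfl | rfl
      exacts [rfl, s2.symm]
    rcases (show (k0 = 1 ∨ k0 = 4) ∨ (k0 = 2 ∨ k0 = 3) by omega) with p | p <;>
      rcases (show (k1 = 1 ∨ k1 = 4) ∨ (k1 = 2 ∨ k1 = 3) by omega) with q | q <;>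
      rcases (show (k2 = 1 ∨ k2 = 4) ∨ (k2 = 2 ∨ k2 = 3) by omega) with r | r
    · omega
    · rw [← hA _ q, ← hB _ r, f12]
    · rw [← hA _ p, ← hB _ q, f01]
    · rw [← hA _ p, ← hB _ q, f01]
    · rw [← hA _ q, ← hB _ p, f01]
    · rw [← hA _ q, ← hB _ p, f01]
    · rw [← hA _ r, ← hB _ q, f12]
    · omega
  have hFk : ∀ k, 0 < k → k < 5 → F k = F 1 := fun k hk0 hk5 => by
    rcases (show k = 1 ∨ k = 2 ∨ k = 3 ∨ k = 4 by omega) with rfl | rfl | rfl | rfl
    exacts [rfl, hall.symm, s2.symm.trans hall.symm, s1.symm]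
  have hF1 : F 1 = 1 := by
    by_contra h1
    have h0 : F 1 = 0 := by
      have hz : ∀ a : ZMod 2, a ≠ 1 → a = 0 := by decide
      exact hz _ h1
    have hm0 : ∀ x ∈ X.linesAt w, frm m x = 0 := fun x hx => by
      by_cases hxm : x = m
      · rw [hxm, frm_self]
      obtain ⟨k, a, b, e⟩ := hidx x hx hxm
      have := hFk k a b
      rw [h0] at this
      rw [← e]
      exact this
    have hpair : ∀ x ∈ X.linesAt w, ∀ x' ∈ X.linesAt w, frm x x' = 0 := by
      intro x hx x' hx'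
      obtain ⟨k, -, e⟩ := (horb m hm).symm ▸ hx
      have hback : (g ^ k)⁻¹ * x' * g ^ k ∈ X.linesAt w := by
        simpa using hlines _ (inv_mem (pow_mem hg k)) x' hx'
      have := hm0 _ hback
      rw [← e, show x' = g ^ k * ((g ^ k)⁻¹ * x' * g ^ k) * (g ^ k)⁻¹ by group, frm_conj]
      exact this
    let R : ↥Cfsg.Spor.M22 → Subgroup ↥Cfsg.Spor.M22 := fun x =>
      { carrier := {v | v ∈ X.S.E ∧ ∀ u ∈ X.S.E, u = x → frm u v = 0}
        one_mem' := ⟨one_mem _, fun u _ _ => frm_one u⟩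
        mul_mem' := fun {a b} ha hb => ⟨mul_mem ha.1 hb.1, fun u hu e => by
          rw [X.S.frm_mul hcard hu ha.1 hb.1, ha.2 u hu e, hb.2 u hu e, add_zero]⟩
        inv_mem' := fun {a} ha => by
          rw [inv_eq_of_mul_eq_one_right (X.S.sq hcard ha.1)]; exact ha }
    have hxall : ∀ x ∈ X.linesAt w, ∀ v ∈ X.S.E, frm x v = 0 := fun x hx v hv => by
      have hle : closure (X.linesAt w) ≤ R x := (closure_le _).2 fun x' hx' =>
        ⟨hx'.1, fun u _ e => e ▸ hpair x hx x' hx'⟩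
      exact (hle (hspan.symm ▸ hv)).2 x hx.1 rfl
    have hvv : ∀ v ∈ X.S.E, ∀ u ∈ X.S.E, frm v u = 0 := fun v hv u hu => by
      have hle : closure (X.linesAt w) ≤ R v := (closure_le _).2 fun x' hx' =>
        ⟨hx'.1, fun a ha e => by rw [frm_comm]; exact hxall x' hx' a ha⟩
      exact (hle (hspan.symm ▸ hu)).2 v hv rfl
    obtain ⟨b₁, b₂, _, _, hb₁, hb₂, -, -, h12, -⟩ := X.S.exists_basis hcard
    rw [hvv b₁ hb₁ b₂ hb₂] at h12
    exact absurd h12 (by decide)
  obtain ⟨k, hk0, hk5, e⟩ := hidx n hn (Ne.symm hne)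
  rw [← e]
  exact (hFk k hk0 hk5).trans hF1

/-- Two points of degree five lie on a line. -/
theorem five_pair {w w' : VV z} (hw : w ∈ X.five) (hw' : w' ∈ X.five) :
    ∃ m ∈ X.linesAt w, w' ∈ X.RR m := by
  classical
  haveI := Fintype.ofFinite (VV z)
  by_cases hin : w' ∈ X.ln w
  · obtain ⟨m, hm⟩ : (X.linesAt w).Nonempty := by
      rw [Set.nonempty_iff_ne_empty]
      intro e
      have h := hw.2.2
      rw [deg, e, Set.ncard_empty] at h
      omega
    exact ⟨m, hm, X.ln_le (fun x hx => X.RR_act_P hm.1 hx) hm.2.2 hin⟩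
  by_contra hcon
  push Not at hcon
  set L := (Set.toFinite (X.linesAt w)).toFinset with hL
  have hLm : ∀ m ∈ L, m ∈ X.linesAt w := fun m hm => (Set.Finite.mem_toFinset _).1 hm
  let A : ↥Cfsg.Spor.M22 → Finset (VV z) := fun m =>
    Finset.univ.filter fun v => v ∈ X.five ∧ v ∈ X.RR m ∧ v ∉ X.ln w
  have hA : ∀ m ∈ L, 3 ≤ (A m).card := fun m hm => by
    obtain ⟨hmE, hm1, hwm⟩ := hLm m hm
    obtain ⟨u, hu, hum, hne, -⟩ := X.two_points hmE hm1 hw hwm
    have hsub : (Finset.univ.filter fun v => v ∈ X.ln u).erase 0 ⊆ A m := fun v hv => by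
      simp only [A, Finset.mem_erase, Finset.mem_filter, Finset.mem_univ, true_and] at hv ⊢
      refine ⟨X.five_ln hu hv.2 hv.1, X.ln_le (fun x hx => X.RR_act_P hmE hx) hum hv.2, fun h => hne ?_⟩
      rw [← X.ln_eq h hv.1, X.ln_eq hv.2 hv.1]
      exact self_mem_line _ _ _
    refine le_trans ?_ (Finset.card_le_card hsub)
    rw [Finset.card_erase_of_mem (by simp [zero_mem]), ← Fintype.card_subtype, ← Nat.card_eq_fintype_card,
      show Nat.card {v // v ∈ X.ln u} = 4 from X.card_ln hu.2.1]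
  have hdis : (L : Set ↥Cfsg.Spor.M22).PairwiseDisjoint A := by
    intro m hm n hn hne
    obtain ⟨hmE, hm1, hwm⟩ := hLm m hm
    obtain ⟨hnE, hn1, hwn⟩ := hLm n hn
    refine Finset.disjoint_left.2 fun v hv hv' => ?_
    simp only [A, Finset.mem_filter, Finset.mem_univ, true_and] at hv hv'
    exact hv.2.2 (X.RR_inter hmE hnE hm1 hn1 hne hw.2.1 hwm hwn ▸ ⟨hv.2.1, hv'.2.1⟩)
  have hsub : L.biUnion A ⊆ ((Set.toFinite X.five).toFinset \ Finset.univ.filter fun v => v ∈ X.ln w).erase w' :=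
    fun v hv => by
      obtain ⟨m, hm, hv⟩ := Finset.mem_biUnion.1 hv
      simp only [A, Finset.mem_filter, Finset.mem_univ, true_and, Finset.mem_erase, Finset.mem_sdiff,
        Set.Finite.mem_toFinset] at hv ⊢
      exact ⟨fun e => hcon m (hLm m hm) (e ▸ hv.2.1), hv.1, hv.2.2⟩
  have hc := Finset.card_le_card hsub
  rw [Finset.card_biUnion hdis] at hc
  have hsum : 3 * L.card ≤ ∑ m ∈ L, (A m).card := by
    calc 3 * L.card = ∑ m ∈ L, 3 := by simp [mul_comm]
      _ ≤ _ := Finset.sum_le_sum hA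
  have hL5 : L.card = 5 := by
    rw [hL, ← Set.ncard_eq_toFinset_card]; exact hw.2.2
  have hbound : ((Set.toFinite X.five).toFinset \ Finset.univ.filter fun v => v ∈ X.ln w).card ≤ 15 := by
    have h1 : (Finset.univ.filter fun v => v ∈ X.ln w).erase 0 ⊆ (Set.toFinite X.five).toFinset := fun v hv => by
      simp only [Finset.mem_erase, Finset.mem_filter, Finset.mem_univ, true_and, Set.Finite.mem_toFinset] at hv ⊢
      exact X.five_ln hw hv.2 hv.1
    have h2 : (Set.toFinite X.five).toFinset \ Finset.univ.filter (fun v => v ∈ X.ln w) ⊆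
        (Set.toFinite X.five).toFinset \ (Finset.univ.filter fun v => v ∈ X.ln w).erase 0 :=
      Finset.sdiff_subset_sdiff Finset.Subset.rfl (Finset.erase_subset _ _)
    refine (Finset.card_le_card h2).trans ?_
    rw [Finset.card_sdiff_of_subset h1, ← Set.ncard_eq_toFinset_card, X.five_ncard,
      Finset.card_erase_of_mem (by simp [zero_mem]), ← Fintype.card_subtype, ← Nat.card_eq_fintype_card,
      show Nat.card {v // v ∈ X.ln w} = 4 from X.card_ln hw.2.1]
  have hw'mem : w' ∈ (Set.toFinite X.five).toFinset \ Finset.univ.filter fun v => v ∈ X.ln w := by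
    simp [hw', hin]
  rw [Finset.card_erase_of_mem hw'mem] at hc
  omega

/-- The sum of two independent vectors of degree five has degree three. -/
theorem five_add {w w' : VV z} (hw : w ∈ X.five) (hw' : w' ∈ X.five) (hne : w' ∉ X.ln w) :
    w + w' ∉ X.five := by
  intro hs
  have hJ := X.L.J
  obtain ⟨m, hm, hw'm⟩ := X.five_pair hw hw'
  obtain ⟨u, hu, -, hune, hall⟩ := X.two_points hm.1 hm.2.1 hw hm.2.2
  have hw'u : w' ∈ X.ln u := (hall w' hw' hw'm).resolve_left hne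
  rcases hall _ hs (add_mem hm.2.2 hw'm) with h | h
  · refine hne ?_
    have := add_mem (self_mem_line z X.pp w) h
    rwa [← add_assoc, VV.two hJ, zero_add] at this
  · have hwu : w ∈ X.ln u := by
      have := add_mem h hw'u
      rwa [add_assoc, VV.two hJ, add_zero] at this
    refine hune ?_
    rw [X.ln_eq hwu hw.2.1]
    exact self_mem_line _ _ _

/-- The vectors of degree five span the fixed space. -/
theorem five_span {S : AddSubgroup (VV z)} (hS : ∀ w ∈ X.five, w ∈ S) : X.WV ≤ S := by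
  have hcard := X.hcard
  have hline : ∀ m ∈ X.S.E, m ≠ 1 → X.RR m ≤ S := by
    intro m hm hm1
    obtain ⟨w, hwm, hw⟩ : ∃ w, w ∈ X.RR m ∧ w ∈ X.five := by
      by_contra hcon
      push Not at hcon
      have h := X.five_on_line hm hm1
      rw [show {w | w ∈ X.RR m ∧ w ∈ X.five} = ∅ from Set.eq_empty_iff_forall_notMem.2 fun w hw =>
        hcon w hw.1 hw.2, Set.ncard_empty] at h
      omega
    obtain ⟨u, hu, hum, hune, -⟩ := X.two_points hm hm1 hw hwm
    let f : ↥(X.ln w) × ↥(X.ln u) → ↥(X.RR m) := fun q =>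
      ⟨(q.1 : VV z) + q.2, add_mem (X.ln_le (fun x hx => X.RR_act_P hm hx) hwm q.1.2)
        (X.ln_le (fun x hx => X.RR_act_P hm hx) hum q.2.2)⟩
    have hinj : Function.Injective f := by
      rintro ⟨a, b⟩ ⟨a', b'⟩ e
      have e' : (a : VV z) + b = a' + b' := congrArg Subtype.val e
      have h1 : (a : VV z) + a' = b + b' := VV.eq_of_add X.L.J (by
        calc (a : VV z) + a' + (b + b') = (a + b) + (a' + b') := by abel
          _ = 0 := by rw [e', VV.two X.L.J])
      have hzero : (a : VV z) + a' = 0 := by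
        by_contra h0
        refine hune ?_
        have hb : (a : VV z) + a' ∈ X.ln u := h1 ▸ add_mem b.2 b'.2
        rw [← X.ln_eq (add_mem a.2 a'.2) h0, X.ln_eq hb h0]
        exact self_mem_line _ _ _
      exact Prod.ext (Subtype.ext (VV.eq_of_add X.L.J hzero))
        (Subtype.ext (VV.eq_of_add X.L.J (h1 ▸ hzero)))
    have hsurj := ((Nat.bijective_iff_injective_and_card f).2 ⟨hinj, by
      rw [Nat.card_prod, X.card_ln hw.2.1, X.card_ln hu.2.1, X.card_RR hm hm1]⟩).2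
    intro v hv
    obtain ⟨⟨a, b⟩, e⟩ := hsurj ⟨v, hv⟩
    have e' : (a : VV z) + b = v := congrArg Subtype.val e
    rw [← e']
    refine add_mem ?_ ?_
    · by_cases h0 : (a : VV z) = 0
      · rw [h0]; exact zero_mem _
      · exact hS _ (X.five_ln hw a.2 h0)
    · by_cases h0 : (b : VV z) = 0
      · rw [h0]; exact zero_mem _
      · exact hS _ (X.five_ln hu b.2 h0)
  have htE : X.S.t ∈ X.S.E := X.S.D_le hcard (X.S.t_mem_D hcard)
  have ht1 : X.S.t ≠ 1 := fun e => by have := X.S.ht; rw [e, orderOf_one] at this; omega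
  obtain ⟨u, hu, hu1, hut⟩ := X.S.exists_u hcard
  have huE := X.S.D_le hcard hu
  rw [← (X.RR_pair htE huE ht1 hu1 (Ne.symm hut)).1]
  exact sup_le (hline _ htE ht1) (hline _ huE hu1)

end Cfsg.Agent.J4Eleven.Chart
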