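import Cfsg.Agent.Lib.J4V.Stab
import Cfsg.Agent.Lib.J4Local.Line
import Cfsg.Agent.Lib.M22Order.Local

/-!
# Janko four type: the fifteen lines in the fixed space

The ranges of the lifts of the fifteen involutions of the elementary subgroup of order 16 are lines of the
projective plane over the field of four elements on the fixed space, two of them meeting in a point.
-/

set_option autoImplicit false
set_option linter.style.haveILetI false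
set_option linter.unusedSectionVars false

namespace Cfsg.Agent.J4Eleven.Chart

open Subgroup
open Cfsg.Agent.J4Local
open Cfsg.Agent.M22Order (Setup)

universe u

variable {G : Type u} [Group G] [Finite G] {z : G} {P : Subgroup G} (X : Chart z P)

include X in
theorem range_eq_perp_ker {c : G} (hc : c ∈ HH z) :
    (nil z c).range = perp X.L.J (nil z c).ker := by
  refine AddSubgroup.eq_of_le_of_card_ge ?_ ?_
  · rintro _ ⟨y, rfl⟩ w hw
    conv_lhs => rw [nil_apply, BB_add_left X.L.J, ← (mem_ker_nil X.L.J).1 hw, BB_act X.L.J hc,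
      (mem_ker_nil X.L.J).1 hw]
    exact CharTwo.add_self_eq_zero _
  · have h1 := card_mul_card_perp X.L.J (nil z c).ker
    have h3 := card_ker_mul_range (nil z c)
    rw [card_VV X.L.J] at h3
    exact le_of_eq (Nat.eq_of_mul_eq_mul_left Nat.card_pos (h1.trans h3.symm))

/-- The chosen element of order three. -/
noncomputable def pp : G := X.L.J.exists_gen.choose

theorem pp_mem : X.pp ∈ P := X.L.J.exists_gen.choose_spec.1

theorem pp_ne : X.pp ≠ 1 := X.L.J.exists_gen.choose_spec.2.1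

/-- The point through a vector. -/
noncomputable abbrev ln (w : VV z) : AddSubgroup (VV z) := line z X.pp w

theorem card_ln {w : VV z} (hw : w ≠ 0) : Nat.card ↥(X.ln w) = 4 :=
  card_line X.L.J X.pp_mem X.pp_ne hw

theorem act_P_cases {p : G} (hp : p ∈ P) (w : VV z) : act z p w ∈ X.ln w := by
  have hJ := X.L.J
  have hz : zpowers X.pp = P := by
    refine eq_of_le_of_card_ge (zpowers_le.2 X.pp_mem) ?_
    have hd : orderOf X.pp ∣ 3 := hJ.cardP ▸ P.orderOf_dvd_natCard X.pp_mem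
    rcases (Nat.dvd_prime Nat.prime_three).1 hd with e | e
    · exact absurd (orderOf_eq_one_iff.1 e) X.pp_ne
    · rw [Nat.card_zpowers, e, hJ.cardP]
  rw [← hz] at hp
  obtain ⟨n, rfl⟩ := mem_zpowers_iff.1 hp
  have key : ∀ k : ℕ, act z (X.pp ^ k) w ∈ X.ln w := fun k => by
    induction k with
    | zero => rw [pow_zero, act_one]; exact self_mem_line _ _ _
    | succ k ih =>
      rw [pow_succ', act_mul (hJ.P_le_HH X.pp_mem) (pow_mem (hJ.P_le_HH X.pp_mem) k)]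
      exact act_mem_line hJ X.pp_mem X.pp_ne ih
  have h3 := pow_three_eq_one hJ X.pp_mem
  obtain ⟨k, hk⟩ : ∃ k : ℕ, X.pp ^ n = X.pp ^ k := ⟨(n % 3).toNat, by
    rw [← zpow_natCast, Int.toNat_of_nonneg (Int.emod_nonneg _ (by norm_num))]
    conv_lhs => rw [← Int.emod_add_mul_ediv n 3, zpow_add, zpow_mul]
    rw [show X.pp ^ (3 : ℤ) = 1 from by exact_mod_cast h3, one_zpow, mul_one]⟩
  rw [hk]
  exact key k

theorem ln_le {w : VV z} {S : AddSubgroup (VV z)} (h : ∀ v ∈ S, act z X.pp v ∈ S) (hw : w ∈ S) :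
    X.ln w ≤ S := line_le X.pp hw (h w hw)

theorem ln_eq {v w : VV z} (hv : v ∈ X.ln w) (hv0 : v ≠ 0) : X.ln v = X.ln w := by
  have hw : w ≠ 0 := fun e => hv0 (by
    subst e
    rcases (mem_line X.L.J).1 hv with e | e | e | e <;> simpa using e)
  refine AddSubgroup.eq_of_le_of_card_ge (X.ln_le (fun x hx => act_mem_line X.L.J X.pp_mem X.pp_ne hx) hv) ?_
  rw [X.card_ln hw, X.card_ln hv0]

/-- The preimage in `C` of the normaliser of the elementary subgroup of order 16. -/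
def NC : Subgroup G := (X.NS.comap X.π).map (CC z P).subtype

theorem mem_NC {d : G} : d ∈ X.NC ↔ ∃ hd : d ∈ CC z P, X.π ⟨d, hd⟩ ∈ X.NS := by
  constructor
  · rintro ⟨⟨e, he⟩, hn, rfl⟩
    exact ⟨he, hn⟩
  · rintro ⟨hd, hn⟩
    exact ⟨⟨d, hd⟩, hn, rfl⟩

theorem NC_le : X.NC ≤ CC z P := map_subtype_le _

theorem NC_le_HH : X.NC ≤ HH z := X.NC_le.trans (CC_le_HH z P)

theorem P_le_NC : P ≤ X.NC := fun p hp =>
  X.mem_NC.2 ⟨X.L.J.P_le_CC hp, by rw [X.act_P p hp]; exact one_mem _⟩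

theorem exists_NC {k : ↥Cfsg.Spor.M22} (hk : k ∈ X.NS) :
    ∃ d, ∃ hd : d ∈ CC z P, d ∈ X.NC ∧ X.π ⟨d, hd⟩ = k := by
  obtain ⟨⟨d, hd⟩, e⟩ := X.surj k
  exact ⟨d, hd, X.mem_NC.2 ⟨hd, e ▸ hk⟩, e⟩

theorem LE_le_NC : X.LE ≤ X.NC := fun c hc =>
  X.mem_NC.2 ⟨X.LE_le_CC hc, le_normalizer hc.2.1⟩

theorem NC_WV {d : G} (hd : d ∈ X.NC) {w : VV z} (hw : w ∈ X.WV) : act z d w ∈ X.WV := by
  obtain ⟨hdC, hn⟩ := X.mem_NC.1 hd
  exact X.WV_invariant hdC hn hw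

theorem NC_normalizer : X.NC ≤ normalizer (X.std : Set G) := fun d hd => by
  obtain ⟨hdC, hn⟩ := X.mem_NC.1 hd
  exact M22Order.mem_normalizer_of_conj fun a ha => X.CC_conj_std hdC hn ha

open _root_.Classical in
/-- The chosen lift of an element of the elementary subgroup of order 16. -/
noncomputable def lf (m : ↥Cfsg.Spor.M22) : G :=
  if h : m ∈ X.S.E then (X.exists_lift h).choose else 1

theorem lf_mem {m : ↥Cfsg.Spor.M22} (h : m ∈ X.S.E) : X.lf m ∈ X.LE := by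
  rw [lf, dif_pos h]; exact (X.exists_lift h).choose_spec.choose

theorem lf_pi {m : ↥Cfsg.Spor.M22} (h : m ∈ X.S.E) :
    X.π ⟨X.lf m, X.LE_le_CC (X.lf_mem h)⟩ = m := by
  simp only [lf, dif_pos h]; exact (X.exists_lift h).choose_spec.choose_spec

/-- The range of a lift. -/
noncomputable def RR (m : ↥Cfsg.Spor.M22) : AddSubgroup (VV z) := (nil z (X.lf m)).range

theorem nil_lift {m : ↥Cfsg.Spor.M22} (hm : m ∈ X.S.E) {c : G} (hc : c ∈ CC z P) (h2 : c * c = 1)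
    (e : X.π ⟨c, hc⟩ = m) : nil z c = nil z (X.lf m) := by
  refine AddMonoidHom.ext fun v => ?_
  rw [nil_apply, nil_apply,
    X.lift_act_eq hc (X.LE_le_CC (X.lf_mem hm)) h2 (X.lf_mem hm).2.2 (e.trans (X.lf_pi hm).symm)]

theorem RR_lift {m : ↥Cfsg.Spor.M22} (hm : m ∈ X.S.E) {c : G} (hc : c ∈ CC z P) (h2 : c * c = 1)
    (e : X.π ⟨c, hc⟩ = m) : X.RR m = (nil z c).range := by
  rw [RR, X.nil_lift hm hc h2 e]

theorem RR_le_WV {m : ↥Cfsg.Spor.M22} (hm : m ∈ X.S.E) : X.RR m ≤ X.WV := by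
  rintro _ ⟨v, rfl⟩
  exact X.nil_mem_WV (X.LE_le_CC (X.lf_mem hm)).1 (fun w hw => hw _ (X.lf_mem hm)) v

theorem RR_act_P {m : ↥Cfsg.Spor.M22} (hm : m ∈ X.S.E) {w : VV z} (hw : w ∈ X.RR m) :
    act z X.pp w ∈ X.RR m := by
  obtain ⟨v, rfl⟩ := hw
  exact ⟨act z X.pp v, nil_comm X.L.J (CC_le_H0 z P (X.LE_le_CC (X.lf_mem hm))) X.pp_mem v⟩

theorem lf_not_EE {m : ↥Cfsg.Spor.M22} (hm : m ∈ X.S.E) (h1 : m ≠ 1) : X.lf m ∉ EE z :=
  X.not_mem_EE (X.LE_le_CC (X.lf_mem hm)) ((X.lf_pi hm).symm ▸ h1)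

theorem card_RR {m : ↥Cfsg.Spor.M22} (hm : m ∈ X.S.E) (h1 : m ≠ 1) : Nat.card ↥(X.RR m) = 16 := by
  have hl := X.lf_mem hm
  exact (card_range_inner X.L (CC_le_H0 z P (X.LE_le_CC hl)) (X.lf_not_EE hm h1)
    (by rw [hl.2.2]; exact one_mem _)).trans (by norm_num)

theorem RR_conj {d : G} (hd : d ∈ CC z P) (hn : X.π ⟨d, hd⟩ ∈ X.NS) {m : ↥Cfsg.Spor.M22} (hm : m ∈ X.S.E)
    {w : VV z} (hw : w ∈ X.RR m) :
    act z d w ∈ X.RR (X.π ⟨d, hd⟩ * m * (X.π ⟨d, hd⟩)⁻¹) := by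
  obtain ⟨v, rfl⟩ := hw
  have hl := X.lf_mem hm
  have hc := X.conj_mem_LE hd hn hl
  have e : X.π ⟨d * X.lf m * d⁻¹, X.LE_le_CC hc⟩ = X.π ⟨d, hd⟩ * m * (X.π ⟨d, hd⟩)⁻¹ := by
    conv_rhs => rw [← X.lf_pi hm]
    rw [← map_inv, ← map_mul, ← map_mul]
    rfl
  rw [X.RR_lift (M22Order.conj_mem_of_mem_normalizer hn hm) (X.LE_le_CC hc) hc.2.2 e]
  exact ⟨act z d v, by
    rw [nil_apply, nil_apply, act_conj hd.1 (X.LE_le_CC hl).1, map_add]⟩

theorem mem_ker_pair {m n : ↥Cfsg.Spor.M22} (hm : m ∈ X.S.E) (hn : n ∈ X.S.E) (hm1 : m ≠ 1) (hn1 : n ≠ 1)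
    (hne : m ≠ n) {v : VV z} (hv : v ∈ (nil z (X.lf m)).ker) (hv' : v ∈ (nil z (X.lf n)).ker) :
    v ∈ X.WV := by
  have hJ := X.L.J
  obtain ⟨k, hk, hkt⟩ := X.S.trans X.hcard hm hm1
  obtain ⟨d, hd, hdN, hdk⟩ := X.exists_NC hk
  have hdi : d⁻¹ ∈ CC z P := inv_mem hd
  have hπi : X.π ⟨d⁻¹, hdi⟩ = k⁻¹ := (map_inv X.π ⟨d, hd⟩).trans (by rw [hdk])
  have hki : X.π ⟨d⁻¹, hdi⟩ ∈ X.NS := hπi ▸ inv_mem hk
  have hconj : ∀ {a : ↥Cfsg.Spor.M22} (ha : a ∈ X.S.E), v ∈ (nil z (X.lf a)).ker →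
      ∃ c, ∃ hc : c ∈ CC z P, c * c = 1 ∧ X.π ⟨c, hc⟩ = k⁻¹ * a * k ∧ act z c (act z d⁻¹ v) = act z d⁻¹ v := by
    intro a ha hva
    have hc := X.conj_mem_LE hdi hki (X.lf_mem ha)
    refine ⟨_, X.LE_le_CC hc, hc.2.2, ?_, ?_⟩
    · rw [show k⁻¹ * a * k = k⁻¹ * a * k⁻¹⁻¹ by rw [inv_inv], ← hπi]
      conv_rhs => rw [← X.lf_pi ha]
      rw [← map_inv, ← map_mul, ← map_mul]
      rfl
    · rw [act_conj (inv_mem hd.1) (X.LE_le_CC (X.lf_mem ha)).1, (mem_ker_nil hJ).1 hva]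
  obtain ⟨c1, hc1, h12, e1, f1⟩ := hconj hm hv
  obtain ⟨c2, hc2, h22, e2, f2⟩ := hconj hn hv'
  rw [show k⁻¹ * m * k = X.S.t by rw [← hkt]; group] at e1
  have hx : k⁻¹ * n * k ∈ X.S.E := by
    simpa using M22Order.conj_mem_of_mem_normalizer (inv_mem hk) hn
  have h := X.fix_pair hx (fun e => hn1 (by
      calc n = k * (k⁻¹ * n * k) * k⁻¹ := by group
        _ = 1 := by rw [e]; group)) (fun e => hne (by
      calc m = k * X.S.t * k⁻¹ := hkt.symm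
        _ = n := by rw [← e]; group)) hc1 hc2 h12 h22 e1 e2 f1 f2
  have := X.WV_invariant hd (hdk ▸ hk) h
  rwa [act_act_inv hd.1] at this

theorem RR_pair {m n : ↥Cfsg.Spor.M22} (hm : m ∈ X.S.E) (hn : n ∈ X.S.E) (hm1 : m ≠ 1) (hn1 : n ≠ 1)
    (hne : m ≠ n) : X.RR m ⊔ X.RR n = X.WV ∧ Nat.card ↥(X.RR m ⊓ X.RR n : AddSubgroup (VV z)) = 4 := by
  have hJ := X.L.J
  set U := X.RR m ⊔ X.RR n with hU
  have hle : U ≤ X.WV := sup_le (X.RR_le_WV hm) (X.RR_le_WV hn)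
  have hker : ∀ {a : ↥Cfsg.Spor.M22} (ha : a ∈ X.S.E), X.RR a ≤ U → perp hJ U ≤ (nil z (X.lf a)).ker := by
    intro a ha haU v hv
    have h2 : X.lf a * X.lf a ∈ EE z := by rw [(X.lf_mem ha).2.2]; exact one_mem _
    refine (mem_ker_nil hJ).2 (VV.eq_of_add hJ ?_)
    rw [← nil_apply]
    refine BB_nondeg hJ fun u => ?_
    have h := hv _ (haU ⟨u, rfl⟩ : nil z (X.lf a) u ∈ U)
    rw [nil_apply, BB_add_right hJ] at h
    rw [nil_apply, BB_add_left hJ, BB_act_inv hJ (X.LE_le_CC (X.lf_mem ha)).1,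
      eq_inv_of_sq hJ (X.LE_le_CC (X.lf_mem ha)).1 h2]
    exact h
  have hperp : perp hJ U ≤ X.WV := fun v hv =>
    X.mem_ker_pair hm hn hm1 hn1 hne (hker hm le_sup_left hv) (hker hn le_sup_right hv)
  have hUW : U = X.WV := by
    refine AddSubgroup.eq_of_le_of_card_ge hle ?_
    have h1 := card_mul_card_perp hJ U
    have h2 := AddSubgroup.card_le_of_le hperp
    rw [X.card_WV.1] at h2 ⊢
    by_contra hcon
    push Not at hcon
    have : Nat.card U * Nat.card (perp hJ U) < 2 ^ 6 * 2 ^ 6 :=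
      Nat.mul_lt_mul_of_lt_of_le hcon h2 (by norm_num)
    rw [h1] at this
    norm_num at this
  refine ⟨hUW, ?_⟩
  let f : ↥(X.RR m) × ↥(X.RR n) →+ VV z := AddMonoidHom.mk' (fun q => (q.1 : VV z) + q.2) fun a b => by
    simp only [Prod.fst_add, Prod.snd_add, AddSubgroup.coe_add]; abel
  have hr : f.range = U := by
    refine le_antisymm ?_ (sup_le (fun a ha => ⟨(⟨a, ha⟩, 0), by simp [f]⟩)
      (fun a ha => ⟨(0, ⟨a, ha⟩), by simp [f]⟩))
    rintro _ ⟨⟨a, b⟩, rfl⟩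
    exact add_mem (AddSubgroup.mem_sup_left a.2) (AddSubgroup.mem_sup_right b.2)
  have hk : Nat.card ↥f.ker = Nat.card ↥(X.RR m ⊓ X.RR n : AddSubgroup (VV z)) := by
    have hab : ∀ q : ↥f.ker, (q.1.1 : VV z) = q.1.2 := fun q =>
      VV.eq_of_add hJ (AddMonoidHom.mem_ker.1 q.2)
    exact Nat.card_congr
      { toFun := fun q => ⟨q.1.1, ⟨q.1.1.2, by rw [hab q]; exact q.1.2.2⟩⟩
        invFun := fun v => ⟨(⟨v, v.2.1⟩, ⟨v, v.2.2⟩), AddMonoidHom.mem_ker.2 (VV.two hJ (v : VV z))⟩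
        left_inv := fun q => Subtype.ext (Prod.ext (Subtype.ext rfl) (Subtype.ext (hab q)))
        right_inv := fun v => rfl }
  have h := card_ker_mul_range f
  rw [hr, hUW, hk, X.card_WV.1, Nat.card_prod, X.card_RR hm hm1, X.card_RR hn hn1] at h
  omega

theorem RR_inter {m n : ↥Cfsg.Spor.M22} (hm : m ∈ X.S.E) (hn : n ∈ X.S.E) (hm1 : m ≠ 1) (hn1 : n ≠ 1)
    (hne : m ≠ n) {w : VV z} (hw0 : w ≠ 0) (hw : w ∈ X.RR m) (hw' : w ∈ X.RR n) :
    X.RR m ⊓ X.RR n = X.ln w := by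
  refine (AddSubgroup.eq_of_le_of_card_ge (X.ln_le (S := X.RR m ⊓ X.RR n)
    (fun v hv => ⟨X.RR_act_P hm hv.1, X.RR_act_P hn hv.2⟩) ⟨hw, hw'⟩) ?_).symm
  rw [(X.RR_pair hm hn hm1 hn1 hne).2, X.card_ln hw0]

end Cfsg.Agent.J4Eleven.Chart
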