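import Mathlib

/-!
# Twenty-four points from the 276 vectors of the eleven-dimensional space

`D` is a set of 276 vectors of a space of order `2 ^ 11`, one orbit of its automorphisms, such that each of the
other 1771 non-zero vectors `z` pairs 36 of them, six to a plane.  Then `D` consists of the pairs of 24 points.

* `Data`: the hypotheses.
* `card_pt`, `e_add`, `disj_pairs`: the points and the pairs.
-/

set_option autoImplicit false
set_option linter.unusedSectionVars false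

namespace Cfsg.Agent.J4V.Points

open Finset

/-- The hypotheses. -/
structure Data (W : Type*) [AddCommGroup W] [Fintype W] [DecidableEq W] where
  D : Finset W
  two : ∀ w : W, w + w = 0
  cardW : Fintype.card W = 2048
  cardD : D.card = 276
  zero : (0 : W) ∉ D
  gen : AddSubgroup.closure (D : Set W) = ⊤
  trans : ∀ d ∈ D, ∀ d' ∈ D, ∃ f : W ≃+ W, (∀ w, f w ∈ D ↔ w ∈ D) ∧ f d = d'
  o36 : ∀ z : W, z ≠ 0 → z ∉ D → (D.filter fun d => d + z ∈ D).card = 36
  four : ∀ z : W, z ≠ 0 → z ∉ D → ∀ d ∈ D, d + z ∈ D →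
    (D.filter fun u => u + z ∈ D ∧ u ≠ d ∧ u ≠ d + z ∧ d + u ∈ D ∧ d + u + z ∈ D).card = 4

namespace Data

variable {W : Type*} [AddCommGroup W] [Fintype W] [DecidableEq W] (A : Data W)

include A in
theorem cancel (a b : W) : a + (a + b) = b := by rw [← add_assoc, A.two, zero_add]

include A in
theorem eq_of_add {a b : W} (h : a + b = 0) : a = b := by
  rw [← A.cancel b a, add_comm b a, h, add_zero]

include A in
theorem add_ne {a b : W} (h : a ≠ b) : a + b ≠ 0 := fun e => h (A.eq_of_add e)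

theorem ne_zero {d : W} (hd : d ∈ A.D) : d ≠ 0 := fun e => A.zero (e ▸ hd)

/-- The other non-zero vectors. -/
def Z : Finset W := univ.filter fun z => z ≠ 0 ∧ z ∉ A.D

theorem mem_Z {z : W} : z ∈ A.Z ↔ z ≠ 0 ∧ z ∉ A.D := by simp [Z]

theorem card_Z : A.Z.card = 1771 := by
  have e : A.Z = (insert 0 A.D)ᶜ := by ext z; simp [Z]
  rw [e, card_compl, card_insert_of_notMem A.zero, A.cardW, A.cardD]

/-- The neighbours. -/
def N (d : W) : Finset W := A.D.filter fun u => d + u ∈ A.D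

theorem mem_N {d u : W} : u ∈ A.N d ↔ u ∈ A.D ∧ d + u ∈ A.D := by simp [N]

theorem N_partner {d u : W} (h : u ∈ A.N d) : d + u ∈ A.N d := by
  rw [A.mem_N] at h ⊢
  exact ⟨h.2, by rw [A.cancel]; exact h.1⟩

theorem N_symm {d u : W} (hd : d ∈ A.D) (h : u ∈ A.N d) : d ∈ A.N u := by
  rw [A.mem_N] at h ⊢
  exact ⟨hd, by rw [add_comm]; exact h.2⟩

theorem N_ne {d u : W} (h : u ∈ A.N d) : u ≠ d := fun e => A.zero (by
  have := (A.mem_N.1 h).2
  rwa [e, A.two] at this)

theorem card_Zd {d : W} (hd : d ∈ A.D) : (A.Z.filter fun z => d + z ∈ A.D).card + (A.N d).card = 275 := by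
  have h : (A.Z.filter fun z => d + z ∈ A.D).card = ((A.D.erase d) \ A.N d).card := by
    refine card_nbij' (fun z => d + z) (fun u => d + u) ?_ ?_ (fun z _ => A.cancel d z) (fun u _ => A.cancel d u)
    · intro z hz
      simp only [coe_filter, Set.mem_ofPred_eq, A.mem_Z] at hz
      simp only [coe_sdiff, Set.mem_sdiff, mem_coe, mem_erase, A.mem_N, A.cancel]
      exact ⟨⟨fun e => hz.1.1 (by rw [← A.cancel d z, e, A.two]), hz.2⟩, fun h => hz.1.2 h.2⟩
    · intro u hu
      simp only [coe_sdiff, Set.mem_sdiff, mem_coe, mem_erase, A.mem_N] at hu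
      simp only [coe_filter, Set.mem_ofPred_eq, A.mem_Z, A.cancel]
      exact ⟨⟨fun e => hu.1.1 (A.eq_of_add e).symm, fun h => hu.2 ⟨hu.1.2, h⟩⟩, hu.1.2⟩
  have hsub : A.N d ⊆ A.D.erase d := fun u hu => mem_erase.2 ⟨A.N_ne hu, (A.mem_N.1 hu).1⟩
  rw [h, card_sdiff_of_subset hsub, card_erase_of_mem hd, A.cardD]
  have := card_le_card hsub
  rw [card_erase_of_mem hd, A.cardD] at this
  omega

theorem card_N {d : W} (hd : d ∈ A.D) : (A.N d).card = 44 := by
  have hle : ∀ a ∈ A.D, ∀ b ∈ A.D, (A.N a).card ≤ (A.N b).card := by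
    intro a ha b hb
    obtain ⟨f, hf, rfl⟩ := A.trans a ha b hb
    refine card_le_card_of_injOn f (fun u hu => ?_) f.injective.injOn
    simp only [mem_coe, A.mem_N] at hu ⊢
    rw [← map_add, hf, hf]
    exact hu
  have hz : ∀ z ∈ A.Z, (A.D.filter fun a => a + z ∈ A.D).card = 36 :=
    fun z hz => A.o36 z (A.mem_Z.1 hz).1 (A.mem_Z.1 hz).2
  have hswap : ∑ a ∈ A.D, (A.Z.filter fun z => a + z ∈ A.D).card =
      ∑ z ∈ A.Z, (A.D.filter fun a => a + z ∈ A.D).card := by
    simp only [card_filter]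
    rw [sum_comm]
  have hconst : ∀ a ∈ A.D, (A.Z.filter fun z => a + z ∈ A.D).card = 275 - (A.N d).card := by
    intro a ha
    have := A.card_Zd ha
    have := hle a ha d hd
    have := hle d hd a ha
    omega
  rw [sum_congr rfl hz, sum_congr rfl hconst, sum_const, sum_const, smul_eq_mul, smul_eq_mul,
    A.cardD, A.card_Z] at hswap
  omega

/-- Pairs of neighbours on different lines. -/
def Q (d : W) : Finset (Σ _ : W, W) := (A.N d).sigma fun u => ((A.N d).erase u).erase (d + u)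

theorem mem_Q {d : W} {p : Σ _ : W, W} :
    p ∈ A.Q d ↔ p.1 ∈ A.N d ∧ p.2 ∈ A.N d ∧ p.2 ≠ p.1 ∧ p.2 ≠ d + p.1 := by
  simp only [Q, mem_sigma, mem_erase]
  tauto

theorem card_Q {d : W} (hd : d ∈ A.D) : (A.Q d).card = 44 * 42 := by
  rw [Q, card_sigma, sum_congr rfl (g := fun _ => 42) fun u hu => ?_, sum_const, A.card_N hd, smul_eq_mul]
  rw [card_erase_of_mem (mem_erase.2 ⟨fun e => A.ne_zero hd (add_eq_right.1 e), A.N_partner hu⟩),
    card_erase_of_mem hu, A.card_N hd]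

/-- Of the two sums of two lines exactly one is in `D`. -/
theorem one_of_two {d u v : W} (hd : d ∈ A.D) (hu : u ∈ A.N d) (hv : v ∈ A.N d) (hne : v ≠ u) (hne' : v ≠ d + u) :
    u + v ∈ A.D ↔ ¬ d + (u + v) ∈ A.D := by
  set Q1 := (A.Q d).filter fun p => p.1 + p.2 ∉ A.D ∧ d + (p.1 + p.2) ∈ A.D with hQ1
  set Q2 := (A.Q d).filter fun p => p.1 + p.2 ∈ A.D ∧ d + (p.1 + p.2) ∉ A.D with hQ2
  set Zd := A.Z.filter fun z => d + z ∈ A.D with hZd
  let R : W → Finset W := fun z =>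
    A.D.filter fun x => x + z ∈ A.D ∧ x ≠ d ∧ x ≠ d + z ∧ d + x ∈ A.D ∧ d + x + z ∈ A.D
  have h1 : Q1.card = (Zd.sigma R).card := by
    refine card_nbij' (fun p => ⟨p.1 + p.2, p.1⟩) (fun q => ⟨q.2, q.2 + q.1⟩) ?_ ?_ ?_ ?_
    · rintro ⟨x, y⟩ hp
      simp only [hQ1, coe_filter, Set.mem_ofPred_eq, A.mem_Q, A.mem_N] at hp
      obtain ⟨⟨⟨hx, hdx⟩, ⟨hy, hdy⟩, hxy, hxy'⟩, hs, hs'⟩ := hp
      simp only [hZd, R, coe_sigma, Set.mem_sigma_iff, mem_coe, mem_filter, A.mem_Z]
      refine ⟨⟨⟨A.add_ne (Ne.symm hxy), hs⟩, hs'⟩, hx, by rw [A.cancel]; exact hy,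
        fun e => A.zero (by rwa [e, A.two] at hdx), fun e => A.zero ?_, hdx, by rw [add_assoc, A.cancel]; exact hdy⟩
      have : d + y = 0 := by
        have h' : d + (x + y) + x = d + y := by rw [add_assoc, add_comm (x + y), A.cancel]
        rw [← h', ← e, A.two]
      rwa [this] at hdy
    · rintro ⟨z, x⟩ hq
      simp only [hZd, R, coe_sigma, Set.mem_sigma_iff, mem_coe, mem_filter, A.mem_Z] at hq
      obtain ⟨⟨⟨hz0, hzD⟩, hdz⟩, hx, hxz, hxd, hxdz, hdx, hdxz⟩ := hq
      simp only [hQ1, coe_filter, Set.mem_ofPred_eq, A.mem_Q, A.mem_N, A.cancel]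
      refine ⟨⟨⟨hx, hdx⟩, ⟨hxz, by rw [← add_assoc]; exact hdxz⟩,
        fun e => hz0 (by rw [← A.cancel x z, e, A.two]), fun e => hzD ?_⟩, hzD, hdz⟩
      rw [← A.cancel x z, e, add_comm d x, A.cancel]; exact hd
    · rintro ⟨x, y⟩ -
      simp [A.cancel]
    · rintro ⟨z, x⟩ -
      simp [A.cancel]
  have h1' : Q1.card = 231 * 4 := by
    rw [h1, card_sigma, sum_congr rfl (g := fun _ => 4) fun z hz => ?_, sum_const, smul_eq_mul,
      show Zd.card = 231 by rw [hZd]; have := A.card_Zd hd; rw [A.card_N hd] at this; omega]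
    obtain ⟨hz, hdz⟩ := mem_filter.1 hz
    exact A.four z (A.mem_Z.1 hz).1 (A.mem_Z.1 hz).2 d hd hdz
  have h2 : Q2.card = Q1.card := by
    have key : ∀ p : Σ _ : W, W, p ∈ A.Q d → (⟨p.1, d + p.2⟩ : Σ _ : W, W) ∈ A.Q d := fun p hp => by
      rw [A.mem_Q] at hp ⊢
      obtain ⟨a, b, c, c'⟩ := hp
      exact ⟨a, A.N_partner b, fun e => c' (by rw [← e, A.cancel]), fun e => c (add_left_cancel e)⟩
    have hsum : ∀ x y : W, x + (d + y) = d + (x + y) := fun x y => add_left_comm x d y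
    refine card_nbij' (fun p => ⟨p.1, d + p.2⟩) (fun p => ⟨p.1, d + p.2⟩) ?_ ?_ ?_ ?_
    · intro p hp
      simp only [hQ1, hQ2, coe_filter, Set.mem_ofPred_eq] at hp ⊢
      exact ⟨key p hp.1, by rw [hsum]; exact hp.2.2, by rw [hsum, A.cancel]; exact hp.2.1⟩
    · intro p hp
      simp only [hQ1, hQ2, coe_filter, Set.mem_ofPred_eq] at hp ⊢
      exact ⟨key p hp.1, by rw [hsum]; exact hp.2.2, by rw [hsum, A.cancel]; exact hp.2.1⟩
    · intro p _; simp [A.cancel]
    · intro p _; simp [A.cancel]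
  have hdisj : Disjoint Q1 Q2 := disjoint_left.2 fun p hp hp' => (mem_filter.1 hp).2.1 (mem_filter.1 hp').2.1
  have hall : Q1 ∪ Q2 = A.Q d := by
    refine eq_of_subset_of_card_le (union_subset (filter_subset _ _) (filter_subset _ _)) ?_
    rw [card_union_of_disjoint hdisj, h2, h1', A.card_Q hd]
  have hm : (⟨u, v⟩ : Σ _ : W, W) ∈ Q1 ∪ Q2 := hall ▸ A.mem_Q.2 ⟨hu, hv, hne, hne'⟩
  simp only [hQ1, hQ2, mem_union, mem_filter] at hm
  tauto

/-- Having sum in `D` is transitive. -/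
theorem trans_rel {d u v w : W} (hd : d ∈ A.D) (hu : u ∈ A.N d) (hv : v ∈ A.N d) (hw : w ∈ A.N d)
    (huv : v ≠ d + u) (hvw : w ≠ d + v) (huw : w ≠ u) (huw' : w ≠ d + u) (h1 : u + v ∈ A.D)
    (h2 : v + w ∈ A.D) : u + w ∈ A.D := by
  by_contra hs
  obtain ⟨hu1, hu2⟩ := A.mem_N.1 hu
  obtain ⟨hv1, hv2⟩ := A.mem_N.1 hv
  obtain ⟨hw1, hw2⟩ := A.mem_N.1 hw
  have hdz : d + (u + w) ∈ A.D := by
    by_contra h
    exact hs ((A.one_of_two hd hu hw huw huw').2 h)
  have hne2 : v + u ≠ w := by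
    intro e
    refine hs ?_
    rw [← e, add_comm v u, A.cancel]; exact hv1
  have hz : v + (u + w) ∈ A.D := by
    by_contra h
    exact hs ((A.one_of_two hv1 (A.mem_N.2 ⟨hu1, by rw [add_comm]; exact h1⟩) (A.mem_N.2 ⟨hw1, h2⟩)
      huw (Ne.symm hne2)).2 h)
  have hnu : u ≠ v := fun e => A.zero (by rwa [e, A.two] at h1)
  have hz0 : u + w ≠ 0 := A.add_ne (Ne.symm huw)
  have hdu : d ≠ u := Ne.symm (A.N_ne hu)
  have hdw : d ≠ w := Ne.symm (A.N_ne hw)
  have hduw : d + (u + w) ≠ d + u := fun e => A.ne_zero hw1 (add_eq_left.1 (add_left_cancel e))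
  have hd0 : d ≠ 0 := A.ne_zero hd
  -- the four of `z = u + w` at `u`
  have h4 := A.four (u + w) hz0 hs u hu1 (by rw [A.cancel]; exact hw1)
  set R := A.D.filter fun x => x + (u + w) ∈ A.D ∧ x ≠ u ∧ x ≠ u + (u + w) ∧ u + x ∈ A.D ∧
    u + x + (u + w) ∈ A.D with hR
  have e1 : ∀ x, u + x + (u + w) = x + w := fun x => by
    rw [add_comm u x, add_assoc, A.cancel]
  have hsub : ({d, d + (u + w), d + u, d + w} : Finset W) ⊆ R := by
    intro x hx
    simp only [mem_insert, mem_singleton] at hx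
    simp only [hR, mem_filter, A.cancel, e1]
    rcases hx with rfl | rfl | rfl | rfl
    · exact ⟨hd, hdz, hdu, hdw, by rw [add_comm]; exact hu2, hw2⟩
    · refine ⟨hdz, ?_, fun e => hdw ?_, fun e => hdu ?_, ?_, ?_⟩
      · rwa [add_assoc, A.two, add_zero]
      · refine A.eq_of_add ?_
        have := congrArg (u + ·) e
        simp only [A.two] at this
        rwa [← add_assoc, add_comm u d, add_assoc, A.cancel] at this
      · refine A.eq_of_add ?_
        have := congrArg (· + w) e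
        simp only [A.two] at this
        rwa [add_assoc, add_assoc, A.two, add_zero] at this
      · rwa [add_left_comm, A.cancel]
      · rwa [add_assoc, add_assoc, A.two, add_zero]
    · refine ⟨hu2, ?_, fun e => hd0 (add_eq_right.1 e), fun e => huw' e.symm, ?_, ?_⟩
      · rwa [add_assoc, A.cancel]
      · rwa [add_left_comm, A.two, add_zero]
      · rwa [add_assoc]
    · refine ⟨hw2, ?_, fun e => huw' ?_, fun e => hd0 (add_eq_right.1 e), ?_, ?_⟩
      · rwa [add_comm u w, add_assoc, A.cancel]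
      · rw [← e, A.cancel]
      · rwa [add_left_comm]
      · rwa [add_assoc, A.two, add_zero]
  have hcard : ({d, d + (u + w), d + u, d + w} : Finset W).card = 4 := by
    rw [card_insert_of_notMem, card_insert_of_notMem, card_pair]
    · exact fun e => huw (add_left_cancel e).symm
    · simp only [mem_insert, mem_singleton, not_or]
      exact ⟨hduw, fun e => A.ne_zero hu1 (add_eq_right.1 (add_left_cancel e))⟩
    · simp only [mem_insert, mem_singleton, not_or]
      exact ⟨fun e => hz0 (add_eq_left.1 e.symm), fun e => A.ne_zero hu1 (add_eq_left.1 e.symm),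
        fun e => A.ne_zero hw1 (add_eq_left.1 e.symm)⟩
  have heq := eq_of_subset_of_card_le hsub (le_of_eq (h4.trans hcard.symm))
  have hvR : v ∈ R := by
    simp only [hR, mem_filter, A.cancel, e1]
    exact ⟨hv1, hz, Ne.symm hnu, fun e => A.zero (by rwa [e, A.two] at h2), h1, h2⟩
  rw [← heq] at hvR
  simp only [mem_insert, mem_singleton] at hvR
  rcases hvR with e | e | e | e
  · exact A.N_ne hv e
  · rw [e, A.cancel] at hv2; exact hs hv2
  · exact huv e
  · exact hvw (by rw [e, A.cancel])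

/-- The class of `u` among the neighbours of `d`. -/
def Cl (d u : W) : Finset W := (A.N d).filter fun v => v = u ∨ (v ≠ d + u ∧ u + v ∈ A.D)

theorem Cl_partner {d u v : W} (hd : d ∈ A.D) (hu : u ∈ A.N d) (hv : v ∈ A.N d) :
    d + v ∈ A.Cl d u ↔ v ∉ A.Cl d u := by
  have hd0 := A.ne_zero hd
  simp only [Cl, mem_filter, A.N_partner hv, hv, true_and]
  by_cases h1 : v = u
  · subst h1
    simp [hd0]
  by_cases h2 : v = d + u
  · subst h2
    simp [A.cancel, h1]
  have hne : d + v ≠ u := fun e => h2 (by rw [← e, A.cancel])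
  have hne' : d + v ≠ d + u := fun e => h1 (add_left_cancel e)
  simp only [hne, hne', h1, h2, false_or, ne_eq, not_false_iff, true_and]
  rw [show u + (d + v) = d + (u + v) from add_left_comm u d v, A.one_of_two hd hu hv h1 h2, not_not]

theorem card_Cl {d u : W} (hd : d ∈ A.D) (hu : u ∈ A.N d) : (A.Cl d u).card = 22 := by
  have h : (A.Cl d u).card = (A.N d \ A.Cl d u).card := by
    refine card_nbij' (d + ·) (d + ·) ?_ ?_ (fun v _ => A.cancel d v) (fun v _ => A.cancel d v)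
    · intro v hv
      have hvN : v ∈ A.N d := (mem_filter.1 hv).1
      refine mem_coe.2 (mem_sdiff.2 ⟨A.N_partner hvN, fun h => ?_⟩)
      exact (A.Cl_partner hd hu hvN).1 h hv
    · intro v hv
      obtain ⟨h1, h2⟩ := mem_sdiff.1 (mem_coe.1 hv)
      exact (A.Cl_partner hd hu h1).2 h2
  have h2 := card_sdiff_add_card_eq_card (show A.Cl d u ⊆ A.N d from filter_subset _ _)
  rw [A.card_N hd] at h2
  omega

theorem Cl_pair {d u v w : W} (hd : d ∈ A.D) (hu : u ∈ A.N d) (hv : v ∈ A.Cl d u) (hw : w ∈ A.Cl d u)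
    (hne : v ≠ w) : v + w ∈ A.D ∧ w ≠ d + v := by
  have hvN : v ∈ A.N d := (mem_filter.1 hv).1
  have hwN : w ∈ A.N d := (mem_filter.1 hw).1
  have h1 : w ≠ d + v := fun e => (A.Cl_partner hd hu hvN).1 (e ▸ hw) hv
  refine ⟨?_, h1⟩
  simp only [Cl, mem_filter] at hv hw
  rcases hv.2 with rfl | ⟨hv1, hv2⟩
  · exact (hw.2.resolve_left (Ne.symm hne)).2
  · rcases hw.2 with rfl | ⟨hw1, hw2⟩
    · rw [add_comm]; exact hv2
    · exact A.trans_rel hd hvN hu hwN (fun e => hv1 (by rw [e, A.cancel])) hw1 (Ne.symm hne) h1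
        (by rw [add_comm]; exact hv2) hw2

/-- Twenty-three vectors with sums in `D` outside the set. -/
def IsStar (S : Finset W) : Prop :=
  S ⊆ A.D ∧ S.card = 23 ∧ ∀ a ∈ S, ∀ b ∈ S, a ≠ b → a + b ∈ A.D ∧ a + b ∉ S

/-- The star through two vectors. -/
def P (d u : W) : Finset W := insert d (A.Cl d u)

theorem self_mem_P {d u : W} : d ∈ A.P d u := mem_insert_self _ _

theorem mem_P {d u : W} (hu : u ∈ A.N d) : u ∈ A.P d u :=
  mem_insert_of_mem (mem_filter.2 ⟨hu, Or.inl rfl⟩)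

theorem isStar_P {d u : W} (hd : d ∈ A.D) (hu : u ∈ A.N d) : A.IsStar (A.P d u) := by
  have hnot : d ∉ A.Cl d u := fun h => A.N_ne (mem_filter.1 h).1 rfl
  refine ⟨fun v hv => ?_, by rw [P, card_insert_of_notMem hnot, A.card_Cl hd hu], ?_⟩
  · rcases mem_insert.1 hv with rfl | h
    · exact hd
    · exact (A.mem_N.1 (mem_filter.1 h).1).1
  have one : ∀ v ∈ A.Cl d u, d + v ∈ A.D ∧ d + v ∉ A.P d u := fun v hv => by
    have hvN := (mem_filter.1 hv).1
    refine ⟨(A.mem_N.1 hvN).2, fun h => ?_⟩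
    rcases mem_insert.1 h with e | h
    · exact A.ne_zero (A.mem_N.1 hvN).1 (add_eq_left.1 e)
    · exact (A.Cl_partner hd hu hvN).1 h hv
  intro a ha b hb hab
  rcases mem_insert.1 ha with rfl | ha <;> rcases mem_insert.1 hb with rfl | hb
  · exact absurd rfl hab
  · exact one b hb
  · rw [add_comm]; exact one a ha
  · obtain ⟨hD, hne⟩ := A.Cl_pair hd hu ha hb hab
    refine ⟨hD, fun h => ?_⟩
    rcases mem_insert.1 h with e | h
    · exact hne (by rw [← e, add_comm a b, add_assoc, A.two, add_zero])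
    · exact (A.one_of_two hd (mem_filter.1 ha).1 (mem_filter.1 hb).1 (Ne.symm hab) hne).1 hD
        (A.mem_N.1 (mem_filter.1 h).1).2

theorem IsStar.mem_N {S : Finset W} (hS : A.IsStar S) {d u : W} (hd : d ∈ S) (hu : u ∈ S) (hne : u ≠ d) :
    u ∈ A.N d :=
  A.mem_N.2 ⟨hS.1 hu, (hS.2.2 d hd u hu (Ne.symm hne)).1⟩

theorem IsStar.eq_P {S : Finset W} (hS : A.IsStar S) {d u : W} (hd : d ∈ S) (hu : u ∈ S) (hne : u ≠ d) :
    S = A.P d u := by
  have huN := IsStar.mem_N A hS hd hu hne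
  refine eq_of_subset_of_card_le (fun v hv => ?_) (le_of_eq ((A.isStar_P (hS.1 hd) huN).2.1.trans hS.2.1.symm))
  by_cases h1 : v = d
  · subst h1; exact A.self_mem_P
  refine mem_insert_of_mem (mem_filter.2 ⟨IsStar.mem_N A hS hd hv h1, ?_⟩)
  by_cases h2 : v = u
  · exact Or.inl h2
  exact Or.inr ⟨fun e => (hS.2.2 d hd u hu (Ne.symm hne)).2 (e ▸ hv), (hS.2.2 u hu v hv (Ne.symm h2)).1⟩

theorem IsStar.cases {S : Finset W} (hS : A.IsStar S) {d u : W} (hd : d ∈ S) (hu : u ∈ A.N d) :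
    S = A.P d u ∨ S = A.P d (d + u) := by
  have hdD := hS.1 hd
  have hu' := A.N_partner hu
  obtain ⟨v, hv, hvd⟩ := exists_mem_ne (show 1 < S.card by rw [hS.2.1]; norm_num) d
  have hvN := IsStar.mem_N A hS hd hv hvd
  rw [IsStar.eq_P A hS hd hv hvd]
  have hself : v ∈ A.P d v := A.mem_P hvN
  by_cases h : v ∈ A.Cl d u
  · exact Or.inl (IsStar.eq_P A (A.isStar_P hdD hu) A.self_mem_P (mem_insert_of_mem h) hvd).symm
  · refine Or.inr (IsStar.eq_P A (A.isStar_P hdD hu') A.self_mem_P (mem_insert_of_mem ?_) hvd).symm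
    simp only [Cl, mem_filter, hvN, true_and, not_or, not_and] at h ⊢
    by_cases h2 : v = d + u
    · exact Or.inl h2
    refine Or.inr ⟨by rw [A.cancel]; exact h.1, ?_⟩
    rw [add_assoc]
    by_contra hc
    exact h.2 h2 ((A.one_of_two hdD hu hvN h.1 h2).2 hc)

end Data

/-- The points. -/
abbrev Pt {W : Type*} [AddCommGroup W] [Fintype W] [DecidableEq W] (A : Data W) : Type _ :=
  {S : Finset W // A.IsStar S}

namespace Data

variable {W : Type*} [AddCommGroup W] [Fintype W] [DecidableEq W] (A : Data W)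

noncomputable instance : Fintype (Pt A) := Fintype.ofFinite _

open scoped Classical in
/-- The points on a vector. -/
noncomputable def on (d : W) : Finset (Pt A) := univ.filter fun S => d ∈ S.1

theorem mem_on {d : W} {S : Pt A} : S ∈ A.on d ↔ d ∈ S.1 := by simp [on]

theorem exists_N {d : W} (hd : d ∈ A.D) : (A.N d).Nonempty :=
  card_pos.1 (by rw [A.card_N hd]; norm_num)

theorem card_on {d : W} (hd : d ∈ A.D) : (A.on d).card = 2 := by
  classical
  obtain ⟨u, hu⟩ := A.exists_N hd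
  have e : A.on d = {⟨_, A.isStar_P hd hu⟩, ⟨_, A.isStar_P hd (A.N_partner hu)⟩} := by
    ext S
    simp only [A.mem_on, mem_insert, mem_singleton, Subtype.ext_iff]
    constructor
    · exact fun h => IsStar.cases A S.2 h hu
    · rintro (h | h) <;> rw [h] <;> exact A.self_mem_P
  rw [e, card_pair]
  intro h
  rw [Subtype.mk.injEq] at h
  have h1 : d + u ∈ A.P d u := h ▸ A.mem_P (A.N_partner hu)
  exact ((A.isStar_P hd hu).2.2 d A.self_mem_P u (A.mem_P hu) (Ne.symm (A.N_ne hu))).2 h1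

theorem card_pt : Fintype.card (Pt A) = 24 := by
  classical
  have h : ∑ d ∈ A.D, (A.on d).card = ∑ S : Pt A, S.1.card := by
    simp only [on, card_filter]
    rw [sum_comm]
    refine sum_congr rfl fun S _ => ?_
    rw [← card_filter]
    congr 1
    ext d
    simp only [mem_filter]
    exact ⟨fun h => h.2, fun h => ⟨S.2.1 h, h⟩⟩
  rw [sum_congr rfl (fun d hd => A.card_on hd), sum_congr rfl (fun (S : Pt A) _ => S.2.2.1), sum_const, sum_const,
    A.cardD, smul_eq_mul, smul_eq_mul, card_univ] at h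
  omega

theorem inter_unique {S T : Pt A} (hne : S ≠ T) {a b : W} (ha : a ∈ S.1) (ha' : a ∈ T.1) (hb : b ∈ S.1)
    (hb' : b ∈ T.1) : a = b := by
  by_contra h
  exact hne (Subtype.ext ((IsStar.eq_P A S.2 ha hb (Ne.symm h)).trans
    (IsStar.eq_P A T.2 ha' hb' (Ne.symm h)).symm))

theorem on_pair {S T : Pt A} (hne : S ≠ T) {d : W} (hS : d ∈ S.1) (hT : d ∈ T.1) : A.on d = {S, T} := by
  classical
  refine (eq_of_subset_of_card_le (insert_subset_iff.2 ⟨A.mem_on.2 hS, ?_⟩) ?_).symm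
  · exact singleton_subset_iff.2 (A.mem_on.2 hT)
  · rw [A.card_on (S.2.1 hS), card_pair hne]

theorem exists_common {S T : Pt A} (hne : S ≠ T) : ∃ d, d ∈ S.1 ∧ d ∈ T.1 := by
  classical
  have himg : A.D.image A.on = (univ : Finset (Pt A)).powersetCard 2 := by
    refine eq_of_subset_of_card_le (fun q hq => ?_) ?_
    · obtain ⟨d, hd, rfl⟩ := mem_image.1 hq
      exact mem_powersetCard.2 ⟨subset_univ _, A.card_on hd⟩
    · rw [card_image_of_injOn, card_powersetCard, card_univ, A.card_pt, A.cardD]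
      · rfl
      intro a ha b hb e
      obtain ⟨S', T', hne', e'⟩ := card_eq_two.1 (A.card_on ha)
      refine A.inter_unique hne' (A.mem_on.1 ?_) (A.mem_on.1 ?_) ((A.mem_on (d := b)).1 ?_) ((A.mem_on (d := b)).1 ?_)
      · rw [e']; simp
      · rw [e']; simp
      · rw [← e, e']; simp
      · rw [← e, e']; simp
  obtain ⟨d, -, hd⟩ := mem_image.1 (himg ▸ mem_powersetCard.2 ⟨subset_univ {S, T}, card_pair hne⟩ :
    {S, T} ∈ A.D.image A.on)
  exact ⟨d, A.mem_on.1 (by rw [hd]; simp), A.mem_on.1 (by rw [hd]; simp)⟩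

open scoped Classical in
/-- The vector of two points. -/
noncomputable def e (S T : Pt A) : W := if S = T then 0 else ∑ x ∈ S.1 ∩ T.1, x

theorem e_self (S : Pt A) : A.e S S = 0 := by simp [e]

theorem e_eq {S T : Pt A} (hne : S ≠ T) {d : W} (hS : d ∈ S.1) (hT : d ∈ T.1) : A.e S T = d := by
  rw [e, if_neg hne, show S.1 ∩ T.1 = {d} from eq_singleton_iff_unique_mem.2
    ⟨mem_inter.2 ⟨hS, hT⟩, fun x hx => A.inter_unique hne (mem_inter.1 hx).1 (mem_inter.1 hx).2 hS hT⟩,
    sum_singleton]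

theorem e_mem {S T : Pt A} (hne : S ≠ T) : A.e S T ∈ S.1 ∧ A.e S T ∈ T.1 := by
  obtain ⟨d, hS, hT⟩ := A.exists_common hne
  rw [A.e_eq hne hS hT]
  exact ⟨hS, hT⟩

theorem e_mem_D {S T : Pt A} (hne : S ≠ T) : A.e S T ∈ A.D := S.2.1 (A.e_mem hne).1

theorem e_comm (S T : Pt A) : A.e S T = A.e T S := by
  by_cases h : S = T
  · rw [h]
  · exact A.e_eq h (A.e_mem (Ne.symm h)).2 (A.e_mem (Ne.symm h)).1

theorem exists_e {d : W} (hd : d ∈ A.D) : ∃ S T : Pt A, S ≠ T ∧ A.e S T = d ∧ A.on d = {S, T} := by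
  classical
  obtain ⟨S, T, hne, e'⟩ := card_eq_two.1 (A.card_on hd)
  exact ⟨S, T, hne, A.e_eq hne (A.mem_on.1 (by rw [e']; simp)) (A.mem_on.1 (by rw [e']; simp)), e'⟩

theorem e_pair {a b c d : Pt A} (hab : a ≠ b) (hcd : c ≠ d) (h : A.e a b = A.e c d) :
    (a = c ∧ b = d) ∨ (a = d ∧ b = c) := by
  classical
  have hc : c ∈ A.on (A.e a b) := A.mem_on.2 (h ▸ (A.e_mem hcd).1)
  have hd : d ∈ A.on (A.e a b) := A.mem_on.2 (h ▸ (A.e_mem hcd).2)
  rw [A.on_pair hab (A.e_mem hab).1 (A.e_mem hab).2, mem_insert, mem_singleton] at hc hd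
  rcases hc with rfl | rfl <;> rcases hd with rfl | rfl
  · exact absurd rfl hcd
  · exact Or.inl ⟨rfl, rfl⟩
  · exact Or.inr ⟨rfl, rfl⟩
  · exact absurd rfl hcd

/-- The pairs form triangles. -/
theorem e_add (a b c : Pt A) : A.e a b + A.e a c = A.e b c := by
  by_cases hab : a = b
  · subst hab; rw [A.e_self, zero_add]
  by_cases hac : a = c
  · subst hac; rw [A.e_self, add_zero, A.e_comm]
  by_cases hbc : b = c
  · subst hbc; rw [A.two, A.e_self]
  obtain ⟨h1, h1'⟩ := A.e_mem hab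
  obtain ⟨h2, h2'⟩ := A.e_mem hac
  set x := A.e a b
  set y := A.e a c
  have hxy : y ≠ x := by
    intro e'
    rcases A.e_pair hac hab e' with ⟨-, h⟩ | ⟨h, -⟩
    · exact hbc h.symm
    · exact hab h
  have key : ∀ (p q : W) (t : Pt A), p ∈ a.1 → q ∈ a.1 → q ≠ p → p ∈ t.1 → a ≠ t → p + q ∈ t.1 := by
    intro p q t hp hq hqp hpt hne
    have hN := IsStar.mem_N A a.2 hp hq hqp
    rcases IsStar.cases A t.2 hpt hN with h | h
    · exact absurd (Subtype.ext ((IsStar.eq_P A a.2 hp hq hqp).trans h.symm)) hne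
    · rw [h]; exact A.mem_P (A.N_partner hN)
  refine (A.e_eq hbc (key x y b h1 h2 hxy h1' hab) ?_).symm
  rw [add_comm]
  exact key y x c h2 h1 (Ne.symm hxy) h2' hac

/-- Disjoint pairs do not add up into `D`. -/
theorem disj_pairs {a b c d : Pt A} (hab : a ≠ b) (hcd : c ≠ d) (hac : a ≠ c) (had : a ≠ d) (hbc : b ≠ c)
    (hbd : b ≠ d) : A.e a b + A.e c d ∉ A.D := by
  classical
  intro h
  set x := A.e a b
  set y := A.e c d with hy
  have hN : y ∈ A.N x := A.mem_N.2 ⟨A.e_mem_D hcd, h⟩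
  have hon : ∀ T : Pt A, x ∈ T.1 → y ∈ T.1 → False := by
    intro T hx hy'
    have hT : T = a ∨ T = b := by
      have := A.mem_on.2 hx
      rwa [A.on_pair hab (A.e_mem hab).1 (A.e_mem hab).2, mem_insert, mem_singleton] at this
    have hT' : T = c ∨ T = d := by
      have := A.mem_on.2 hy'
      rwa [A.on_pair hcd (A.e_mem hcd).1 (A.e_mem hcd).2, mem_insert, mem_singleton] at this
    rcases hT with rfl | rfl <;> rcases hT' with e' | e'
    exacts [hac e', had e', hbc e', hbd e']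
  exact hon ⟨_, A.isStar_P (A.e_mem_D hab) hN⟩ A.self_mem_P (A.mem_P hN)

end Data

end Cfsg.Agent.J4V.Points
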