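import Cfsg.Agent.Lib.J4V.Stab
import Cfsg.Agent.Lib.J4V.Four

/-!
# Janko four type: an element of order four with few fixed points on the subgroup of order `2 ^ 11`

With `c` of order 4 normalising `E` (regular unipotent on it) one has `(1 + c) ^ 3 = 0` on `VV`;
a suitable `e` of `EE` makes `(e c) ^ 4 = 1`, and `e c` fixes at most 8 elements of the subgroup.

* `exists_split_element`: the statement.
-/

set_option autoImplicit false
set_option linter.style.haveILetI false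
set_option linter.unusedSectionVars false

namespace Cfsg.Agent.J4V.SplitElement

open Subgroup
open Cfsg.Agent.J4Local
open Cfsg.Agent.J4Eleven

universe u

variable {G : Type u} [Group G] [Finite G] {z : G} {P : Subgroup G}

/-- A power of `z` with exponent modulo two. -/
def zp (z : G) (a : ZMod 2) : G := z ^ a.val

theorem zp_add (hJ : JType z P) (a b : ZMod 2) : zp z a * zp z b = zp z (a + b) := by
  have h : ∀ a : ZMod 2, a = 0 ∨ a = 1 := by decide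
  have h1 : (1 : ZMod 2).val = 1 := rfl
  have h0 : (0 : ZMod 2).val = 0 := rfl
  have h11 : (1 : ZMod 2) + 1 = 0 := by decide
  rcases h a with rfl | rfl <;> rcases h b with rfl | rfl <;>
    simp [zp, h1, h0, h11, hJ.ctr.zz]

theorem zp_one (z : G) : zp z 1 = z := pow_one z

theorem zp_comm (hJ : JType z P) {y : G} (hy : y ∈ EE z) (a : ZMod 2) :
    zp z a * y = y * zp z a :=
  (show Commute z y from (hJ.ctr.comm hy).symm).pow_left _

theorem zp_comm_HH {g : G} (hg : g ∈ HH z) (a : ZMod 2) : g * zp z a = zp z a * g :=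
  ((show Commute g z from mem_HH.1 hg).pow_right _).eq

/-- A chain of images gives a lower bound for an invariant subgroup. -/
theorem pow_le_card (hJ : JType z P) {p : G} (hp : p ∈ P) (hp1 : p ≠ 1) (n : VV z →+ VV z)
    (hn4 : ∀ v, n (n (n (n v))) = 0) (hcomm : ∀ v, n (act z p v) = act z p (n v)) :
    ∀ (k : ℕ) (M : AddSubgroup (VV z)), (∀ v ∈ M, n v ∈ M) → (∀ v ∈ M, act z p v ∈ M) →
      ∀ w ∈ M, n^[k] w ≠ 0 → 4 ^ (k + 1) ≤ Nat.card M := by
  intro k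
  induction k with
  | zero =>
    intro M _ hP w hw hw0
    obtain ⟨j, -, hj⟩ := card_invariant hJ hp hp1 hP
    rw [hj]
    rcases j with _ | j
    · exfalso
      rw [pow_zero] at hj
      have := (AddSubgroup.eq_bot_of_card_eq M hj)
      rw [this, AddSubgroup.mem_bot] at hw
      exact hw0 hw
    · exact Nat.pow_le_pow_right (by norm_num) (by omega)
  | succ k ih =>
    intro M hn hP w hw hw0
    rw [Function.iterate_succ_apply] at hw0
    let f : M →+ VV z := n.comp M.subtype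
    have hI := ih f.range ?_ ?_ (n w) ⟨⟨w, hw⟩, rfl⟩ hw0
    rotate_left
    · rintro _ ⟨⟨v, hv⟩, rfl⟩
      exact ⟨⟨n v, hn v hv⟩, rfl⟩
    · rintro _ ⟨⟨v, hv⟩, rfl⟩
      exact ⟨⟨act z p v, hP v hv⟩, hcomm v⟩
    -- the kernel has a non-zero element
    have hker : 4 ≤ Nat.card f.ker := by
      obtain ⟨y, hy, hy0, hny⟩ : ∃ y ∈ M, y ≠ 0 ∧ n y = 0 := by
        have hw' : w ≠ 0 := fun e => hw0 (by
          subst e
          rw [map_zero]
          exact Function.iterate_fixed (map_zero n) k)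
        by_cases h1 : n w = 0
        · exact ⟨w, hw, hw', h1⟩
        by_cases h2 : n (n w) = 0
        · exact ⟨n w, hn _ hw, h1, h2⟩
        by_cases h3 : n (n (n w)) = 0
        · exact ⟨n (n w), hn _ (hn _ hw), h2, h3⟩
        exact ⟨n (n (n w)), hn _ (hn _ (hn _ hw)), h3, hn4 w⟩
      let K : AddSubgroup (VV z) := f.ker.map M.subtype
      have hcK : Nat.card K = Nat.card f.ker :=
        (Nat.card_congr (f.ker.equivMapOfInjective _ M.subtype_injective).toEquiv).symm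
      obtain ⟨j, -, hj⟩ := card_invariant hJ hp hp1 (W := K) (by
        rintro _ ⟨⟨v, hv⟩, hvk, rfl⟩
        refine ⟨⟨act z p v, hP v hv⟩, ?_, rfl⟩
        show n (act z p v) = 0
        rw [hcomm, show n v = 0 from hvk, map_zero])
      rw [← hcK, hj]
      rcases j with _ | j
      · exfalso
        rw [pow_zero] at hj
        have hyK : y ∈ K := ⟨⟨y, hy⟩, hny, rfl⟩
        rw [AddSubgroup.eq_bot_of_card_eq K hj, AddSubgroup.mem_bot] at hyK
        exact hy0 hyK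
      · exact Nat.le_self_pow (by omega) 4
    have h := f.ker.card_mul_index
    rw [AddSubgroup.index_ker] at h
    rw [← h, pow_succ, mul_comm]
    exact Nat.mul_le_mul hker hI

variable (X : Chart z P)

/-- Lifts of involutions with the same image act alike. -/
theorem act_of_pi {a b : G} (ha : a ∈ CC z P) (hb : b ∈ CC z P) (ha2 : a * a = 1) (hb2 : b * b = 1)
    (e : X.π ⟨a, ha⟩ = X.π ⟨b, hb⟩) (v : VV z) : act z a v = act z b v :=
  X.lift_act_eq ha hb ha2 hb2 e v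

theorem pi_conj {d a : G} (hd : d ∈ CC z P) (ha : a ∈ CC z P) :
    X.π ⟨d * a * d⁻¹, mul_mem (mul_mem hd ha) (inv_mem hd)⟩ =
      X.π ⟨d, hd⟩ * X.π ⟨a, ha⟩ * (X.π ⟨d, hd⟩)⁻¹ := by
  rw [show (⟨d * a * d⁻¹, mul_mem (mul_mem hd ha) (inv_mem hd)⟩ : ↥(CC z P)) =
    ⟨d, hd⟩ * ⟨a, ha⟩ * ⟨d, hd⟩⁻¹ from rfl, map_mul, map_mul, map_inv]

theorem sq_conj {d a : G} (h : a * a = 1) : d * a * d⁻¹ * (d * a * d⁻¹) = 1 := by
  rw [show d * a * d⁻¹ * (d * a * d⁻¹) = d * (a * a) * d⁻¹ by group, h]; group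

/-- An involution lift fixing the distinguished space pointwise centralises the subgroup of order 16. -/
theorem commute_of_fix {T : G} (hT : T ∈ CC z P) (hfix : ∀ w ∈ X.WV, act z T w = w)
    {m : ↥Cfsg.Spor.M22} (hm : m ∈ X.S.E) : X.π ⟨T, hT⟩ * m = m * X.π ⟨T, hT⟩ := by
  have hJ := X.L.J
  obtain ⟨l, hl, el⟩ := X.exists_lift hm
  have hlC := X.LE_le_CC hl
  have hlW : ∀ w ∈ X.WV, act z l w = w := fun w hw => hw l hl
  have hcl : ∀ v, act z T (act z l v) = act z l (act z T v) := fun v => by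
    have h' : ∀ d : G, ∀ y, act z d y = y + nil z d y := fun d y => by
      rw [nil_apply, add_comm (act z d y) y, ← add_assoc, VV.two hJ, zero_add]
    conv_lhs => rw [h' l v, map_add, hfix _ (X.nil_mem_WV hlC.1 hlW v)]
    conv_rhs => rw [h' T v, map_add, hlW _ (X.nil_mem_WV hT.1 hfix v)]
    rw [nil_apply, nil_apply]
    abel
  let k : ↥(CC z P) := ⟨T, hT⟩ * ⟨l, hlC⟩ * (⟨l, hlC⟩ * ⟨T, hT⟩)⁻¹
  have hkE : (k : G) ∈ EE z := act_eq_id_mem hJ k.2.1 fun v => by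
    show act z (T * l * (l * T)⁻¹) v = v
    have hlc : l * T ∈ HH z := mul_mem hlC.1 hT.1
    rw [act_mul (mul_mem hT.1 hlC.1) (inv_mem hlc), act_mul hT.1 hlC.1, hcl, ← act_mul hlC.1 hT.1,
      act_act_inv hlc]
  have hk1 : X.π k = 1 := (X.mem_ker_iff k).2 (mem_sup_right (hJ.CC_inf_EE k.2 hkE))
  rwa [map_mul, map_inv, mul_inv_eq_one, map_mul, map_mul, el] at hk1

/-- The data of the construction. -/
structure Dat where
  /-- the element of order four -/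
  c : G
  hc : c ∈ CC z P
  c4 : c * c * (c * c) = 1
  /-- a lift of its fixed element -/
  xl : G
  hxl : xl ∈ X.LE
  /-- a conjugating element -/
  hl : G
  hhl : hl ∈ CC z P
  /-- a second conjugating element -/
  kl : G
  hkl : kl ∈ CC z P
  /-- a lift of the first factor -/
  fl : G
  hfl : fl ∈ X.LE
  norm : X.π ⟨c, hc⟩ ∈ X.NS
  comm : X.π ⟨c, hc⟩ * X.π ⟨xl, X.LE_le_CC hxl⟩ = X.π ⟨xl, X.LE_le_CC hxl⟩ * X.π ⟨c, hc⟩
  ne : X.π ⟨xl, X.LE_le_CC hxl⟩ ≠ 1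
  only : ∀ y ∈ X.S.E, X.π ⟨c, hc⟩ * y = y * X.π ⟨c, hc⟩ → y = 1 ∨ y = X.π ⟨xl, X.LE_le_CC hxl⟩
  moves : ∃ y ∈ X.S.E, X.π ⟨c, hc⟩ * X.π ⟨c, hc⟩ * y ≠ y * (X.π ⟨c, hc⟩ * X.π ⟨c, hc⟩)
  into : (X.π ⟨hl, hhl⟩)⁻¹ * (X.π ⟨c, hc⟩ * X.π ⟨c, hc⟩) * X.π ⟨hl, hhl⟩ ∈ X.S.E
  kcomm : X.π ⟨kl, hkl⟩ * (X.π ⟨c, hc⟩ * X.π ⟨c, hc⟩) = X.π ⟨c, hc⟩ * X.π ⟨c, hc⟩ * X.π ⟨kl, hkl⟩
  word : X.π ⟨c, hc⟩ = X.π ⟨hl, hhl⟩ * X.π ⟨fl, X.LE_le_CC hfl⟩ * (X.π ⟨hl, hhl⟩)⁻¹ *
    (X.π ⟨kl, hkl⟩ * X.π ⟨xl, X.LE_le_CC hxl⟩ * (X.π ⟨kl, hkl⟩)⁻¹)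

theorem exists_dat : Nonempty (Dat X) := by
  haveI := X.simple
  obtain ⟨c, x, h, k, f, h4, hn, hx, hx1, hcx, hfix, hmv, hinto, hf, hk, hw⟩ := Four.exists_four X.S
  obtain ⟨⟨ca, hca⟩, eca⟩ := X.surj c
  obtain ⟨⟨hl, hhl⟩, ehl⟩ := X.surj h
  obtain ⟨⟨kl, hkl⟩, ekl⟩ := X.surj k
  obtain ⟨xl, hxl, exl⟩ := X.exists_lift hx
  obtain ⟨fl, hfl, efl⟩ := X.exists_lift hf
  have hc9 : ca ^ 9 ∈ CC z P := pow_mem hca 9
  have hpow4 : c ^ 4 = 1 := by
    rw [← h4]; simp only [pow_succ, pow_zero, one_mul, mul_assoc]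
  have e9 : X.π ⟨ca ^ 9, hc9⟩ = c := by
    rw [show (⟨ca ^ 9, hc9⟩ : ↥(CC z P)) = (⟨ca, hca⟩ : ↥(CC z P)) ^ 9 from rfl, map_pow, eca,
      show (9 : ℕ) = 4 * 2 + 1 by norm_num, pow_succ, pow_mul, hpow4, one_pow, one_mul]
  have h6 : ca ^ 4 ∈ P ⊔ zpowers z := (X.mem_ker_iff ((⟨ca, hca⟩ : ↥(CC z P)) ^ 4)).1 (by
    rw [map_pow, eca, hpow4])
  have hz : ca ^ 9 * ca ^ 9 * (ca ^ 9 * ca ^ 9) ∈ zpowers z := by
    have h := pow_mem (six_cube X.L.J h6) 3
    rw [← pow_mul, ← pow_mul] at h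
    rwa [← pow_add, ← pow_add]
  refine ⟨⟨ca ^ 9, hc9, X.sq_one (mul_mem hc9 hc9) hz, xl, hxl, hl, hhl, kl, hkl, fl, hfl, ?_, ?_,
    ?_, ?_, ?_, ?_, ?_, ?_⟩⟩
  all_goals simp only [e9, exl, ehl, ekl, efl]
  exacts [hn, hcx, hx1, hfix, hmv, hinto, hk, hw]

variable {X} (D : Dat X)

/-- The involution. -/
abbrev Dat.T : G := D.c * D.c

theorem Dat.hT : D.T ∈ CC z P := mul_mem D.hc D.hc

theorem Dat.T2 : D.T * D.T = 1 := D.c4

theorem Dat.pi_T : X.π ⟨D.T, D.hT⟩ = X.π ⟨D.c, D.hc⟩ * X.π ⟨D.c, D.hc⟩ := by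
  rw [← map_mul]; rfl

/-- One plus `c`. -/
noncomputable abbrev Dat.n : VV z →+ VV z := nil z D.c

theorem Dat.n_sq (v : VV z) : D.n (D.n v) = nil z D.T v := nil_nil X.L.J D.hc.1 v

theorem Dat.n_four (v : VV z) : D.n (D.n (D.n (D.n v))) = 0 := by
  rw [D.n_sq, D.n_sq, nil_nil X.L.J D.hT.1, D.T2, nil_apply, act_one, VV.two X.L.J]

theorem Dat.n_P {p : G} (hp : p ∈ P) (v : VV z) : D.n (act z p v) = act z p (D.n v) :=
  nil_comm X.L.J (CC_le_H0 z P D.hc) hp v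

theorem Dat.n_WV {v : VV z} (hv : v ∈ X.WV) : D.n v ∈ X.WV := by
  rw [nil_apply]
  exact add_mem (X.WV_invariant D.hc D.norm hv) hv

theorem Dat.exists_moved : ∃ w ∈ X.WV, nil z D.T w ≠ 0 := by
  by_contra hcon
  push Not at hcon
  obtain ⟨y, hy, hne⟩ := D.moves
  refine hne ?_
  rw [← D.pi_T]
  exact commute_of_fix X D.hT (fun w hw => VV.eq_of_add X.L.J (hcon w hw)) hy

theorem Dat.cube_WV {v : VV z} (hv : v ∈ X.WV) : D.n (D.n (D.n v)) = 0 := by
  obtain ⟨p, hp, hp1, -, -⟩ := X.L.J.exists_gen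
  by_contra h
  have := pow_le_card X.L.J hp hp1 D.n D.n_four (fun w => D.n_P hp w) 3 X.WV (fun w hw => D.n_WV hw)
    (fun w hw => X.act_P_WV hp hw) v hv h
  rw [X.card_WV.1] at this
  norm_num at this

theorem Dat.card_fix : Nat.card ↥(X.WV ⊓ D.n.ker : AddSubgroup (VV z)) ≤ 4 := by
  obtain ⟨p, hp, hp1, -, -⟩ := X.L.J.exists_gen
  obtain ⟨w, hw, hw0⟩ := D.exists_moved
  let f : X.WV →+ VV z := D.n.comp X.WV.subtype
  have hI := pow_le_card X.L.J hp hp1 D.n D.n_four (fun w => D.n_P hp w) 1 f.range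
    (by rintro _ ⟨⟨v, hv⟩, rfl⟩; exact ⟨⟨D.n v, D.n_WV hv⟩, rfl⟩)
    (by rintro _ ⟨⟨v, hv⟩, rfl⟩; exact ⟨⟨act z p v, X.act_P_WV hp hv⟩, D.n_P hp v⟩)
    (D.n w) ⟨⟨w, hw⟩, rfl⟩ (by rw [Function.iterate_one, D.n_sq]; exact hw0)
  have h := f.ker.card_mul_index
  rw [AddSubgroup.index_ker, X.card_WV.1] at h
  have hle : Nat.card ↥(X.WV ⊓ D.n.ker : AddSubgroup (VV z)) ≤ Nat.card f.ker :=
    Nat.card_le_card_of_injective (fun v => (⟨⟨v.1, v.2.1⟩, v.2.2⟩ : f.ker)) fun a b e =>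
      Subtype.ext (congrArg (fun q : f.ker => ((q.1 : X.WV) : VV z)) e)
  rw [show (4 : ℕ) ^ (1 + 1) = 16 by norm_num] at hI
  rw [show (2 : ℕ) ^ 6 = 64 by norm_num] at h
  nlinarith

theorem Dat.act_comm_xl (v : VV z) : act z D.c (act z D.xl v) = act z D.xl (act z D.c v) := by
  have hxC := X.LE_le_CC D.hxl
  rw [← act_conj D.hc.1 hxC.1]
  refine act_of_pi X (mul_mem (mul_mem D.hc hxC) (inv_mem D.hc)) hxC (sq_conj D.hxl.2.2) D.hxl.2.2 ?_ _
  rw [pi_conj X D.hc hxC, D.comm, mul_inv_cancel_right]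

theorem Dat.T_kills (v : VV z) : nil z D.T (nil z D.xl v) = 0 := by
  have hJ := X.L.J
  obtain ⟨p, hp, hp1, -, -⟩ := hJ.exists_gen
  have hxC := X.LE_le_CC D.hxl
  have hcard : Nat.card ↥(nil z D.xl).range = 16 := by
    have h := (nil z D.xl).ker.card_mul_index
    rw [AddSubgroup.index_ker, card_VV hJ, X.card_ker_lift hxC D.hxl.2.2 D.ne] at h
    omega
  by_contra hne
  have := pow_le_card hJ hp hp1 D.n D.n_four (fun w => D.n_P hp w) 2 (nil z D.xl).range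
    (by
      rintro _ ⟨y, rfl⟩
      refine ⟨D.n y, ?_⟩
      simp only [nil_apply, map_add, D.act_comm_xl]
      abel)
    (by
      rintro _ ⟨y, rfl⟩
      exact ⟨act z p y, nil_comm hJ (CC_le_H0 z P hxC) hp y⟩)
    (nil z D.xl v) ⟨v, rfl⟩
    (by
      show D.n (D.n (nil z D.xl v)) ≠ 0
      rw [D.n_sq]; exact hne)
  rw [hcard] at this
  norm_num at this

theorem Dat.xl_fixes (v : VV z) : act z D.xl (nil z D.T v) = nil z D.T v := by
  refine VV.eq_of_add X.L.J ?_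
  have hc : ∀ y, act z D.T (act z D.xl y) = act z D.xl (act z D.T y) := fun y => by
    rw [act_mul D.hc.1 D.hc.1, act_mul D.hc.1 D.hc.1, D.act_comm_xl, D.act_comm_xl]
  rw [← D.T_kills v]
  simp only [nil_apply, map_add, hc]

/-- Every element of `C` centralising the image of `T` keeps the image of `1 + T`. -/
theorem Dat.conj_xl_fixes (v : VV z) :
    act z (D.kl * D.xl * D.kl⁻¹) (nil z D.T v) = nil z D.T v := by
  have hxC := X.LE_le_CC D.hxl
  have hd := inv_mem D.hkl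
  -- pull back along the conjugating element
  have hpull : ∀ y, act z D.kl⁻¹ (nil z D.T y) = nil z D.T (act z D.kl⁻¹ y) := fun y => by
    rw [nil_apply, nil_apply, map_add]
    congr 1
    rw [← act_conj hd.1 D.hT.1]
    refine act_of_pi X (mul_mem (mul_mem hd D.hT) (inv_mem hd)) D.hT (sq_conj D.T2) D.T2 ?_ _
    rw [pi_conj X hd D.hT, show X.π ⟨D.kl⁻¹, hd⟩ = (X.π ⟨D.kl, D.hkl⟩)⁻¹ from
      map_inv X.π ⟨D.kl, D.hkl⟩, D.pi_T, inv_inv, mul_assoc, ← D.kcomm, inv_mul_cancel_left]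
  have e : nil z D.T v = act z D.kl (nil z D.T (act z D.kl⁻¹ v)) := by
    rw [← hpull, act_act_inv D.hkl.1]
  conv_lhs => rw [e, act_conj D.hkl.1 hxC.1, D.xl_fixes, ← e]

theorem Dat.conj_fl_fixes (v : VV z) :
    act z (D.hl * D.fl * D.hl⁻¹) (nil z D.T v) = nil z D.T v := by
  have hfC := X.LE_le_CC D.hfl
  have hd := inv_mem D.hhl
  set s := D.hl⁻¹ * D.T * D.hl⁻¹⁻¹ with hs
  have hsC : s ∈ CC z P := mul_mem (mul_mem hd D.hT) (inv_mem hd)
  have hsLE : s ∈ X.LE := ⟨hsC, by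
    rw [show (⟨s, hsC⟩ : ↥(CC z P)) = ⟨D.hl⁻¹ * D.T * D.hl⁻¹⁻¹, hsC⟩ from rfl, pi_conj X hd D.hT,
      show X.π ⟨D.hl⁻¹, hd⟩ = (X.π ⟨D.hl, D.hhl⟩)⁻¹ from map_inv X.π ⟨D.hl, D.hhl⟩, D.pi_T, inv_inv]
    exact D.into, sq_conj D.T2⟩
  have hpull : ∀ y, act z D.hl⁻¹ (nil z D.T y) = nil z s (act z D.hl⁻¹ y) := fun y => by
    rw [nil_apply, nil_apply, map_add, hs, act_conj hd.1 D.hT.1]
  have hW : nil z s (act z D.hl⁻¹ v) ∈ X.WV :=
    X.nil_mem_WV hsC.1 (fun w hw => hw s hsLE) _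
  have e : nil z D.T v = act z D.hl (nil z s (act z D.hl⁻¹ v)) := by
    rw [← hpull, act_act_inv D.hhl.1]
  conv_lhs => rw [e, act_conj D.hhl.1 hfC.1, hW D.fl D.hfl, ← e]

/-- `(1 + c) ^ 3` is zero. -/
theorem Dat.c_fixes (v : VV z) : act z D.c (nil z D.T v) = nil z D.T v := by
  have hJ := X.L.J
  have hxC := X.LE_le_CC D.hxl
  have hfC := X.LE_le_CC D.hfl
  have hY1 : D.hl * D.fl * D.hl⁻¹ ∈ CC z P := mul_mem (mul_mem D.hhl hfC) (inv_mem D.hhl)
  have hY2 : D.kl * D.xl * D.kl⁻¹ ∈ CC z P := mul_mem (mul_mem D.hkl hxC) (inv_mem D.hkl)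
  set Y := D.hl * D.fl * D.hl⁻¹ * (D.kl * D.xl * D.kl⁻¹) with hY
  have hYC : Y ∈ CC z P := mul_mem hY1 hY2
  have hk : Y⁻¹ * D.c ∈ P ⊔ zpowers z := (X.mem_ker_iff (⟨Y, hYC⟩⁻¹ * ⟨D.c, D.hc⟩)).1 (by
    rw [map_mul, map_inv, show X.π ⟨Y, hYC⟩ = X.π ⟨D.c, D.hc⟩ by
      rw [show (⟨Y, hYC⟩ : ↥(CC z P)) = ⟨_, hY1⟩ * ⟨_, hY2⟩ from rfl, map_mul,
        pi_conj X D.hhl hfC, pi_conj X D.hkl hxC, ← D.word], inv_mul_cancel])
  have hn : zpowers z ≤ normalizer (P : Set G) := zpowers_le.2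
    (M22Order.mem_normalizer_of_conj fun q hq => by
      rw [← mem_HH.1 (hJ.P_le_HH hq), mul_inv_cancel_right]; exact hq)
  obtain ⟨q, hq, t, ht, hqt⟩ := (Coprime.mem_sup_of_le_normalizer hn).1 hk
  have hqH := hJ.P_le_HH hq
  have hcY : D.c = Y * (q * t) := by rw [hqt, mul_inv_cancel_left]
  -- on the image `c` is a power of `P`
  have hkey : ∀ y, act z D.c (nil z D.T y) = act z q (nil z D.T y) := fun y => by
    have htE : t ∈ EE z := zpowers_le.2 X.z_mem_EE ht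
    rw [hcY, act_mul hYC.1 (mul_mem hqH (EE_le_HH z htE)), act_mul_EE hJ hqH htE,
      ← nil_comm hJ (CC_le_H0 z P D.hT) hq, hY, act_mul hY1.1 hY2.1, D.conj_xl_fixes,
      D.conj_fl_fixes]
  have hq3 : q * q * q = 1 := by
    have h1 : (⟨q, hq⟩ : P) ^ Nat.card P = 1 := pow_card_eq_one'
    rw [hJ.cardP] at h1
    have h2 := congrArg Subtype.val h1
    simpa [pow_succ] using h2
  have hcomm : ∀ y, act z q (nil z D.T y) = nil z D.T (act z q y) := fun y =>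
    (nil_comm hJ (CC_le_H0 z P D.hT) hq y).symm
  have h4 : nil z D.T v = act z (D.c * D.c * (D.c * D.c)) (nil z D.T v) := by rw [D.c4, act_one]
  rw [act_mul (mul_mem D.hc.1 D.hc.1) (mul_mem D.hc.1 D.hc.1), act_mul D.hc.1 D.hc.1,
    act_mul D.hc.1 D.hc.1] at h4
  rw [hkey, hcomm, hkey, hcomm, hkey, hcomm, hkey] at h4
  rw [← hcomm, ← hcomm, ← hcomm, ← act_mul hqH hqH, ← act_mul (mul_mem hqH hqH) hqH, hq3,
    act_one] at h4
  rw [hkey, ← h4]

theorem Dat.cube (v : VV z) : D.n (D.n (D.n v)) = 0 := by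
  rw [D.n_sq]
  have h : nil z D.T (D.n v) = D.n (nil z D.T v) := by rw [← D.n_sq, ← D.n_sq]
  rw [h]
  show act z D.c (nil z D.T v) + nil z D.T v = 0
  rw [D.c_fixes, VV.two X.L.J]

/-- Conjugation by `c`. -/
def Dat.cj (y : G) : G := D.c * y * D.c⁻¹

/-- The norm of an element of `EE`. -/
def Dat.norm4 (y : G) : G := y * D.cj y * D.cj (D.cj y) * D.cj (D.cj (D.cj y))

theorem Dat.cj_mem {y : G} (hy : y ∈ EE z) : D.cj y ∈ EE z := conj_mem_EE D.hc.1 hy

theorem Dat.cj_pre {y : G} (hy : y ∈ preV X.L.J X.WV) : D.cj y ∈ preV X.L.J X.WV := by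
  refine ⟨D.cj_mem hy.1, ?_⟩
  rw [Dat.cj, ← act_vk D.hc.1 hy.1]
  exact X.WV_invariant D.hc D.norm hy.2

theorem Dat.vk_cj {y : G} (hy : y ∈ EE z) : vk z (D.cj y) = act z D.c (vk z y) :=
  (act_vk D.hc.1 hy).symm

theorem Dat.norm4_mem {y : G} (hy : y ∈ EE z) : D.norm4 y ∈ zpowers z := by
  have hJ := X.L.J
  have h1 := D.cj_mem hy
  have h2 := D.cj_mem h1
  have h3 := D.cj_mem h2
  refine (vk_eq_zero_iff hJ (mul_mem (mul_mem (mul_mem hy h1) h2) h3)).1 ?_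
  rw [vk_mul (mul_mem (mul_mem hy h1) h2) h3, vk_mul (mul_mem hy h1) h2, vk_mul hy h1,
    D.vk_cj h2, D.vk_cj h1, D.vk_cj hy, ← D.cube (vk z y)]
  simp only [nil_apply, map_add]
  have t2 := VV.two hJ
  set a := vk z y
  set b := act z D.c a
  set d := act z D.c b
  set f := act z D.c d
  rw [show f + d + (d + b) + ((d + b) + (b + a)) = a + b + d + f + (d + d) + (b + b) by abel, t2,
    t2, add_zero, add_zero]

theorem exists_split_element :
    ∃ g ∈ normalizer (X.std : Set G),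
      g ^ 4 = 1 ∧ Nat.card {v : X.std // g * v * g⁻¹ = (v : G)} ≤ 8 := by
  classical
  obtain ⟨D⟩ := exists_dat X
  have hJ := X.L.J
  obtain ⟨p, hp, hp1, -, -⟩ := hJ.exists_gen
  have hpH := hJ.P_le_HH hp
  -- the fixed point
  obtain ⟨w0, hw0, hw0T⟩ := D.exists_moved
  obtain ⟨x', hx'E, hx'⟩ := vk_surj w0
  set x := x' * (p * x' * p⁻¹) with hx
  have hx'pre : x' ∈ preV hJ X.WV := ⟨hx'E, hx' ▸ hw0⟩
  have hpx'pre : p * x' * p⁻¹ ∈ preV hJ X.WV :=
    ⟨conj_mem_EE hpH hx'E, by rw [← act_vk hpH hx'E, hx']; exact X.act_P_WV hp hw0⟩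
  have hxpre : x ∈ preV hJ X.WV := mul_mem hx'pre hpx'pre
  set w := vk z x with hw
  have hwW : w ∈ X.WV := hxpre.2
  set p1 := nil z D.T w with hp1def
  have hp1W : p1 ∈ X.WV := by rw [hp1def, ← D.n_sq]; exact D.n_WV (D.n_WV hwW)
  have hwsum : w = w0 + act z p w0 := by
    rw [hw, hx, vk_mul hx'E (conj_mem_EE hpH hx'E), ← act_vk hpH hx'E, hx']
  have hp1ne : p1 ≠ 0 := by
    rw [hp1def, hwsum, map_add, nil_comm hJ (CC_le_H0 z P D.hT) hp]
    exact fun e => hw0T (act_fpf hJ hp hp1 (VV.eq_of_add hJ e).symm)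
  have hp1fix : act z D.c p1 = p1 := D.c_fixes w
  -- its norm is trivial
  have hnx : D.norm4 x = 1 := by
    have hcp : D.c * p = p * D.c := commute_CC_P D.hc hp
    have hcjp : ∀ y, D.cj (p * y * p⁻¹) = p * D.cj y * p⁻¹ := fun y => by
      have hcp' : p⁻¹ * D.c⁻¹ = D.c⁻¹ * p⁻¹ := by rw [← mul_inv_rev, hcp, mul_inv_rev]
      calc D.c * (p * y * p⁻¹) * D.c⁻¹ = (D.c * p) * y * (p⁻¹ * D.c⁻¹) := by group
        _ = (p * D.c) * y * (D.c⁻¹ * p⁻¹) := by rw [hcp, hcp']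
        _ = p * (D.c * y * D.c⁻¹) * p⁻¹ := by group
    have hcjm : ∀ a b, D.cj (a * b) = D.cj a * D.cj b := fun a b => by
      show D.c * (a * b) * D.c⁻¹ = D.c * a * D.c⁻¹ * (D.c * b * D.c⁻¹)
      group
    have hmulpre : ∀ a ∈ preV hJ X.WV, ∀ b ∈ preV hJ X.WV,
        D.norm4 (a * b) = D.norm4 a * D.norm4 b := by
      intro a ha b hb
      have comm : ∀ u ∈ preV hJ X.WV, ∀ v ∈ preV hJ X.WV, Commute u v :=
        fun u hu v hv => X.preV_comm hu hv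
      have a1 := D.cj_pre ha
      have a2 := D.cj_pre a1
      have a3 := D.cj_pre a2
      have b1 := D.cj_pre hb
      have b2 := D.cj_pre b1
      simp only [Dat.norm4, hcjm]
      rw [(comm b hb (D.cj a) a1).mul_mul_mul_comm, (comm (b * D.cj b) (mul_mem hb b1) _ a2).mul_mul_mul_comm,
        (comm (b * D.cj b * D.cj (D.cj b)) (mul_mem (mul_mem hb b1) b2) _ a3).mul_mul_mul_comm]
    have hnp : D.norm4 (p * x' * p⁻¹) = p * D.norm4 x' * p⁻¹ := by
      simp only [Dat.norm4, hcjp]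
      group
    rw [hx, hmulpre _ hx'pre _ hpx'pre, hnp]
    have hm := D.norm4_mem hx'E
    rw [show p * D.norm4 x' * p⁻¹ = D.norm4 x' by
      rcases hJ.mem_zpowers hm with e | e <;> rw [e]
      · group
      · rw [mem_HH.1 hpH, mul_inv_cancel_right]]
    exact X.sq_of_zpowers hm
  -- the form with the fixed point
  obtain ⟨uu, huu⟩ : ∃ uu, BB z uu p1 = 1 := by
    by_contra hcon
    push Not at hcon
    refine hp1ne (BB_nondeg hJ fun y => ?_)
    have h01 : ∀ a : ZMod 2, a ≠ 1 → a = 0 := by decide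
    rw [BB_comm]; exact h01 _ (hcon y)
  obtain ⟨e0, he0, he0v⟩ := vk_surj uu
  -- the fourth power of `e c`
  have hfour : ∀ e ∈ EE z, (e * D.c) ^ 4 = D.norm4 e := fun e _ => by
    have hc4 : D.c ^ 4 = 1 := by
      rw [← D.c4]; simp only [pow_succ, pow_zero, one_mul, mul_assoc]
    calc (e * D.c) ^ 4 = D.norm4 e * D.c ^ 4 := by
          simp only [Dat.norm4, Dat.cj, pow_succ, pow_zero, one_mul]; group
      _ = D.norm4 e := by rw [hc4, mul_one]
  have hmain : ∃ e ∈ EE z, (e * D.c) ^ 4 = 1 ∧ BB z (vk z e) p1 = 1 := by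
    rcases hJ.mem_zpowers (D.norm4_mem he0) with e1 | ez
    · exact ⟨e0, he0, by rw [hfour _ he0, e1], by rw [he0v, huu]⟩
    refine ⟨x * e0, mul_mem hxpre.1 he0, ?_, ?_⟩
    swap
    · rw [vk_mul hxpre.1 he0, BB_add_left hJ, X.BB_WV hxpre.2 hp1W, he0v, huu, zero_add]
    set x1 := D.cj x with hx1
    set x2 := D.cj x1 with hx2
    set x3 := D.cj x2 with hx3
    have m1 : x1 ∈ EE z := D.cj_mem hxpre.1
    have m2 : x2 ∈ EE z := D.cj_mem m1
    have m3 : x3 ∈ EE z := D.cj_mem m2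
    set g := e0 * D.c with hg
    have hgH : g ∈ HH z := mul_mem (EE_le_HH z he0) D.hc.1
    have hconj : ∀ y ∈ EE z, g * y = D.cj y * zp z (cm e0 (D.cj y)) * g := fun y hy => by
      rw [zp, ← conj_eq hJ he0 (D.cj_mem hy), hg, Dat.cj]
      group
    set a1 := cm e0 x1 with ha1
    set a2 := cm e0 x2 with ha2
    set a3 := cm e0 x3 with ha3
    -- move the three factors to the left
    have hzg : ∀ a : ZMod 2, ∀ y : G, g * (zp z a * y) = zp z a * (g * y) := fun a y => by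
      rw [← mul_assoc, zp_comm_HH hgH, mul_assoc]
    have s1 : g * x = x1 * zp z a1 * g := hconj x hxpre.1
    have s2 : g * x1 = x2 * zp z a2 * g := hconj x1 m1
    have s3 : g * x2 = x3 * zp z a3 * g := hconj x2 m2
    have hsum : a1 + a3 = 1 := by
      rw [ha1, ha3, ← BB_vk hJ he0 m1, ← BB_vk hJ he0 m3, ← BB_add_right hJ, he0v,
        hx3, hx2, hx1, D.vk_cj (D.cj_mem (D.cj_mem hxpre.1)), D.vk_cj (D.cj_mem hxpre.1),
        D.vk_cj hxpre.1, ← hw]
      have e : act z D.c w + act z D.c (act z D.c (act z D.c w)) = act z D.c p1 := by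
        rw [hp1def, nil_apply, map_add, act_mul D.hc.1 D.hc.1, add_comm]
      rw [e, hp1fix, huu]
    have hg4 : g * g * g * g = z := by
      rw [← ez, ← hfour _ he0, hg]; simp only [pow_succ, pow_zero, one_mul]
    rw [show (x * e0 * D.c) = x * g by rw [hg, mul_assoc]]
    calc (x * g) ^ 4 = x * (g * x) * (g * x) * (g * x) * g := by
          simp only [pow_succ, pow_zero, one_mul, mul_assoc]
      _ = x * x1 * zp z a1 * (g * x1) * zp z a1 * (g * x1) * zp z a1 * (g * g) := by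
          rw [s1]; simp only [mul_assoc]
      _ = x * x1 * zp z a1 * x2 * zp z a2 * zp z a1 * (g * x2) * zp z a2 * zp z a1 * (g * g * g) := by
          rw [s2]; simp only [mul_assoc, hzg]
      _ = x * x1 * zp z a1 * x2 * zp z a2 * zp z a1 * x3 * zp z a3 * zp z a2 * zp z a1 *
            (g * g * g * g) := by
          rw [s3]; simp only [mul_assoc, hzg]
      _ = x * x1 * x2 * x3 * (zp z a1 * (zp z a2 * zp z a1) * (zp z a3 * zp z a2 * zp z a1)) * z := by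
          rw [hg4]
          simp only [mul_assoc]
          rw [← mul_assoc (zp z a1) x2, zp_comm hJ m2, mul_assoc x2,
            ← mul_assoc (zp z a1) x3, zp_comm hJ m3, mul_assoc x3,
            ← mul_assoc (zp z a2) x3, zp_comm hJ m3, mul_assoc x3,
            ← mul_assoc (zp z a1) x3, zp_comm hJ m3, mul_assoc x3]
      _ = D.norm4 x * zp z (a1 + a3) * zp z 1 := by
          have h2 : ∀ a b c : ZMod 2, a + (b + a) + (c + b + a) = a + c := by decide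
          simp only [zp_add hJ]
          rw [h2, zp_one]
          rfl
      _ = 1 := by
          rw [hnx, hsum, one_mul, zp_add hJ, show (1 : ZMod 2) + 1 = 0 by decide]
          exact pow_zero z
  obtain ⟨e, he, hg4, hep⟩ := hmain
  set g := e * D.c with hgdef
  refine ⟨g, mul_mem (M22Order.mem_normalizer_of_conj fun a ha => X.EE_conj_std he ha)
    (M22Order.mem_normalizer_of_conj fun a ha => X.CC_conj_std D.hc D.norm ha), hg4, ?_⟩
  -- the fixed subgroup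
  set S := X.std ⊓ centralizer ({g} : Set G) with hS
  have hcard : Nat.card {v : X.std // g * v * g⁻¹ = (v : G)} = Nat.card S :=
    Nat.card_congr ⟨fun v => ⟨v.1, v.1.2, mem_centralizer_singleton_iff.2
        ((mul_inv_eq_iff_eq_mul.1 v.2).symm)⟩,
      fun v => ⟨⟨v, v.2.1⟩, mul_inv_eq_iff_eq_mul.2 (mem_centralizer_singleton_iff.1 v.2.2).symm⟩,
      fun v => rfl, fun v => rfl⟩
  rw [hcard]
  have hg0 : g ∈ H0 z P := mul_mem (EE_le_H0 z P he) (CC_le_H0 z P D.hc)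
  have hψg : X.psi ⟨g, hg0⟩ = X.π ⟨D.c, D.hc⟩ := by
    have hmem : D.c * (D.c⁻¹ * e * D.c) ∈ H0 z P :=
      mul_mem (CC_le_H0 z P D.hc) (EE_le_H0 z P (conj_mem_EE' D.hc.1 he))
    rw [show (⟨g, hg0⟩ : ↥(H0 z P)) = ⟨D.c * (D.c⁻¹ * e * D.c), hmem⟩ from
      Subtype.ext (by show e * D.c = D.c * (D.c⁻¹ * e * D.c); group)]
    exact X.psi_eq D.hc (conj_mem_EE' D.hc.1 he) hmem
  have himg : ∀ a : S, X.psi ⟨a, X.std_le_H0 a.2.1⟩ = 1 ∨
      X.psi ⟨a, X.std_le_H0 a.2.1⟩ = X.π ⟨D.xl, X.LE_le_CC D.hxl⟩ := fun a => by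
    refine D.only _ (X.psi_std a.2.1) ?_
    rw [← hψg, ← map_mul, ← map_mul]
    exact congrArg X.psi (Subtype.ext (mem_centralizer_singleton_iff.1 a.2.2).symm)
  refine (card_le_stab_mul S (S ⊓ EE z)
    (fun a => decide (X.psi ⟨a, X.std_le_H0 a.2.1⟩ = 1)) fun a b hab => ?_).trans ?_
  · have hm : (a : G)⁻¹ * b ∈ S := mul_mem (inv_mem a.2) b.2
    refine ⟨hm, X.mem_EE_of_psi_one (X.std_le_H0 hm.1) (X.std_eleven.sq _ hm.1) ?_⟩
    rw [show (⟨(a : G)⁻¹ * b, X.std_le_H0 hm.1⟩ : ↥(H0 z P)) =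
      (⟨a, X.std_le_H0 a.2.1⟩)⁻¹ * ⟨b, X.std_le_H0 b.2.1⟩ from rfl, map_mul, map_inv, inv_mul_eq_one]
    rcases himg a with h1 | h1 <;> rcases himg b with h2 | h2 <;>
      simp [h1, h2, D.ne] at hab ⊢
  have h2 : Nat.card ↥(imgV z (S ⊓ EE z)) ≤ 2 := by
    let β : VV z →+ ZMod 2 := AddMonoidHom.mk' (fun v => BB z (vk z e) v)
      (fun a b => BB_add_right hJ _ a b)
    set K0 : AddSubgroup (VV z) := X.WV ⊓ D.n.ker with hK0
    set K : AddSubgroup (VV z) := K0 ⊓ β.ker with hK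
    have hle : imgV z (S ⊓ EE z) ≤ K := by
      rintro _ ⟨a, ⟨ha, haE⟩, -, rfl⟩
      have hpre := X.std_inf_EE ha.1 haE
      have hcom : a * g = g * a := (mem_centralizer_singleton_iff.1 ha.2)
      have hfix : act z D.c (vk z a) = vk z a := by
        have h : act z g (vk z a) = vk z a := by
          rw [act_vk (mul_mem (EE_le_HH z he) D.hc.1) haE, ← hcom, mul_inv_cancel_right]
        rw [hgdef, act_mul (EE_le_HH z he) D.hc.1, act_EE hJ he] at h
        exact h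
      refine ⟨⟨hpre.2, (mem_ker_nil hJ).2 hfix⟩, ?_⟩
      show BB z (vk z e) (vk z a) = 0
      rw [BB_vk hJ he haE, cm_eq_zero]
      have h1 := fixed_of_CC hJ D.hc haE hfix
      rw [hgdef, ← mul_assoc, mul_assoc e D.c a, h1, ← mul_assoc] at hcom
      exact (mul_right_cancel hcom).symm
    have hne : K ≠ K0 := fun e' => by
      have h : p1 ∈ K := by rw [e']; exact ⟨hp1W, (mem_ker_nil hJ).2 hp1fix⟩
      have h' : BB z (vk z e) p1 = 0 := h.2
      rw [hep] at h'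
      exact one_ne_zero h'
    have hd : Nat.card K ∣ Nat.card K0 := AddSubgroup.card_dvd_of_le inf_le_left
    have hK4 := D.card_fix
    rw [← hK0] at hK4
    obtain ⟨k, hk⟩ := hd
    have hk2 : 2 ≤ k := by
      rcases k with _ | _ | k
      · rw [mul_zero] at hk; exact absurd hk Nat.card_pos.ne'
      · exact absurd (AddSubgroup.eq_of_le_of_card_ge inf_le_left (by
          have h' := hk.le; rw [zero_add, mul_one] at h'; exact h')) hne
      · omega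
    refine (AddSubgroup.card_le_of_le hle).trans ?_
    have := Nat.mul_le_mul_left (Nat.card K) hk2
    omega
  have h3 := card_le_two_mul hJ (S := S ⊓ EE z) inf_le_right
  rw [show Nat.card Bool = 2 by simp]
  omega

end Cfsg.Agent.J4V.SplitElement
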