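import Cfsg.Agent.Lib.J4Eleven.Main

/-!
# Janko four type: the stabiliser in `H` of the elementary subgroup of order `2 ^ 11`

`E` normalises it, it is its own centraliser, its normaliser in `H` has order `2 ^ 11 · 138240`, and as a
2-subgroup contains one such subgroup at most, its normaliser controls fusion in it.
-/

set_option autoImplicit false
set_option linter.style.haveILetI false
set_option linter.unusedSectionVars false

namespace Cfsg.Agent.J4Eleven.Chart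

open Subgroup
open Cfsg.Agent.J4Local
open Cfsg.Agent.M22Order (Setup)

universe u

variable {G : Type u} [Group G] [Finite G] {z : G} {P : Subgroup G} (X : Chart z P)

/-- The normaliser of the elementary subgroup of order 16. -/
abbrev NS : Subgroup ↥Cfsg.Spor.M22 := normalizer (X.S.E : Set ↥Cfsg.Spor.M22)

theorem z_mem_preW : z ∈ preV X.L.J X.WV :=
  ⟨X.z_mem_EE, by rw [vk_z X.L.J]; exact zero_mem _⟩

theorem z_mem_std : z ∈ X.std := X.preV_le_std X.z_mem_preW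

theorem act_P (p : G) (hp : p ∈ P) (hd : p ∈ CC z P) : X.π ⟨p, hd⟩ = 1 :=
  (X.mem_ker_iff _).2 (mem_sup_left hp)

theorem nil_mem_WV {c : G} (hc : c ∈ HH z) (hfix : ∀ w ∈ X.WV, act z c w = w) (v : VV z) :
    nil z c v ∈ X.WV := by
  rw [← X.card_WV.2]
  intro w hw
  rw [nil_apply, BB_add_left X.L.J]
  conv_lhs => enter [1]; rw [← hfix w hw, BB_act X.L.J hc]
  exact CharTwo.add_self_eq_zero _

theorem EE_conj_std {e a : G} (he : e ∈ EE z) (ha : a ∈ X.std) : e * a * e⁻¹ ∈ X.std := by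
  have hJ := X.L.J
  obtain ⟨x, hx, c, hc, rfl⟩ := ha
  have h1 : e * x * e⁻¹ ∈ preV hJ X.WV := by
    refine ⟨conj_mem_EE (EE_le_HH z he) hx.1, ?_⟩
    rw [← act_vk (EE_le_HH z he) hx.1, act_EE hJ he]
    exact hx.2
  have hcH := (X.LE_le_CC hc).1
  have h2 : e * c * e⁻¹ * c⁻¹ ∈ preV hJ X.WV := by
    rw [show e * c * e⁻¹ * c⁻¹ = e * (c * e⁻¹ * c⁻¹) by group]
    refine ⟨mul_mem he (conj_mem_EE hcH (inv_mem he)), ?_⟩
    rw [vk_mul he (conj_mem_EE hcH (inv_mem he)), ← act_vk hcH (inv_mem he), vk_inv hJ he, add_comm,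
      ← nil_apply]
    exact X.nil_mem_WV hcH (fun w hw => hw c hc) _
  exact ⟨e * x * e⁻¹ * (e * c * e⁻¹ * c⁻¹), mul_mem h1 h2, c, hc, by group⟩

theorem CC_conj_std {d : G} (hd : d ∈ CC z P) (hn : X.π ⟨d, hd⟩ ∈ X.NS) {a : G} (ha : a ∈ X.std) :
    d * a * d⁻¹ ∈ X.std := by
  obtain ⟨x, hx, c, hc, rfl⟩ := ha
  refine ⟨d * x * d⁻¹, ⟨conj_mem_EE hd.1 hx.1, ?_⟩, d * c * d⁻¹, X.conj_mem_LE hd hn hc, by group⟩
  rw [← act_vk hd.1 hx.1]
  exact X.WV_invariant hd hn hx.2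

theorem psi_mul_LE {x c : G} (hx : x ∈ EE z) (hc : c ∈ X.LE) (h : x * c ∈ H0 z P) :
    X.psi ⟨x * c, h⟩ = X.π ⟨c, X.LE_le_CC hc⟩ := by
  have h' : c * (c⁻¹ * x * c) ∈ H0 z P := by simpa [mul_assoc] using h
  have e : (⟨x * c, h⟩ : ↥(H0 z P)) = ⟨c * (c⁻¹ * x * c), h'⟩ := Subtype.ext (by group)
  rw [e]
  exact X.psi_eq (X.LE_le_CC hc) (conj_mem_EE' (X.LE_le_CC hc).1 hx) _

theorem psi_std {a : G} (ha : a ∈ X.std) : X.psi ⟨a, X.std_le_H0 ha⟩ ∈ X.S.E := by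
  obtain ⟨x, hx, c, hc, rfl⟩ := ha
  rw [X.psi_mul_LE hx.1 hc]
  exact hc.2.1

theorem std_inf_EE {a : G} (ha : a ∈ X.std) (hE : a ∈ EE z) : a ∈ preV X.L.J X.WV := by
  obtain ⟨x, hx, c, hc, rfl⟩ := ha
  refine mul_mem hx ?_
  have hcE : c ∈ EE z := by simpa using mul_mem (inv_mem hx.1) hE
  rcases X.L.J.mem_zpowers (X.L.J.CC_inf_EE (X.LE_le_CC hc) hcE) with rfl | rfl
  exacts [one_mem _, X.z_mem_preW]

theorem psi_surjective : Function.Surjective X.psi := fun m => by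
  obtain ⟨⟨c, hc⟩, e⟩ := X.surj m
  exact ⟨⟨c, CC_le_H0 z P hc⟩, (X.psi_CC hc _).trans e⟩

/-- In the inner part the normaliser is the preimage of that of the elementary subgroup of order 16. -/
theorem mem_normalizer_iff_psi {v : G} (hv : v ∈ H0 z P) :
    v ∈ normalizer (X.std : Set G) ↔ X.psi ⟨v, hv⟩ ∈ X.NS := by
  constructor
  · intro hn
    refine M22Order.mem_normalizer_of_conj fun m hm => ?_
    obtain ⟨l, hl, el⟩ := X.exists_lift hm
    have hls := M22Order.conj_mem_of_mem_normalizer hn (X.LE_le_std hl)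
    have e := X.psi_std hls
    rw [show (⟨v * l * v⁻¹, X.std_le_H0 hls⟩ : ↥(H0 z P)) =
      ⟨v, hv⟩ * ⟨l, CC_le_H0 z P (X.LE_le_CC hl)⟩ * ⟨v, hv⟩⁻¹ from rfl, map_mul, map_mul, map_inv,
      X.psi_CC (X.LE_le_CC hl), el] at e
    exact e
  · intro hn
    obtain ⟨c, hc, e, he, rfl⟩ := exists_dec hv
    rw [X.psi_eq hc he] at hn
    exact mul_mem (M22Order.mem_normalizer_of_conj fun a ha => X.CC_conj_std hc hn ha)
      (M22Order.mem_normalizer_of_conj fun a ha => X.EE_conj_std he ha)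

/-- Each element of `H` is moved by `C` into the normaliser. -/
theorem exists_CC_mul_normalizer {h : G} (hh : h ∈ HH z) :
    ∃ d ∈ CC z P, d * h ∈ normalizer (X.std : Set G) := by
  obtain ⟨d, hd, e⟩ := X.exists_conj_std (X.std_eleven.conj hh)
  refine ⟨d, hd, M22Order.mem_normalizer_of_conj fun a ha => ?_⟩
  rw [← e]
  exact ⟨h * a * h⁻¹, ⟨a, ha, rfl⟩, by simp [mul_assoc]⟩

theorem card_normalizer_H0 :
    Nat.card ↥(normalizer (X.std : Set G) ⊓ H0 z P) = 2 ^ 13 * 17280 := by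
  set N := normalizer (X.std : Set G)
  have e : (N ⊓ H0 z P).subgroupOf (H0 z P) = X.NS.comap X.psi := by
    ext ⟨v, hv⟩
    rw [mem_subgroupOf, mem_comap]
    exact ⟨fun h => (X.mem_normalizer_iff_psi hv).1 h.1, fun h => ⟨(X.mem_normalizer_iff_psi hv).2 h, hv⟩⟩
  have h1 := (X.NS.comap X.psi).card_mul_index
  have h2 := X.NS.card_mul_index
  have h5760 : Nat.card ↥X.NS = 5760 := (X.S.orbit_eq X.hcard).2
  rw [index_comap_of_surjective _ X.psi_surjective, X.L.cardH0] at h1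
  rw [X.hcard, h5760] at h2
  rw [← Nat.card_congr (subgroupOfEquivOfLe (inf_le_right : N ⊓ H0 z P ≤ H0 z P)).toEquiv, e]
  rw [show X.NS.index = 77 by omega] at h1
  omega

theorem card_normalizer_HH :
    Nat.card ↥(normalizer (X.std : Set G) ⊓ HH z) = 2 ^ 11 * 138240 := by
  classical
  set N := normalizer (X.std : Set G)
  have h0 := X.card_normalizer_H0
  have hle : N ⊓ H0 z P ≤ N ⊓ HH z := inf_le_inf_left _ (H0_le_HH z P)
  have h2 : Nat.card ↥(N ⊓ HH z) ≤ Nat.card ↥(N ⊓ H0 z P) * 2 := by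
    refine (card_le_stab_mul (N ⊓ HH z) (N ⊓ H0 z P) (fun a => decide ((a : G) ∈ H0 z P))
      fun a b e => ?_).trans (by rw [show Nat.card Bool = 2 by simp])
    refine mem_inf.2 ⟨mul_mem (inv_mem (mem_inf.1 a.2).1) (mem_inf.1 b.2).1, ?_⟩
    by_cases ha : (a : G) ∈ H0 z P
    · exact mul_mem (inv_mem ha) (by simpa [ha] using e)
    · exact outer_mul X.L (inv_mem (mem_inf.1 a.2).2) (mem_inf.1 b.2).2 (fun h => ha ((inv_mem_iff).1 h)) (by simpa [ha] using e)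
  obtain ⟨h, hh, hh0⟩ : ∃ h ∈ HH z, h ∉ H0 z P := by
    by_contra hcon
    push Not at hcon
    have := Subgroup.card_le_of_le (hcon : HH z ≤ H0 z P)
    rw [X.L.cardH, X.L.cardH0] at this
    norm_num at this
  obtain ⟨d, hd, hdn⟩ := X.exists_CC_mul_normalizer hh
  have hne : N ⊓ H0 z P ≠ N ⊓ HH z := fun e => by
    have hm : d * h ∈ N ⊓ H0 z P := e ▸ ⟨hdn, mul_mem hd.1 hh⟩
    exact hh0 (by simpa using mul_mem (inv_mem (CC_le_H0 z P hd)) hm.2)
  obtain ⟨k, hk⟩ := card_dvd_of_le hle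
  have h1 : k ≠ 1 := fun e => hne (eq_of_le_of_card_ge hle (by rw [hk, e, mul_one]))
  rw [hk, h0] at h2 ⊢
  have h3 : k ≠ 0 := fun e => by
    rw [e, mul_zero] at hk
    exact Nat.card_pos.ne' hk
  rw [show k = 2 by omega]
  norm_num

/-- The subgroup is its own centraliser. -/
theorem centralizer_std : centralizer (X.std : Set G) ≤ X.std := by
  intro g hg
  have hJ := X.L.J
  obtain ⟨p, hp, hp1, -, -⟩ := hJ.exists_gen
  have hcom : ∀ a ∈ X.std, a * g = g * a := fun a ha => mem_centralizer_iff.1 hg a ha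
  have hgH : g ∈ HH z := mem_HH.2 (hcom z X.z_mem_std).symm
  have hfix : ∀ w ∈ X.WV, act z g w = w := fun w hw => by
    obtain ⟨x, hx, rfl⟩ := vk_surj w
    rw [act_vk hgH hx, ← hcom x (X.preV_le_std ⟨hx, hw⟩), mul_inv_cancel_right]
  obtain ⟨w, hw, hw0⟩ : ∃ w ∈ X.WV, w ≠ 0 := by
    by_contra hcon
    push Not at hcon
    have h1 : X.WV = ⊥ := (AddSubgroup.eq_bot_iff_forall _).2 hcon
    have := X.card_WV.1
    rw [h1, AddSubgroup.card_bot] at this
    norm_num at this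
  by_cases hg0 : g ∈ H0 z P
  swap
  · refine absurd ?_ hw0
    have e := act_outer X.L hgH hg0 hp w
    rw [hfix w hw, hfix _ (X.act_P_WV hp hw)] at e
    exact act_fpf hJ hp hp1 (act_injective (hJ.P_le_HH hp) e.symm)
  obtain ⟨c, hc, e, he, rfl⟩ := exists_dec hg0
  have hcE : X.π ⟨c, hc⟩ ∈ X.S.E := by
    rw [← X.S.centralizer_E X.hcard, mem_centralizer_iff]
    intro m hm
    obtain ⟨l, hl, el⟩ := X.exists_lift hm
    have hl0 := CC_le_H0 z P (X.LE_le_CC hl)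
    have e1 : (⟨l, hl0⟩ : ↥(H0 z P)) * ⟨c * e, hg0⟩ = ⟨c * e, hg0⟩ * ⟨l, hl0⟩ :=
      Subtype.ext (hcom l (X.LE_le_std hl))
    have e2 := congrArg X.psi e1
    rw [map_mul, map_mul, X.psi_CC (X.LE_le_CC hl), X.psi_eq hc he, el] at e2
    exact e2
  obtain ⟨l, hl, el⟩ := X.exists_lift hcE
  have hlC := X.LE_le_CC hl
  have hk : l⁻¹ * c ∈ P ⊔ zpowers z := (X.mem_ker_iff (⟨l, hlC⟩⁻¹ * ⟨c, hc⟩)).1 (by
    rw [map_mul, map_inv, el, inv_mul_cancel])
  have hkC : l⁻¹ * c ∈ CC z P := mul_mem (inv_mem hlC) hc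
  have hn : zpowers z ≤ normalizer (P : Set G) := zpowers_le.2 (M22Order.mem_normalizer_of_conj fun q hq => by
    rw [← mem_HH.1 (hJ.P_le_HH hq), mul_inv_cancel_right]; exact hq)
  obtain ⟨q, hq, t, ht, hqt⟩ := (Coprime.mem_sup_of_le_normalizer hn).1 hk
  have htE : t ∈ EE z := zpowers_le.2 X.z_mem_EE ht
  have hq1 : q = 1 := by
    by_contra hne
    refine hw0 (act_fpf hJ hq hne ?_)
    have h2 : act z (l⁻¹ * c) w = w := by
      rw [act_mul (inv_mem hlC.1) hc.1, ← act_mul_EE hJ hc.1 he, hfix w hw]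
      exact hw _ (inv_mem hl)
    rwa [← hqt, act_mul_EE hJ (hJ.P_le_HH hq) htE] at h2
  rw [hq1, one_mul] at hqt
  have hce : c * e = l * (t * e) := by rw [← mul_assoc, hqt, mul_inv_cancel_left]
  rw [hce] at hcom ⊢
  refine mul_mem (X.LE_le_std hl) (X.preV_le_std ⟨mul_mem htE he, ?_⟩)
  rw [← X.card_WV.2]
  intro v hv
  obtain ⟨x, hx, rfl⟩ := vk_surj v
  rw [BB_vk hJ (mul_mem htE he) hx, cm_eq_zero]
  have h2 := hcom x (X.preV_le_std ⟨hx, hv⟩)
  rw [← mul_assoc x, ← X.LE_preV_comm hl ⟨hx, hv⟩, mul_assoc, mul_assoc] at h2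
  exact (mul_left_cancel h2).symm

end Cfsg.Agent.J4Eleven.Chart

namespace Cfsg.Agent.J4V

open Subgroup
open Cfsg.Agent.J4Local
open Cfsg.Agent.J4Eleven

universe u

variable {G : Type u} [Group G] [Finite G] {z : G} {P : Subgroup G}

/-- Elementary abelian of order `2 ^ 11`. -/
structure Big (A : Subgroup G) : Prop where
  sq : ∀ a ∈ A, a * a = 1
  comm : ∀ a ∈ A, ∀ b ∈ A, a * b = b * a
  card : Nat.card A = 2 ^ 11

theorem Big.of_eleven {A : Subgroup G} (h : Eleven z A) : Big A := ⟨h.sq, h.comm, h.card⟩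

theorem Big.eleven {A : Subgroup G} (h : Big A) (hz : z ∈ A) : Eleven z A :=
  ⟨fun a ha => mem_HH.2 (h.comm a ha z hz), h.sq, h.comm, h.card⟩

theorem Big.elementary {A : Subgroup G} (h : Big A) : Cfsg.IsElementaryAbelian 2 A := by
  refine ⟨⟨⟨fun a b => Subtype.ext (h.comm a a.2 b b.2)⟩⟩, fun a ha => ?_⟩
  rw [pow_two]
  exact h.sq a ha

theorem Big.of_elementary {A : Subgroup G} (h : Cfsg.IsElementaryAbelian 2 A)
    (hc : Nat.card A = 2 ^ 11) : Big A :=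
  ⟨fun a ha => by rw [← pow_two]; exact h.2 a ha,
    fun a ha b hb => congrArg Subtype.val (h.1.is_comm.comm (⟨a, ha⟩ : ↥A) ⟨b, hb⟩), hc⟩

theorem Big.conj {A : Subgroup G} (h : Big A) (g : G) : Big (cjS g A) where
  sq := by
    rintro _ ⟨a, ha, rfl⟩
    rw [← map_mul, h.sq a ha, map_one]
  comm := by
    rintro _ ⟨a, ha, rfl⟩ _ ⟨b, hb, rfl⟩
    rw [← map_mul, h.comm a ha b hb, map_mul]
  card := by rw [card_cjS, h.card]

theorem Big.isPGroup {A : Subgroup G} (h : Big A) : IsPGroup 2 A := IsPGroup.of_card (n := 11) h.card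

theorem eq_of_common (hJ : JType z P) {T A B : Subgroup G} (hT : IsPGroup 2 T) (hA : Big A) (hB : Big B)
    (hAT : A ≤ T) (hBT : B ≤ T) : A = B := by
  obtain ⟨Q, hQ⟩ := hT.exists_le_sylow
  exact (sylow_two_existsUnique_eleven hJ Q).unique ⟨hAT.trans hQ, hA.elementary, hA.card⟩
    ⟨hBT.trans hQ, hB.elementary, hB.card⟩

theorem eq_of_normalizes (hJ : JType z P) {A B : Subgroup G} (hA : Big A) (hB : Big B)
    (h : A ≤ normalizer (B : Set G)) : A = B :=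
  eq_of_common hJ (hA.isPGroup.to_sup_of_normal_right' hB.isPGroup h) hA hB le_sup_left le_sup_right

theorem exists_conj_big (hJ : JType z P) {A B : Subgroup G} (hA : Big A) (hB : Big B) :
    ∃ g : G, cjS g A = B := by
  haveI : Fact (Nat.Prime 2) := ⟨Nat.prime_two⟩
  obtain ⟨Q, hQ⟩ := hA.isPGroup.exists_le_sylow
  obtain ⟨R, hR⟩ := hB.isPGroup.exists_le_sylow
  obtain ⟨g, hg⟩ := MulAction.exists_smul_eq G Q R
  refine ⟨g, eq_of_common hJ R.isPGroup' (hA.conj g) hB ?_ hR⟩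
  rw [← hg]
  exact Subgroup.map_mono hQ

/-- The normaliser controls fusion in the subgroup. -/
theorem fusion (hJ : JType z P) {A : Subgroup G} (hA : Big A) {v g : G} (hv : v ∈ A)
    (hg : g * v * g⁻¹ ∈ A) : ∃ n ∈ normalizer (A : Set G), n * v * n⁻¹ = g * v * g⁻¹ := by
  haveI : Fact (Nat.Prime 2) := ⟨Nat.prime_two⟩
  set y := g * v * g⁻¹ with hy
  set C := centralizer ({y} : Set G) with hC
  have h1 : A ≤ C := fun a ha => mem_centralizer_singleton_iff.2 (hA.comm a ha y hg)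
  have h2 : cjS g A ≤ C := fun a ha => mem_centralizer_singleton_iff.2
    ((hA.conj g).comm a ha y ⟨v, hv, rfl⟩)
  obtain ⟨Q, hQ⟩ := (hA.isPGroup.comap_of_injective _ C.subtype_injective :
    IsPGroup 2 (A.subgroupOf C)).exists_le_sylow
  obtain ⟨R, hR⟩ := ((hA.conj g).isPGroup.comap_of_injective _ C.subtype_injective :
    IsPGroup 2 ((cjS g A).subgroupOf C)).exists_le_sylow
  obtain ⟨⟨c, hc⟩, hcR⟩ := MulAction.exists_smul_eq C R Q
  have hsub : cjS (c * g) A ≤ (Q : Subgroup C).map C.subtype := by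
    rintro _ ⟨a, ha, rfl⟩
    have hga : g * a * g⁻¹ ∈ cjS g A := ⟨a, ha, rfl⟩
    refine ⟨⟨c, hc⟩ * ⟨g * a * g⁻¹, h2 hga⟩ * ⟨c, hc⟩⁻¹, ?_, by simp [mul_assoc]⟩
    rw [← hcR]
    exact ⟨_, hR (mem_subgroupOf.2 hga), rfl⟩
  have e := eq_of_common hJ (Q.isPGroup'.map C.subtype) (hA.conj (c * g)) hA hsub fun a ha =>
    ⟨⟨a, h1 ha⟩, hQ (mem_subgroupOf.2 ha), rfl⟩
  refine ⟨c * g, M22Order.mem_normalizer_of_conj fun a ha => ?_, ?_⟩
  · have hmem : c * g * a * (c * g)⁻¹ ∈ cjS (c * g) A := ⟨a, ha, rfl⟩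
    exact e ▸ hmem
  · calc c * g * v * (c * g)⁻¹ = c * y * c⁻¹ := by rw [hy]; group
      _ = y := by rw [mem_centralizer_singleton_iff.1 hc, mul_inv_cancel_right]

end Cfsg.Agent.J4V
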